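import Mathlib
import Cfsg.Agent.Lib.CosetCert.Basic

/-!
Coset tables for the icosahedral groups: `⟨x, y | x³, y⁵, (xy)²⟩` has order at most 60 and
`⟨x, y, z | x³, y⁵, z², [x, z], (xy)² = z⟩` order at most 120.
-/

set_option autoImplicit false

namespace CfsgLib.Recognition

open CosetCert (act pt)

theorem card_le_of_check {M : Type*} [Group M] {C : CosetCert.Data} {tree : List (ℕ × ℕ)}
    {steps : List (ℕ × ℕ × ℕ)} (hc : CosetCert.check C tree steps = true) (gen : ℕ → M) (hn : 0 < C.n)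
    (hiv : ∀ g, g < C.ng → gen (C.iv g) = (gen g)⁻¹) (hrel : ∀ w ∈ C.rels, act gen w = 1)
    (hsub : C.subs = []) (ivLt : ∀ g, g < C.ng → C.iv g < C.ng) (hgen : Subgroup.closure (gen '' Set.Iio C.ng) = ⊤) :
    Finite M ∧ Nat.card M ≤ C.n := by
  obtain ⟨h0, hT⟩ := CosetCert.check_sound (gen := gen) (x₀ := (1 : M)) hc hiv hrel (by simp [hsub])
  have hstep : ∀ g ∈ gen '' Set.Iio C.ng, ∀ m : M, (∃ i, i < C.n ∧ pt C gen (1 : M) i = m) →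
      ∃ i, i < C.n ∧ pt C gen (1 : M) i = g * m := by
    rintro _ ⟨j, hj, rfl⟩ m ⟨i, hi, rfl⟩
    exact ⟨_, (hT i j hi hj).1, (hT i j hi hj).2.symm⟩
  have hsurj : ∀ m : M, ∃ i, i < C.n ∧ pt C gen (1 : M) i = m := by
    intro m
    have hm : m ∈ Subgroup.closure (gen '' Set.Iio C.ng) := hgen ▸ Subgroup.mem_top m
    induction hm using Subgroup.closure_induction_left with
    | one => exact ⟨0, hn, h0⟩
    | mul_left g hg y _ ih => exact hstep g hg y ih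
    | inv_mul_cancel g hg y _ ih =>
      obtain ⟨j, hj, rfl⟩ := hg
      rw [← hiv j hj]
      exact hstep _ ⟨C.iv j, ivLt j hj, rfl⟩ y ih
  have hs : Function.Surjective (fun i : Fin C.n => pt C gen (1 : M) i) := fun m => by
    obtain ⟨i, hi, h⟩ := hsurj m
    exact ⟨⟨i, hi⟩, h⟩
  exact ⟨Finite.of_surjective _ hs, (Nat.card_le_card_of_surjective _ hs).trans (Nat.card_fin _).le⟩

/-- The coset table. -/
def a5Data : CosetCert.Data where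
  n := 60
  ng := 4
  iv := fun g => (g + 2) % 4
  tbl := fun i g => (([[1,2,3,4],[3,5,0,6],[7,8,9,0],[0,10,1,7],[11,0,5,12],[4,13,11,1],[14,1,10,15],[9,3,2,16],[17,12,18,2],[2,19,7,17],[6,20,14,3],[5,21,4,22],[23,4,21,8],[22,15,24,5],[10,25,6,26],[27,6,25,13],[28,7,19,20],[18,9,8,29],[8,30,17,23],[16,31,28,9],[26,16,32,10],[12,33,23,11],[24,11,13,34],[21,18,12,35],[13,36,22,27],[15,37,27,14],[32,14,20,38],[25,24,15,39],[19,32,16,40],[41,17,30,31],[29,42,41,18],[40,29,43,19],[20,44,26,28],[35,34,45,21],[46,22,36,33],[45,23,33,42],[34,47,46,24],[39,38,48,25],[49,26,44,37],[48,27,37,47],[43,28,31,50],[30,43,29,51],[51,35,52,30],[31,53,40,41],[38,50,49,32],[33,52,35,46],[36,45,34,54],[54,39,55,36],[37,55,39,49],[44,48,38,56],[56,40,53,44],[52,41,42,57],[42,58,51,45],[50,57,56,43],[55,46,47,58],[47,59,54,48],[53,49,50,59],[59,51,58,53],[57,54,59,52],[58,56,57,55]]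 : List (List ℕ)).getD i []).getD g 0
  rep := fun i => ([[],[0],[1],[2],[3],[0,1],[0,3],[1,0],[1,1],[1,2],[2,1],[3,0],[3,3],[0,1,1],[0,3,0],[0,3,3],[1,0,3],[1,1,0],[1,1,2],[1,2,1],[2,1,1],[3,0,1],[3,0,3],[3,3,0],[0,1,1,2],[0,3,0,1],[0,3,0,3],[0,3,3,0],[1,0,3,0],[1,1,0,3],[1,1,2,1],[1,2,1,1],[2,1,1,2],[3,0,1,1],[3,0,3,3],[3,3,0,3],[0,1,1,2,1],[0,3,0,1,1],[0,3,0,3,3],[0,3,3,0,3],[1,0,3,0,3],[1,1,0,3,0],[1,1,2,1,1],[1,2,1,1,2],[2,1,1,2,1],[3,0,1,1,2],[3,0,3,3,0],[0,1,1,2,1,1],[0,3,0,1,1,2],[0,3,0,3,3,0],[1,0,3,0,3,3],[1,1,0,3,0,3],[1,1,2,1,1,2],[1,2,1,1,2,1],[3,0,3,3,0,3],[0,1,1,2,1,1,2],[0,3,0,3,3,0,3],[1,1,0,3,0,3,3],[1,1,2,1,1,2,1],[0,1,1,2,1,1,2,1]] : List (List ℕ)).getD i []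
  rels := [[0,0,0],[1,1,1,1,1],[0,1,0,1]]
  subs := []

theorem a5Data_check : CosetCert.check a5Data [(0,0),(0,1),(0,2),(0,3),(1,1),(1,3),(2,0),(2,1),(2,2),(3,1),(4,0),(4,3),(5,1),(6,0),(6,3),(7,3),(8,0),(8,2),(9,1),(10,1),(11,1),(11,3),(12,0),(13,2),(14,1),(14,3),(15,0),(16,0),(17,3),(18,1),(19,1),(20,2),(21,1),(22,3),(23,3),(24,1),(25,1),(26,3),(27,3),(28,3),(29,0),(30,1),(31,2),(32,1),(33,2),(34,0),(36,1),(37,2),(38,0),(40,3),(41,3),(42,2),(43,1),(46,3),(47,2),(49,3),(51,3),(52,1),(55,1)] [(0,0,1),(0,1,2),(0,2,2),(1,1,2),(1,2,2),(2,0,1),(2,2,1),(3,1,2),(4,0,1),(4,2,2),(6,0,1),(6,2,2),(7,2,2),(8,0,1),(8,2,1),(9,1,2),(11,1,2),(11,2,2),(12,0,1),(12,2,1),(13,0,1),(14,1,2),(14,2,2),(15,0,1),(15,2,1),(16,0,1),(16,2,1),(17,2,2),(18,1,2),(20,0,1),(22,2,2),(23,2,2),(24,1,2),(26,2,2),(27,2,2),(28,1,2),(28,2,2),(29,0,1),(29,2,1),(31,0,1),(33,0,1),(34,0,1),(34,2,1),(35,2,1),(37,0,1),(38,0,1),(38,2,1),(39,2,1),(40,2,2),(41,1,2),(41,2,2),(42,0,1),(45,1,2),(46,2,2),(47,0,1),(48,1,2),(49,2,2),(50,0,1),(51,2,2),(54,2,2),(56,2,2)]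 = true := by
  decide +kernel

/-- The coset table. -/
def sl25Data : CosetCert.Data where
  n := 120
  ng := 6
  iv := fun g => (g + 3) % 6
  tbl := fun i g => (([[1,2,3,4,5,3],[4,6,7,0,8,7],[9,10,11,12,0,11],[7,11,0,13,14,0],[0,15,13,1,16,13],[17,0,14,18,19,14],[14,20,18,21,1,18],[13,18,1,3,22,1],[23,1,22,24,25,22],[12,13,16,2,26,16],[27,19,28,29,2,28],[16,28,2,30,3,2],[2,31,30,9,32,30],[3,24,4,7,9,4],[21,3,5,6,33,5],[22,34,24,35,4,24],[30,4,9,11,36,9],[18,37,21,5,38,21],[5,39,6,17,7,6],[40,5,33,41,10,33],[38,25,39,42,6,39],[6,41,17,14,43,17],[35,7,8,15,44,8],[24,45,35,8,46,35],[8,47,15,23,13,15],[48,8,44,49,20,44],[50,9,36,51,47,36],[29,30,32,10,52,32],[32,33,10,53,11,10],[10,54,53,27,55,53],[11,51,12,16,27,12],[36,56,51,57,12,51],[53,12,27,28,58,27],[55,14,19,37,28,19],[46,36,47,59,15,47],[15,49,23,22,60,23],[57,16,26,31,34,26],[33,61,41,55,17,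41],[42,17,43,20,62,43],[43,44,20,63,18,20],[41,53,55,19,64,55],[19,65,37,40,21,37],[20,66,63,38,67,63],[63,21,38,39,68,38],[67,22,25,45,39,25],[44,69,49,67,23,49],[59,23,60,34,70,60],[60,26,34,71,24,34],[49,63,67,25,72,67],[25,73,45,48,35,45],[51,59,57,26,74,57],[26,75,31,50,30,31],[76,27,58,77,75,58],[28,77,29,32,40,29],[58,78,77,79,29,77],[37,29,40,33,80,40],[74,58,75,81,31,75],[31,71,50,36,82,50],[79,32,52,54,56,52],[34,83,71,46,50,71],[71,35,46,47,84,46],[64,62,65,85,37,65],[86,38,68,87,61,68],[39,87,42,43,48,42],[85,40,80,61,88,80],[80,68,61,89,41,61],[68,90,87,91,42,87],[45,42,48,44,92,48],[91,43,62,66,65,62],[72,70,73,93,45,73],[94,46,84,95,69,84],[47,95,59,60,57,59],[93,48,92,69,96,92],[92,84,69,97,49,69],[81,50,82,56,98,82],[82,52,56,99,51,56],[77,81,79,52,100,79],[52,88,54,76,53,54],[100,80,88,101,54,88],[54,99,76,58,102,76],[89,55,64,65,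78,64],[56,103,99,74,76,99],[99,57,74,75,104,74],[84,98,95,105,59,95],[105,60,70,83,73,70],[61,101,89,64,91,89],[87,89,91,62,106,91],[62,96,66,86,63,66],[102,64,78,107,77,78],[65,107,85,80,86,85],[106,92,96,108,66,96],[66,85,86,68,109,86],[97,67,72,73,90,72],[69,108,97,72,105,97],[95,97,105,70,110,105],[70,104,83,94,71,83],[109,72,90,111,87,90],[73,111,93,92,94,93],[110,74,104,112,83,104],[75,112,81,82,79,81],[101,76,102,78,113,102],[78,114,107,100,85,107],[107,79,100,88,115,100],[104,113,112,116,81,112],[116,82,98,103,95,98],[83,93,94,84,116,94],[108,86,109,90,117,109],[88,117,101,102,89,101],[90,118,111,106,93,111],[111,91,106,96,114,106],[112,94,116,98,119,116],[96,119,108,109,97,108],[98,115,103,110,99,103],[119,100,115,117,103,115],[115,109,117,118,101,117],[118,102,113,114,112,113],[103,105,110,104,118,110],[113,106,114,119,107,114],[114,116,119,115,108,119],[117,110,118,113,111,118]]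 : List (List ℕ)).getD i []).getD g 0
  rep := fun i => ([[],[0],[1],[2],[3],[4],[0,1],[0,2],[0,4],[1,0],[1,1],[1,2],[1,3],[2,3],[2,4],[3,1],[3,4],[4,0],[4,3],[4,4],[0,1,1],[0,1,3],[0,2,4],[0,4,0],[0,4,3],[0,4,4],[1,0,4],[1,1,0],[1,1,2],[1,1,3],[1,2,3],[1,3,1],[1,3,4],[2,4,4],[3,1,1],[3,1,3],[3,4,4],[4,0,1],[4,0,4],[4,3,1],[4,4,0],[4,4,3],[0,1,1,3],[0,1,3,4],[0,2,4,4],[0,4,0,1],[0,4,0,4],[0,4,3,1],[0,4,4,0],[0,4,4,3],[1,0,4,0],[1,0,4,3],[1,1,0,4],[1,1,2,3],[1,1,3,1],[1,1,3,4],[1,3,1,1],[1,3,1,3],[1,3,4,4],[3,1,1,3],[3,1,3,4],[4,0,1,1],[4,0,4,4],[4,3,1,3],[4,4,0,4],[4,4,3,1],[0,1,1,3,1],[0,1,1,3,4],[0,1,3,4,4],[0,4,0,1,1],[0,4,0,4,4],[0,4,3,1,3],[0,4,4,0,4],[0,4,4,3,1],[1,0,4,0,4],[1,0,4,3,1],[1,1,0,4,0],[1,1,0,4,3],[1,1,3,1,1],[1,1,3,1,3],[1,1,3,4,4],[1,3,1,1,3],[1,3,1,3,4],[3,1,1,3,1],[3,1,3,4,4],[4,0,1,1,3],[4,0,4,4,0],[4,0,4,4,3],[4,4,0,4,4],[4,4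,3,1,3],[0,1,1,3,1,1],[0,1,1,3,1,3],[0,1,1,3,4,4],[0,4,0,1,1,3],[0,4,0,4,4,0],[0,4,0,4,4,3],[0,4,4,0,4,4],[0,4,4,3,1,3],[1,0,4,0,4,4],[1,0,4,3,1,3],[1,1,0,4,0,4],[1,1,3,1,1,3],[1,1,3,1,3,4],[1,3,1,1,3,1],[1,3,1,3,4,4],[3,1,1,3,1,3],[4,0,4,4,0,4],[4,4,0,4,4,3],[0,1,1,3,1,1,3],[0,1,1,3,1,3,4],[0,4,0,4,4,0,4],[0,4,4,0,4,4,3],[1,0,4,0,4,4,3],[1,1,0,4,0,4,4],[1,1,3,1,1,3,1],[1,1,3,1,3,4,4],[1,3,1,1,3,1,3],[4,0,4,4,0,4,4],[0,1,1,3,1,1,3,1],[0,4,0,4,4,0,4,4]] : List (List ℕ)).getD i []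
  rels := [[0,0,0],[1,1,1,1,1],[2,2],[3,2,0,5],[1,0,1,0,5]]
  subs := []

theorem sl25Data_check : CosetCert.check sl25Data [(0,0),(0,1),(0,2),(0,3),(0,4),(1,1),(1,2),(1,4),(2,0),(2,1),(2,2),(2,3),(3,3),(3,4),(4,1),(4,4),(5,0),(5,3),(5,4),(6,1),(6,3),(7,4),(8,0),(8,3),(8,4),(9,4),(10,0),(10,2),(10,3),(11,3),(12,1),(12,4),(14,4),(15,1),(15,3),(16,4),(17,1),(17,4),(18,1),(19,0),(19,3),(20,3),(21,4),(22,4),(23,1),(23,4),(24,1),(25,0),(25,3),(26,0),(26,3),(27,4),(28,3),(29,1),(29,4),(31,1),(31,3),(32,4),(34,3),(35,4),(37,1),(38,4),(39,3),(40,4),(41,1),(42,1),(42,4),(43,4),(45,1),(46,4),(47,3),(48,4),(49,1),(50,4),(51,1),(52,0),(52,3),(54,1),(54,3),(55,4),(56,3),(57,4),(59,1),(60,4),(61,3),(62,0),(62,3),(64,4),(65,3),(66,1),(66,3),(67,4),(69,3),(70,0),(70,3),(72,4),(73,3),(74,4),(75,3),(76,4),(78,3),(79,4),(81,1),(82,4),(83,3),(86,4),(88,3),(90,3),(91,4),(94,4),(96,3),(98,3),(100,4),(101,1),(102,4),(103,3),(106,4),(108,1),(110,4)]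 [(0,0,1),(0,1,2),(0,2,1),(0,3,1),(0,4,2),(1,1,2),(1,2,1),(1,3,2),(1,4,1),(2,0,1),(2,2,1),(2,3,1),(2,4,2),(3,0,1),(3,3,1),(4,1,2),(4,4,1),(5,0,1),(5,4,4),(6,0,1),(7,4,0),(8,0,1),(8,4,4),(10,0,1),(10,2,1),(10,3,1),(10,4,2),(11,3,1),(12,1,2),(13,4,0),(14,2,0),(14,3,1),(15,0,1),(16,4,4),(17,1,2),(17,3,3),(17,4,1),(18,1,1),(18,2,0),(18,4,1),(19,0,1),(19,4,4),(21,2,0),(21,4,0),(22,2,0),(22,3,1),(23,1,2),(23,3,3),(23,4,1),(24,1,1),(24,2,0),(24,4,1),(25,0,1),(25,4,4),(26,0,1),(28,3,1),(29,1,2),(30,3,0),(30,4,0),(32,4,4),(33,2,0),(33,3,1),(35,2,0),(35,4,0),(36,4,4),(37,2,1),(37,4,1),(38,4,4),(39,0,1),(41,1,1),(42,1,2),(43,2,0),(43,4,3),(44,2,0),(44,3,1),(45,2,1),(45,4,1),(46,4,4),(47,0,1),(49,1,1),(51,1,1),(52,0,1),(53,3,0),(53,4,0),(55,4,4),(58,4,4),(60,2,0),(60,4,3),(61,0,1),(62,0,1),(64,1,3),(67,4,4),(69,0,1),(70,0,1),(9,2,0),(9,3,2),(9,4,2),(12,4,1),(20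,0,1),(26,2,0),(26,3,1),(27,2,0),(27,3,2),(27,4,2),(28,1,0),(28,4,1),(29,4,1),(31,0,1),(31,2,0),(31,3,1),(31,4,1),(33,0,1),(34,0,1),(38,3,1),(39,2,0),(39,3,1),(39,4,1),(40,2,0),(41,4,1),(42,2,0),(42,4,1),(44,0,1),(46,3,1),(47,2,0),(47,3,1),(47,4,2),(48,2,0),(48,4,0),(49,4,1),(50,1,2),(50,2,0),(51,4,1),(52,2,0),(52,3,1),(54,0,1),(54,2,0),(54,3,1),(54,4,1),(56,0,1),(57,4,0),(59,2,0),(59,4,1),(62,4,4),(63,4,0),(64,4,4),(65,0,1),(66,0,1),(68,2,0),(68,3,1),(70,4,4),(71,4,0),(72,1,3),(72,4,4),(73,0,1),(74,4,4),(75,0,1),(76,2,0),(76,4,0),(77,4,1),(78,0,1),(79,4,0),(80,2,0),(80,3,1),(81,1,1),(81,3,3),(81,4,1),(82,1,3),(82,2,0),(82,3,1),(83,0,1),(84,2,0),(84,3,1),(85,3,3),(85,4,0),(86,3,3),(86,4,0),(87,2,0),(87,4,1),(88,0,1),(88,4,4),(89,2,0),(89,4,0),(91,2,0),(91,4,0),(92,2,0),(92,3,1),(93,3,3),(93,4,0),(94,3,3),(94,4,0),(95,2,0),(96,0,1),(96,4,4),(97,2,0),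(97,4,0),(98,4,4),(99,2,0),(99,4,0),(100,4,4),(101,1,1),(101,3,3),(101,4,1),(102,1,3),(102,2,0),(103,0,1),(104,2,0),(104,3,1),(105,2,0),(105,4,0),(106,1,3),(106,4,4),(107,2,0),(107,4,1),(109,2,0),(109,3,2),(110,1,3),(110,4,4),(112,2,0),(112,3,0),(113,4,4),(115,2,0),(115,3,1),(116,2,0),(116,3,2),(116,4,0),(117,2,0),(118,1,0),(56,2,0),(61,2,0),(69,2,0),(78,2,0),(90,0,1),(90,2,0),(90,3,1),(96,3,1),(103,4,1),(108,4,1),(111,4,1),(112,4,1),(114,3,1),(117,3,1)] = true := by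
  decide +kernel

/-- A group generated by `x, y` with `x³ = y⁵ = (xy)² = 1` has order at most 60. -/
theorem card_le_sixty {M : Type*} [Group M] {x y : M} (hgen : Subgroup.closure {x, y} = ⊤)
    (hx : x ^ 3 = 1) (hy : y ^ 5 = 1) (hxy : (x * y) ^ 2 = 1) : Finite M ∧ Nat.card M ≤ 60 := by
  let gen : ℕ → M := fun g => [x, y, x⁻¹, y⁻¹].getD g 1
  refine card_le_of_check a5Data_check gen (by decide) ?_ ?_ rfl
    (fun g _ => Nat.mod_lt _ (by decide)) (top_le_iff.1 ?_)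
  · intro g hg
    change g < 4 at hg
    interval_cases g <;> simp [gen, a5Data]
  · intro w hw
    simp only [a5Data, List.mem_cons, List.not_mem_nil, or_false] at hw
    rcases hw with rfl | rfl | rfl
    · simpa [act, gen, pow_succ, mul_assoc] using hx
    · simpa [act, gen, pow_succ, mul_assoc] using hy
    · have : (y * x) ^ 2 = 1 := by
        have e : (y * x) ^ 2 = x⁻¹ * (x * y) ^ 2 * x := by simp [pow_two, mul_assoc]
        rw [e, hxy]; group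
      simpa [act, gen, pow_two, mul_assoc] using this
  · rw [← hgen]
    refine Subgroup.closure_mono ?_
    rintro z (rfl | rfl)
    · exact ⟨0, by show (0 : ℕ) < 4; norm_num, rfl⟩
    · exact ⟨1, by show (1 : ℕ) < 4; norm_num, rfl⟩

/-- A group generated by `x, y, z` with the relations of the binary icosahedral group has order at
most 120. -/
theorem card_le_oneTwenty {M : Type*} [Group M] {x y z : M} (hgen : Subgroup.closure {x, y, z} = ⊤)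
    (hx : x ^ 3 = 1) (hy : y ^ 5 = 1) (hz : z ^ 2 = 1) (hzx : z⁻¹ * x * z * x⁻¹ = 1)
    (hxy : (x * y) ^ 2 * z⁻¹ = 1) : Finite M ∧ Nat.card M ≤ 120 := by
  let gen : ℕ → M := fun g => [x, y, z, x⁻¹, y⁻¹, z⁻¹].getD g 1
  refine card_le_of_check sl25Data_check gen (by decide) ?_ ?_ rfl
    (fun g _ => Nat.mod_lt _ (by decide)) (top_le_iff.1 ?_)
  · intro g hg
    change g < 6 at hg
    interval_cases g <;> simp [gen, sl25Data]
  · intro w hw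
    simp only [sl25Data, List.mem_cons, List.not_mem_nil, or_false] at hw
    rcases hw with rfl | rfl | rfl | rfl | rfl
    · simpa [act, gen, pow_succ, mul_assoc] using hx
    · simpa [act, gen, pow_succ, mul_assoc] using hy
    · simpa [act, gen, pow_succ, mul_assoc] using hz
    · simpa [act, gen, mul_assoc] using hzx
    · have e : x * y * (x * y) = z := by rw [← pow_two, mul_inv_eq_one.1 hxy]
      simp only [act, gen, List.getD_cons_zero, List.getD_cons_succ, one_mul]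
      rw [← e]; group
  · rw [← hgen]
    refine Subgroup.closure_mono ?_
    rintro w (rfl | rfl | rfl)
    · exact ⟨0, by show (0 : ℕ) < 6; norm_num, rfl⟩
    · exact ⟨1, by show (1 : ℕ) < 6; norm_num, rfl⟩
    · exact ⟨2, by show (2 : ℕ) < 6; norm_num, rfl⟩

end CfsgLib.Recognition
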