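import Mathlib

/-!
Primitive prime divisors of `q ^ n - 1`: a lower bound for cyclotomic values and the refined theorem of Zsigmondy.
-/

set_option autoImplicit false

namespace CfsgLib.Recognition.Zsigmondy

open Polynomial Finset

theorem two_mul_totient_sq (n : ℕ) : n ≤ 2 * n.totient ^ 2 ∧ (Odd n → n ≤ n.totient ^ 2) := by
  induction n using Nat.recOnPosPrimePosCoprime with
  | prime_pow p k hp hk =>
    rw [Nat.totient_prime_pow hp hk]
    obtain ⟨k, rfl⟩ : ∃ j, k = j + 1 := ⟨k - 1, by omega⟩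
    rw [Nat.add_sub_cancel, pow_succ]
    have h1 : p ^ k ≤ (p ^ k) ^ 2 := Nat.le_self_pow (by norm_num) _
    have hp2 := hp.two_le
    refine ⟨?_, fun ho => ?_⟩
    · obtain ⟨t, rfl⟩ : ∃ t, p = t + 2 := ⟨p - 2, by omega⟩
      rw [show t + 2 - 1 = t + 1 by omega, mul_pow]
      calc (t + 2) ^ k * (t + 2) ≤ ((t + 2) ^ k) ^ 2 * (2 * (t + 1) ^ 2) :=
            Nat.mul_le_mul h1 (by nlinarith)
        _ = _ := by ring
    · have h3 : 3 ≤ p := by
        rcases hp.eq_two_or_odd with rfl | h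
        · exact absurd ho (by simp [Nat.even_mul, Nat.not_odd_iff_even])
        · omega
      obtain ⟨t, rfl⟩ : ∃ t, p = t + 3 := ⟨p - 3, by omega⟩
      rw [show t + 3 - 1 = t + 2 by omega, mul_pow]
      exact Nat.mul_le_mul h1 (by nlinarith)
  | zero => simp
  | one => simp
  | coprime a b ha hb hab iha ihb =>
    rw [Nat.totient_mul hab]
    have hodd : Odd a ∨ Odd b := by
      rcases Nat.even_or_odd a with h | h
      · rcases Nat.even_or_odd b with h' | h'
        · have h2 := Nat.dvd_gcd h.two_dvd h'.two_dvd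
          rw [hab.gcd_eq_one] at h2
          norm_num at h2
        · exact Or.inr h'
      · exact Or.inl h
    refine ⟨?_, fun ho => ?_⟩
    · rcases hodd with h | h
      · calc a * b ≤ a.totient ^ 2 * (2 * b.totient ^ 2) := Nat.mul_le_mul (iha.2 h) ihb.1
          _ = _ := by ring
      · calc a * b ≤ 2 * a.totient ^ 2 * b.totient ^ 2 := Nat.mul_le_mul iha.1 (ihb.2 h)
          _ = _ := by ring
    · obtain ⟨h1, h2⟩ := Nat.odd_mul.1 ho
      exact (Nat.mul_le_mul (iha.2 h1) (ihb.2 h2)).trans_eq (by ring)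

theorem quarter_le_prod (n : ℕ) : 1 / 4 + (1 / 2 : ℝ) ^ (n + 2) ≤
    ∏ d ∈ Finset.Icc 1 (n + 1), (1 - (1 / 2 : ℝ) ^ d) := by
  induction n with
  | zero => norm_num
  | succ n ih =>
    rw [Finset.prod_Icc_succ_top (by omega)]
    set x := (1 / 2 : ℝ) ^ (n + 2) with hx
    have hx0 : 0 < x := by positivity
    have hx1 : x ≤ 1 / 4 := by
      rw [hx, show (1 / 4 : ℝ) = (1 / 2) ^ 2 by norm_num]
      exact pow_le_pow_of_le_one (by norm_num) (by norm_num) (by omega)
    rw [show n + 1 + 2 = (n + 2) + 1 from rfl, pow_succ, ← hx]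
    nlinarith [mul_le_mul_of_nonneg_right ih (by linarith : (0 : ℝ) ≤ 1 - x)]

theorem pow_totient_le_eval {n : ℕ} (hn : 0 < n) {q : ℝ} (hq : 2 ≤ q) :
    q ^ n.totient ≤ 4 * (cyclotomic n ℝ).eval q := by
  have hq1 : 1 < q := by linarith
  have hA := (ArithmeticFunction.prod_eq_iff_prod_pow_moebius_eq_of_nonzero
    (f := fun i => (cyclotomic i ℝ).eval q) (g := fun i => q ^ i - 1)
    (fun i _ => (cyclotomic_pos' i hq1).ne')
    (fun i hi => (sub_pos.2 (one_lt_pow₀ hq1 hi.ne')).ne')).1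
    (fun i hi => by
      rw [← Polynomial.eval_prod, prod_cyclotomic_eq_X_pow_sub_one hi]
      simp) n hn
  have hB := (ArithmeticFunction.prod_eq_iff_prod_pow_moebius_eq_of_nonzero
    (f := fun i => q ^ i.totient) (g := fun i => q ^ i)
    (fun i _ => pow_ne_zero _ (by linarith)) (fun i _ => pow_ne_zero _ (by linarith))).1
    (fun i _ => by rw [Finset.prod_pow_eq_pow_sum, Nat.sum_totient]) n hn
  have hx : ∀ d : ℕ, d ≠ 0 → 0 < 1 - (q⁻¹) ^ d ∧ 1 - (q⁻¹) ^ d ≤ 1 := fun d hd =>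
    ⟨sub_pos.2 (pow_lt_one₀ (by positivity) (inv_lt_one_of_one_lt₀ hq1) hd),
      sub_le_self _ (by positivity)⟩
  have hsplit : ∀ d : ℕ, q ^ d - 1 = q ^ d * (1 - (q⁻¹) ^ d) := fun d => by
    rw [mul_sub, mul_one, ← mul_pow, mul_inv_cancel₀ (by linarith : q ≠ 0), one_pow]
  simp only [hsplit, mul_zpow, Finset.prod_mul_distrib] at hA
  rw [hB] at hA
  have hq0 : 0 < q ^ n.totient := by positivity
  rw [← hA]
  suffices h : 1 / 4 ≤ ∏ x ∈ n.divisorsAntidiagonal, (1 - (q⁻¹) ^ x.snd) ^ (ArithmeticFunction.moebius x.fst) by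
    nlinarith
  calc (1 / 4 : ℝ) ≤ ∏ d ∈ Finset.Icc 1 (n - 1 + 1), (1 - (1 / 2 : ℝ) ^ d) :=
        le_trans (le_add_of_nonneg_right (by positivity)) (quarter_le_prod (n - 1))
    _ ≤ ∏ d ∈ Finset.Icc 1 n, (1 - (q⁻¹) ^ d) := by
        rw [Nat.sub_add_cancel hn]
        refine Finset.prod_le_prod (fun d hd => ?_) fun d hd => ?_
        · simp only [sub_nonneg]
          exact pow_le_one₀ (by norm_num) (by norm_num)
        · gcongr
          rw [one_div]
          exact inv_anti₀ (by norm_num) hq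
    _ ≤ ∏ d ∈ n.divisors, (1 - (q⁻¹) ^ d) := by
        refine Finset.prod_le_prod_of_subset_of_le_one ?_ ?_ ?_
        · intro d hd
          exact Finset.mem_Icc.2 ⟨Nat.pos_of_mem_divisors hd, Nat.divisor_le hd⟩
        · intro d hd
          exact (hx d (by have := Finset.mem_Icc.1 hd; omega)).1.le
        · intro d hd _
          exact (hx d (by have := Finset.mem_Icc.1 hd; omega)).2
    _ = ∏ x ∈ n.divisorsAntidiagonal, (1 - (q⁻¹) ^ x.snd) := by
        rw [Nat.prod_divisorsAntidiagonal (f := fun _ b => 1 - (q⁻¹) ^ b),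
          ← Nat.prod_div_divisors n (fun d => 1 - (q⁻¹) ^ d)]
    _ ≤ _ := by
        refine Finset.prod_le_prod (fun x hxm => ?_) fun x hxm => ?_
        all_goals
          obtain ⟨hx1, hx2⟩ := hx x.snd (by
            have := Nat.mem_divisorsAntidiagonal.1 hxm
            intro h
            rw [h, mul_zero] at this
            exact this.2 this.1.symm)
        · exact hx1.le
        · rcases ArithmeticFunction.moebius_eq_or x.fst with h | h | h <;> rw [h]
          · simpa using hx2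
          · simp
          · rw [zpow_neg_one]
            exact hx2.trans ((one_le_inv₀ hx1).2 hx2)

/-- The value of a cyclotomic polynomial, as a natural number. -/
noncomputable def val (n q : ℕ) : ℕ := ((cyclotomic n ℤ).eval (q : ℤ)).natAbs

theorem cast_val {n q : ℕ} (hn : 2 < n) : ((val n q : ℕ) : ℤ) = (cyclotomic n ℤ).eval (q : ℤ) :=
  Int.natAbs_of_nonneg (cyclotomic_pos hn (q : ℤ)).le

theorem pow_totient_le_val {n q : ℕ} (hn : 2 < n) (hq : 2 ≤ q) : q ^ n.totient ≤ 4 * val n q := by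
  have h := pow_totient_le_eval (n := n) (by omega) (q := (q : ℝ)) (by exact_mod_cast hq)
  have h2 : (cyclotomic n ℝ).eval (q : ℝ) = ((val n q : ℕ) : ℝ) := by
    rw [← map_cyclotomic n (Int.castRingHom ℝ), Polynomial.eval_map]
    have h3 := Polynomial.eval₂_at_apply (p := cyclotomic n ℤ) (Int.castRingHom ℝ) (q : ℤ)
    simp only [eq_intCast, Int.cast_natCast] at h3
    rw [h3, ← cast_val hn, Int.cast_natCast]
  rw [h2] at h
  exact_mod_cast h

theorem isRoot_of_dvd {n q p : ℕ} (hn : 2 < n) (hp : p ∣ val n q) :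
    (cyclotomic n (ZMod p)).IsRoot (q : ZMod p) := by
  have h : ((val n q : ℤ) : ZMod p) = 0 := by
    rw [Int.cast_natCast, ZMod.natCast_eq_zero_iff]
    exact hp
  rw [cast_val hn] at h
  rw [IsRoot.def, ← map_cyclotomic n (Int.castRingHom (ZMod p)), Polynomial.eval_map]
  have h3 := Polynomial.eval₂_at_apply (p := cyclotomic n ℤ) (Int.castRingHom (ZMod p)) (q : ℤ)
  simp only [eq_intCast, Int.cast_natCast] at h3
  rw [h3, h]

theorem val_dvd {n q : ℕ} (hn : 2 < n) (hq : 1 ≤ q) : val n q ∣ q ^ n - 1 := by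
  rw [← Int.natCast_dvd_natCast, cast_val hn, Nat.cast_sub (Nat.one_le_pow _ _ hq)]
  simpa using Polynomial.eval_dvd (x := (q : ℤ)) (cyclotomic.dvd_X_pow_sub_one n ℤ)

/-- A prime which divides a cyclotomic value without being primitive. -/
theorem orderOf_of_dvd {n q p : ℕ} [Fact p.Prime] (hn : 2 < n) (hp : p ∣ val n q) :
    p.Coprime q ∧ ∃ a m : ℕ, n = p ^ a * m ∧ ¬ p ∣ m ∧ orderOf (q : ZMod p) = m := by
  have hp' := (Fact.out : p.Prime)
  obtain ⟨a, m, hm, hnm⟩ := Nat.exists_eq_pow_mul_and_not_dvd (by omega : n ≠ 0) p hp'.ne_one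
  haveI : NeZero (m : ZMod p) := ⟨fun h => hm ((ZMod.natCast_eq_zero_iff _ _).1 h)⟩
  have hroot := isRoot_of_dvd hn hp
  rw [hnm] at hroot
  have hprim : IsPrimitiveRoot (q : ZMod p) m := by
    rcases Nat.eq_zero_or_pos a with rfl | ha
    · rw [pow_zero, one_mul] at hroot
      exact isRoot_cyclotomic_iff.1 hroot
    · rw [IsRoot.def, cyclotomic_mul_prime_pow_eq (ZMod p) hm ha, eval_pow] at hroot
      exact isRoot_cyclotomic_iff.1 ((pow_eq_zero_iff (Nat.sub_pos_of_lt
        (Nat.pow_lt_pow_right hp'.one_lt (by omega))).ne').1 hroot)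
  refine ⟨?_, a, m, hnm, hm, hprim.eq_orderOf.symm⟩
  refine (hp'.coprime_iff_not_dvd).2 fun h => ?_
  have h1 := hprim.pow_eq_one
  rw [(ZMod.natCast_eq_zero_iff _ _).2 h, zero_pow] at h1
  · exact zero_ne_one h1
  · exact fun h0 => hm (h0 ▸ dvd_zero p)

theorem not_dvd_of_order {n q p : ℕ} [Fact p.Prime] (hq : 1 ≤ q) (ho : orderOf (q : ZMod p) = n)
    (i : ℕ) (h1 : 1 ≤ i) (h2 : i < n) : ¬ p ∣ q ^ i - 1 := by
  intro h
  have h3 : ((q ^ i - 1 : ℕ) : ZMod p) = 0 := (ZMod.natCast_eq_zero_iff _ _).2 h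
  rw [Nat.cast_sub (Nat.one_le_pow _ _ hq), Nat.cast_pow, Nat.cast_one, sub_eq_zero] at h3
  have h4 := orderOf_dvd_of_pow_eq_one h3
  rw [ho] at h4
  exact absurd (Nat.le_of_dvd (by omega) h4) (by omega)

theorem lt_of_order {n q p : ℕ} [Fact p.Prime] (hcop : p.Coprime q) (ho : orderOf (q : ZMod p) = n) : n < p := by
  have hp' := (Fact.out : p.Prime)
  have h0 : (q : ZMod p) ≠ 0 := fun h =>
    (hp'.coprime_iff_not_dvd).1 hcop ((ZMod.natCast_eq_zero_iff _ _).1 h)
  have h := orderOf_dvd_of_pow_eq_one (ZMod.pow_card_sub_one_eq_one h0)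
  rw [ho] at h
  have := Nat.le_of_dvd (Nat.sub_pos_of_lt hp'.one_lt) h
  have := hp'.one_lt
  omega

/-- A prime divisor of `n` divides a cyclotomic value at most once. -/
theorem sq_not_dvd {n q p : ℕ} [Fact p.Prime] (hn : 2 < n) (hq : 2 ≤ q) (hp : p ∣ val n q) (hpn : p ∣ n) :
    ¬ p ^ 2 ∣ val n q := by
  have hp' := (Fact.out : p.Prime)
  obtain ⟨hcop, a, m, hnm, hm, ho⟩ := orderOf_of_dvd hn hp
  obtain ⟨k, hk⟩ := hpn
  have hk0 : 0 < k := by rcases Nat.eq_zero_or_pos k with rfl | h <;> omega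
  have hd : (X : ℤ[X]) ^ k - 1 ∣ ∏ i ∈ n.properDivisors, cyclotomic i ℤ :=
    X_pow_sub_one_dvd_prod_cyclotomic ℤ (by omega) ⟨p, by rw [hk, mul_comm]⟩
      (by rw [hk]; exact fun h => absurd (Nat.eq_of_mul_eq_mul_right hk0 (by rw [one_mul]; exact h.symm)) hp'.ne_one)
  have hd2 : ((q : ℤ) ^ k - 1) * ((val n q : ℕ) : ℤ) ∣ (q : ℤ) ^ n - 1 := by
    have h : ((X : ℤ[X]) ^ k - 1) * cyclotomic n ℤ ∣ X ^ n - 1 := by
      rw [← prod_cyclotomic_eq_X_pow_sub_one (by omega : 0 < n), ← Nat.cons_self_properDivisors (by omega),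
        Finset.prod_cons, mul_comm (cyclotomic n ℤ)]
      exact mul_dvd_mul_right hd _
    have h' := Polynomial.eval_dvd (x := (q : ℤ)) h
    simp only [eval_mul, eval_sub, eval_pow, eval_X, eval_one] at h'
    rwa [cast_val hn]
  set Q : ℤ := (q : ℤ) ^ k with hQ
  have hQ1 : Q - 1 ≠ 0 := by
    have : (2 : ℤ) ^ k ≤ Q := by rw [hQ]; gcongr; exact_mod_cast hq
    have : (1 : ℤ) < 2 ^ k := one_lt_pow₀ (by norm_num) hk0.ne'
    omega
  have hsum : ((val n q : ℕ) : ℤ) ∣ ∑ i ∈ Finset.range p, Q ^ i := by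
    refine (mul_dvd_mul_iff_left hQ1).1 (hd2.trans (dvd_of_eq ?_))
    rw [mul_comm (Q - 1), geom_sum_mul, hQ, ← pow_mul, hk, mul_comm k p]
  have hmk : m ∣ k := (Nat.Coprime.symm ((hp'.coprime_iff_not_dvd).2 hm)).dvd_of_dvd_mul_left
    (hk ▸ hnm ▸ dvd_mul_left m (p ^ a) : m ∣ p * k)
  have hQp : ((Q : ℤ) : ZMod p) = 1 := by
    rw [hQ, Int.cast_pow, Int.cast_natCast]
    exact orderOf_dvd_iff_pow_eq_one.1 (ho ▸ hmk)
  intro hsq
  have hsq' : ((p : ℤ) ^ 2) ∣ ∑ i ∈ Finset.range p, Q ^ i :=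
    (by exact_mod_cast Int.natCast_dvd_natCast.2 hsq : ((p : ℤ) ^ 2) ∣ (val n q : ℤ)).trans hsum
  have hpQ : (p : ℤ) ∣ Q - 1 := by
    rw [← ZMod.intCast_zmod_eq_zero_iff_dvd, Int.cast_sub, hQp, Int.cast_one, sub_self]
  rcases hp'.eq_two_or_odd' with rfl | hodd
  · simp only [Finset.sum_range_succ, Finset.sum_range_zero, pow_zero, pow_one, zero_add] at hsq'
    have ha : m = 1 := by
      have h := lt_of_order hcop ho
      rcases m with _ | _ | m
      · exact absurd (dvd_zero 2) hm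
      · rfl
      · omega
    rw [ha, mul_one] at hnm
    obtain ⟨j, hj⟩ : 2 ∣ k := by
      have h4 : 2 ≤ a := by
        by_contra h
        interval_cases a <;> omega
      obtain ⟨b, rfl⟩ : ∃ b, a = b + 2 := ⟨a - 2, by omega⟩
      refine ⟨2 ^ b, ?_⟩
      rw [pow_add] at hnm
      omega
    obtain ⟨u, hu⟩ : ∃ u : ℤ, (q : ℤ) ^ j = 2 * u + 1 := by
      have h2 : ¬ 2 ∣ q := fun h => (hp'.coprime_iff_not_dvd).1 hcop h
      obtain ⟨v, hv⟩ : Odd (q ^ j) := (Nat.odd_iff.2 (by omega)).pow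
      exact ⟨v, by exact_mod_cast hv⟩
    have hQ' : Q = (2 * u + 1) ^ 2 := by rw [hQ, hj, ← hu, ← pow_mul, mul_comm]
    obtain ⟨w, hw⟩ := hsq'
    rw [hQ'] at hw
    ring_nf at hw
    omega
  · have h1 : ¬ (p : ℤ) ∣ Q := fun h => by
      have h2 := dvd_sub h hpQ
      rw [sub_sub_cancel] at h2
      exact hp'.not_dvd_one (by exact_mod_cast h2)
    have hem := emultiplicity_geom_sum₂_eq_one (R := ℤ) (Nat.prime_iff_prime_int.1 hp') hodd
      (by simpa using hpQ : (p : ℤ) ∣ Q - 1) h1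
    simp only [one_pow, mul_one] at hem
    have := le_emultiplicity_of_pow_dvd hsq'
    rw [hem] at this
    norm_num at this

/-- The values found by search: `n`, `q` and a prime. -/
def witnesses : List (ℕ × ℕ × ℕ) :=
  [(3, 2, 7), (3, 3, 13), (3, 4, 7), (3, 5, 31), (3, 6, 43), (4, 4, 17), (4, 5, 13), (4, 6, 37), (4, 7, 5),
    (4, 8, 13), (5, 2, 31), (5, 3, 11), (6, 4, 13), (6, 6, 31), (6, 7, 43), (6, 8, 19), (6, 9, 73), (6, 10, 13),
    (6, 11, 37), (6, 12, 19), (7, 2, 127), (8, 2, 17), (8, 3, 41), (8, 4, 257), (9, 2, 73), (10, 3, 61),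
    (10, 4, 41), (12, 3, 73), (12, 4, 241), (14, 2, 43), (14, 3, 547), (15, 2, 151), (16, 2, 257), (18, 3, 37),
    (20, 2, 41), (22, 2, 683), (24, 2, 241), (30, 2, 331), (36, 2, 109), (42, 2, 5419)]

/-- The exceptions. -/
def exceptions : List (ℕ × ℕ) := [(4, 2), (4, 3), (6, 2), (6, 3), (6, 5), (10, 2), (12, 2), (18, 2)]

/-- The check of a witness. -/
def witnessOK (w : ℕ × ℕ × ℕ) : Bool :=
  decide (2 ≤ w.2.2) && (List.range (Nat.sqrt w.2.2 + 1)).all (fun d => decide (d ≤ 1) || decide (w.2.2 % d ≠ 0)) &&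
    decide (w.2.2 ∣ w.2.1 ^ w.1 - 1) &&
    (List.range w.1).all (fun i => decide (i = 0) || decide (¬ w.2.2 ∣ w.2.1 ^ i - 1)) &&
    (decide (w.1 + 1 < w.2.2) || decide (w.2.2 ^ 2 ∣ w.2.1 ^ w.1 - 1))

theorem witnesses_check : witnesses.all witnessOK = true := by decide +kernel

theorem small_check : ((List.range 969).all fun n => decide (n < 3) || decide (22 < n.totient) ||
    (List.range 13).all fun q => decide (q < 2) || decide (4 * n * (n + 1) < q ^ n.totient) ||
      exceptions.contains (n, q) || witnesses.any (fun w => decide (w.1 = n) && decide (w.2.1 = q))) = true ∧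
    ((List.range 969).all fun n => decide (n < 3) || decide (4 * n * (n + 1) < 13 ^ n.totient)) = true := by
  decide +kernel

theorem four_mul_lt_two_pow {n : ℕ} (h : 23 ≤ n.totient) : 4 * n * (n + 1) < 2 ^ n.totient := by
  have h1 := (two_mul_totient_sq n).1
  have key : ∀ t : ℕ, 23 ≤ t → 4 * (2 * t ^ 2) * (2 * t ^ 2 + 1) < 2 ^ t := by
    intro t ht
    induction t, ht using Nat.le_induction with
    | base => norm_num
    | succ t ht ih =>
      rw [pow_succ 2 t]
      have : (t + 1) ^ 2 * 5 ≤ t ^ 2 * 7 := by nlinarith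
      nlinarith
  refine lt_of_le_of_lt ?_ (key _ h)
  gcongr

/-- A primitive prime divisor `p` with `n + 1 < p` or `p ^ 2 ∣ q ^ n - 1`, for `n ≥ 3`. -/
theorem exists_large_primitive {n q : ℕ} (hn : 3 ≤ n) (hq : 2 ≤ q) (hexc : (n, q) ∉ exceptions) :
    ∃ p : ℕ, p.Prime ∧ p ∣ q ^ n - 1 ∧ (∀ i : ℕ, 1 ≤ i → i < n → ¬ p ∣ q ^ i - 1) ∧
      (n + 1 < p ∨ p ^ 2 ∣ q ^ n - 1) := by
  have large : 4 * n * (n + 1) < q ^ n.totient → ∃ p : ℕ, p.Prime ∧ p ∣ q ^ n - 1 ∧
      (∀ i : ℕ, 1 ≤ i → i < n → ¬ p ∣ q ^ i - 1) ∧ (n + 1 < p ∨ p ^ 2 ∣ q ^ n - 1) := by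
    intro hbig
    by_contra hcon
    push_neg at hcon
    have hv := pow_totient_le_val (n := n) (by omega) hq
    have hN : val n q ∣ n * (n + 1) := by
      rcases Nat.eq_zero_or_pos (val n q) with h0 | h0
      · omega
      refine (Nat.dvd_iff_prime_pow_dvd_dvd _ _).2 fun p k hp hk => ?_
      haveI := Fact.mk hp
      rcases Nat.eq_zero_or_pos k with rfl | hk0
      · simp
      have hp1 : p ∣ val n q := (dvd_pow_self p hk0.ne').trans hk
      obtain ⟨hcop, a, m, hnm, hm, ho⟩ := orderOf_of_dvd (n := n) (by omega) hp1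
      have hsq : ¬ p ^ 2 ∣ val n q := by
        rcases Nat.eq_zero_or_pos a with rfl | ha
        · rw [pow_zero, one_mul] at hnm
          subst hnm
          intro h2
          exact (hcon p hp (hp1.trans (val_dvd (by omega) (by omega))) (not_dvd_of_order (by omega) ho)).2
            (h2.trans (val_dvd (by omega) (by omega)))
        · exact sq_not_dvd (by omega) hq hp1 (hnm ▸ (dvd_pow_self p ha.ne').mul_right m)
      have hk1 : k = 1 := by
        by_contra hk2
        exact hsq ((pow_dvd_pow p (by omega : 2 ≤ k)).trans hk)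
      rw [hk1, pow_one]
      rcases Nat.eq_zero_or_pos a with rfl | ha
      · rw [pow_zero, one_mul] at hnm
        subst hnm
        have h3 := (hcon p hp (hp1.trans (val_dvd (by omega) (by omega))) (not_dvd_of_order (by omega) ho)).1
        have h4 := lt_of_order hcop ho
        rw [show p = n + 1 by omega]
        exact dvd_mul_left _ _
      · exact (hnm ▸ (dvd_pow_self p ha.ne').mul_right m : p ∣ n).mul_right _
    have := Nat.le_of_dvd (by positivity) hN
    nlinarith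
  rcases le_or_gt 23 n.totient with h23 | h23
  · exact large ((four_mul_lt_two_pow h23).trans_le (Nat.pow_le_pow_left hq _))
  have hn969 : n < 969 := by
    have h1 := (two_mul_totient_sq n).1
    have : n.totient ^ 2 ≤ 22 ^ 2 := Nat.pow_le_pow_left (by omega) 2
    omega
  rcases le_or_gt 13 q with h13 | h13
  · have h := List.all_eq_true.1 small_check.2 n (List.mem_range.2 hn969)
    simp only [Bool.or_eq_true, decide_eq_true_eq] at h
    rcases h with h | h
    · omega
    · exact large (h.trans_le (Nat.pow_le_pow_left h13 _))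
  have h := List.all_eq_true.1 small_check.1 n (List.mem_range.2 hn969)
  simp only [Bool.or_eq_true, decide_eq_true_eq, List.all_eq_true, List.any_eq_true, Bool.and_eq_true,
    List.mem_range, List.contains_iff] at h
  rcases h with (h | h) | h
  · omega
  · omega
  rcases h q h13 with ((h | h) | h) | ⟨w, hw, rfl, rfl⟩
  · omega
  · exact large h
  · exact absurd h hexc
  have hc := List.all_eq_true.1 witnesses_check w hw
  simp only [witnessOK, Bool.and_eq_true, Bool.or_eq_true, decide_eq_true_eq, List.all_eq_true,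
    List.mem_range] at hc
  obtain ⟨⟨⟨⟨hp2, hpr⟩, hdiv⟩, hmin⟩, hlast⟩ := hc
  refine ⟨w.2.2, Nat.prime_def_le_sqrt.2 ⟨hp2, fun d hd2 hd hdd => ?_⟩, hdiv, fun i h1 h2 hh => ?_, hlast⟩
  · rcases hpr d (by omega) with h | h
    · omega
    · exact h (Nat.mod_eq_zero_of_dvd hdd)
  · rcases hmin i h2 with h | h
    · omega
    · exact h hh

end CfsgLib.Recognition.Zsigmondy
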