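import Mathlib
import Cfsg.Agent.Lib.Char.Burnside
import Cfsg.Agent.Lib.Classical22.CharSimple

/-!
Minimal normal subgroups of primitive groups and derangements in powers of simple groups.
-/

set_option autoImplicit false

namespace CfsgLib.Recognition.SimplePower

open MulAction

theorem exists_three_primes {K : Type*} [Group K] [Finite K] (hns : ¬ Group.IsSolvable K) :
    ∃ p q r : ℕ, p.Prime ∧ q.Prime ∧ r.Prime ∧ p ≠ q ∧ p ≠ r ∧ q ≠ r ∧
      p ∣ Nat.card K ∧ q ∣ Nat.card K ∧ r ∣ Nat.card K := by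
  classical
  haveI := Fintype.ofFinite K
  have h3 : 2 < (Nat.card K).primeFactors.card := by
    by_contra hle
    refine hns ?_
    have hn : Nat.card K ≠ 0 := Nat.card_pos.ne'
    have hprod := Nat.prod_factorization_pow_eq_self hn
    rw [Finsupp.prod, Nat.support_factorization] at hprod
    have hcases : (Nat.card K).primeFactors.card = 0 ∨ (Nat.card K).primeFactors.card = 1 ∨
        (Nat.card K).primeFactors.card = 2 := by omega
    rcases hcases with h | h | h
    · rw [Finset.card_eq_zero.1 h, Finset.prod_empty] at hprod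
      exact CfsgLib.Char.isSolvable_of_card_eq_pow_mul_pow Nat.prime_two Nat.prime_three (a := 0)
        (b := 0) (by simpa using (dvd_of_eq hprod.symm))
    · obtain ⟨p, hp⟩ := Finset.card_eq_one.1 h
      rw [hp, Finset.prod_singleton] at hprod
      exact CfsgLib.Char.isSolvable_of_card_eq_pow_mul_pow
        (Nat.prime_of_mem_primeFactors (hp ▸ Finset.mem_singleton_self p)) Nat.prime_two
        (b := 0) (by simpa using (dvd_of_eq hprod.symm))
    · obtain ⟨p, q, hpq, hp⟩ := Finset.card_eq_two.1 h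
      rw [hp, Finset.prod_pair hpq] at hprod
      exact CfsgLib.Char.isSolvable_of_card_eq_pow_mul_pow
        (Nat.prime_of_mem_primeFactors (hp ▸ Finset.mem_insert_self p {q}))
        (Nat.prime_of_mem_primeFactors (hp ▸ Finset.mem_insert_of_mem (Finset.mem_singleton_self q)))
        (dvd_of_eq hprod.symm)
  obtain ⟨p, q, r, hp, hq, hr, h1, h2, h3⟩ := Finset.two_lt_card_iff.1 h3
  exact ⟨p, q, r, Nat.prime_of_mem_primeFactors hp, Nat.prime_of_mem_primeFactors hq,
    Nat.prime_of_mem_primeFactors hr, h1, h2, h3, Nat.dvd_of_mem_primeFactors hp,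
    Nat.dvd_of_mem_primeFactors hq, Nat.dvd_of_mem_primeFactors hr⟩

theorem exists_three_elements {K : Type*} [Group K] [Finite K] (hns : ¬ Group.IsSolvable K) :
    ∃ a b c : K, a ≠ 1 ∧ b ≠ 1 ∧ c ≠ 1 ∧
      orderOf a ≠ orderOf b ∧ orderOf a ≠ orderOf c ∧ orderOf b ≠ orderOf c := by
  obtain ⟨p, q, r, hp, hq, hr, hpq, hpr, hqr, hpd, hqd, hrd⟩ := exists_three_primes hns
  haveI := Fact.mk hp; haveI := Fact.mk hq; haveI := Fact.mk hr
  obtain ⟨a, ha⟩ := exists_prime_orderOf_dvd_card' p hpd
  obtain ⟨b, hb⟩ := exists_prime_orderOf_dvd_card' q hqd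
  obtain ⟨c, hc⟩ := exists_prime_orderOf_dvd_card' r hrd
  refine ⟨a, b, c, ?_, ?_, ?_, by omega, by omega, by omega⟩ <;> intro h
  · rw [h, orderOf_one] at ha; exact hp.one_lt.ne ha
  · rw [h, orderOf_one] at hb; exact hq.one_lt.ne hb
  · rw [h, orderOf_one] at hc; exact hr.one_lt.ne hc

theorem exists_not_conj_mem {K : Type*} [Group K] [Finite K] {H : Subgroup K} (hH : H ≠ ⊤) :
    ∃ t : K, ∀ g : K, g * t * g⁻¹ ∉ H := by
  classical
  by_contra hcon
  haveI := Fintype.ofFinite K
  haveI := Fintype.ofFinite (K ⧸ H)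
  have hsum := sum_card_fixedBy_eq_card_orbits_mul_card_group K (K ⧸ H)
  have horb : Fintype.card (Quotient (orbitRel K (K ⧸ H))) = 1 := by
    haveI := (pretransitive_iff_subsingleton_quotient K (K ⧸ H)).1 inferInstance
    exact Fintype.card_eq_one_iff.2 ⟨Quotient.mk'' ((1 : K) : K ⧸ H), fun a => Subsingleton.elim _ _⟩
  rw [horb, one_mul] at hsum
  have hge : ∀ t : K, 1 ≤ Fintype.card (fixedBy (K ⧸ H) t) := by
    intro t
    simp only [not_exists, not_forall, not_not] at hcon
    obtain ⟨g, hg⟩ := hcon t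
    refine Fintype.card_pos_iff.2 ⟨⟨((g⁻¹ : K) : K ⧸ H), ?_⟩⟩
    rw [mem_fixedBy, Quotient.smul_coe, QuotientGroup.eq, smul_eq_mul]
    have := H.inv_mem hg
    simpa [mul_assoc] using this
  have h1 : 1 < Fintype.card (fixedBy (K ⧸ H) (1 : K)) := by
    have : fixedBy (K ⧸ H) (1 : K) = Set.univ := by ext; simp
    rw [← Nat.card_eq_fintype_card, this, Nat.card_univ, ← Subgroup.index_eq_card]
    exact Subgroup.one_lt_index_of_ne_top hH
  have hlt : ∑ _t : K, 1 < ∑ t : K, Fintype.card (fixedBy (K ⧸ H) t) :=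
    Finset.sum_lt_sum (fun t _ => hge t) ⟨1, Finset.mem_univ _, h1⟩
  rw [← Finset.card_eq_sum_ones, Finset.card_univ, hsum] at hlt
  exact lt_irrefl _ hlt

theorem mulSingle_mem_of_normal {S : Type*} [Group S] [IsSimpleGroup S] (hS : ∃ a b : S, a * b ≠ b * a)
    {m : ℕ} {K : Subgroup (Fin m → S)} (hK : K.Normal) {x : Fin m → S} (hx : x ∈ K) {i : Fin m}
    (hi : x i ≠ 1) (t : S) : Pi.mulSingle i t ∈ K := by
  classical
  haveI hnorm : (K.comap (MonoidHom.mulSingle (fun _ : Fin m => S) i)).Normal :=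
    Subgroup.Normal.comap hK _
  obtain ⟨s, hs⟩ : ∃ s, x i * s ≠ s * x i := by
    by_contra hcon
    simp only [not_exists, not_not] at hcon
    have hz : x i ∈ Subgroup.center S := Subgroup.mem_center_iff.mpr fun s => (hcon s).symm
    rcases (inferInstance : (Subgroup.center S).Normal).eq_bot_or_eq_top with h | h
    · rw [h] at hz; exact hi hz
    · obtain ⟨a, b, hab⟩ := hS
      exact hab (Subgroup.mem_center_iff.mp (h ▸ Subgroup.mem_top b) a)
  have hc : Pi.mulSingle i (x i * s * (x i)⁻¹ * s⁻¹) ∈ K := by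
    have h1 : x * (Pi.mulSingle i s * x⁻¹ * (Pi.mulSingle i s)⁻¹) ∈ K :=
      K.mul_mem hx (hK.conj_mem _ (K.inv_mem hx) _)
    convert h1 using 1
    funext l
    rcases eq_or_ne l i with rfl | hl
    · simp [mul_assoc]
    · simp [hl]
  have hne : x i * s * (x i)⁻¹ * s⁻¹ ≠ 1 :=
    fun h => hs (mul_inv_eq_iff_eq_mul.mp (mul_inv_eq_one.mp h))
  have htop := hnorm.eq_bot_or_eq_top.resolve_left fun h => hne (Subgroup.mem_bot.mp
    (h ▸ (Subgroup.mem_comap.2 (by simpa using hc) :
      x i * s * (x i)⁻¹ * s⁻¹ ∈ K.comap (MonoidHom.mulSingle (fun _ : Fin m => S) i))))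
  have := (htop ▸ Subgroup.mem_top t : t ∈ K.comap (MonoidHom.mulSingle (fun _ : Fin m => S) i))
  simpa using Subgroup.mem_comap.1 this

theorem normal_factor {S : Type*} [Group S] {m : ℕ} (i : Fin m) :
    (MonoidHom.mulSingle (fun _ : Fin m => S) i).range.Normal := by
  classical
  refine ⟨?_⟩
  rintro _ ⟨y, rfl⟩ g
  refine ⟨g i * y * (g i)⁻¹, ?_⟩
  funext l
  rcases eq_or_ne l i with rfl | hl
  · simp
  · simp [hl]

/-- Automorphisms of a power of a nonabelian simple group permute the coordinates. -/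
theorem exists_perm_of_aut {S : Type*} [Group S] [IsSimpleGroup S] (hS : ∃ a b : S, a * b ≠ b * a)
    {m : ℕ} (φ : (Fin m → S) ≃* (Fin m → S)) :
    ∃ π : Fin m ≃ Fin m, ∀ x i, orderOf (φ x (π i)) = orderOf (x i) := by
  classical
  obtain ⟨s₀, hs₀⟩ := exists_ne (1 : S)
  have key : ∀ ψ : (Fin m → S) ≃* (Fin m → S), ∀ i, ∃ j, ∀ t : S, ∃ u, ψ (Pi.mulSingle j t) =
      Pi.mulSingle i u := by
    intro ψ i
    have hne : (ψ.symm (Pi.mulSingle i s₀)) ≠ 1 := by simpa using hs₀
    obtain ⟨j, hj⟩ := Function.ne_iff.1 hne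
    refine ⟨j, fun t => ?_⟩
    have hn : ((MonoidHom.mulSingle (fun _ : Fin m => S) i).range.comap ψ.toMonoidHom).Normal :=
      Subgroup.Normal.comap (normal_factor i) _
    have := mulSingle_mem_of_normal hS hn (x := ψ.symm (Pi.mulSingle i s₀))
      (by simp [Subgroup.mem_comap]) hj t
    obtain ⟨u, hu⟩ := Subgroup.mem_comap.1 this
    exact ⟨u, hu.symm⟩
  choose f hf using key φ
  choose u hu using hf
  have finj : Function.Injective f := by
    intro a b hab
    by_contra hne
    have h := hu a s₀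
    rw [hab, hu b s₀] at h
    have h' := congrFun h b
    rw [Pi.mulSingle_eq_same, Pi.mulSingle_eq_of_ne (Ne.symm hne)] at h'
    have h2 := hu b s₀
    rw [h', Pi.mulSingle_one] at h2
    exact hs₀ (by simpa using congrFun ((map_eq_one_iff φ φ.injective).1 h2) (f b))
  let τ : Fin m ≃ Fin m := Equiv.ofBijective f (Finite.injective_iff_bijective.1 finj)
  refine ⟨τ.symm, fun x i => ?_⟩
  set a := τ.symm i with ha
  have hi : f a = i := τ.apply_symm_apply i
  -- split off the coordinate `i`
  let y : Fin m → S := (Pi.mulSingle i (x i))⁻¹ * x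
  have hyi : y i = 1 := by simp [y]
  have hxy : x = Pi.mulSingle i (x i) * y := by simp [y]
  have hya : φ y a = 1 := by
    have hmem : y ∈ ((Pi.evalMonoidHom (fun _ : Fin m => S) a).comp φ.toMonoidHom).ker := by
      refine Subgroup.pi_mem_of_mulSingle_mem y fun l => ?_
      rcases eq_or_ne l i with rfl | hl
      · rw [hyi, Pi.mulSingle_one]; exact Subgroup.one_mem _
      · obtain ⟨b, hb⟩ := (Finite.injective_iff_bijective.1 finj).2 l
        have hne : a ≠ b := fun h => hl (by rw [← hb, ← h, hi])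
        rw [MonoidHom.mem_ker, ← hb]
        change φ (Pi.mulSingle (f b) (y (f b))) a = 1
        rw [hu b, Pi.mulSingle_eq_of_ne hne]
    exact hmem
  have hxa : φ x a = u a (x i) := by
    rw [hxy, map_mul, Pi.mul_apply, hya, mul_one]
    simp only [← hxy]
    rw [← hi, hu a]
    simp
  rw [hxa]
  -- the coordinate map is an injective homomorphism
  let h : S →* S := ((Pi.evalMonoidHom (fun _ : Fin m => S) a).comp φ.toMonoidHom).comp
    (MonoidHom.mulSingle (fun _ : Fin m => S) (f a))
  have hh : ∀ t, h t = u a t := fun t => by simp [h, hu a]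
  have hinj : Function.Injective h := by
    intro t t' e
    rw [hh, hh] at e
    have : φ (Pi.mulSingle (f a) t) = φ (Pi.mulSingle (f a) t') := by rw [hu, hu, e]
    exact Pi.mulSingle_injective (f a) (φ.injective this)
  rw [← hh]
  exact orderOf_injective h hinj _

/-- Derangements of a transitive power of a nonabelian simple group: either one coordinate can be
prescribed, or a whole factor is semiregular. -/
theorem derangement_coord {G : Type*} [Group G] {Ω : Type*} [MulAction G Ω] (α : Ω) (N : Subgroup G)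
    (htr : IsPretransitive N Ω) (hfix : stabilizer N α ≠ ⊤)
    {S : Type*} [Group S] [Finite S] [IsSimpleGroup S] {m : ℕ} (e : N ≃* (Fin m → S)) :
    ∃ i : Fin m, (∃ t : S, t ≠ 1 ∧ ∀ x : Fin m → S, x i = t → ∀ ω : Ω, ((e.symm x : N) : G) • ω ≠ ω) ∨
      ∀ t : S, t ≠ 1 → ∀ ω : Ω, ((e.symm (Pi.mulSingle i t) : N) : G) • ω ≠ ω := by
  classical
  set L : Subgroup (Fin m → S) := (stabilizer N α).map e.toMonoidHom with hL
  let D : (Fin m → S) → Prop := fun x => ∀ v, v * x * v⁻¹ ∉ L
  have hD : ∀ x, D x → ∀ ω : Ω, ((e.symm x : N) : G) • ω ≠ ω := by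
    intro x hx ω hω
    obtain ⟨n, hn⟩ := exists_smul_eq N ω α
    refine hx (e n) ⟨n * e.symm x * n⁻¹, ?_, by simp⟩
    rw [SetLike.mem_coe, mem_stabilizer_iff, mul_smul, mul_smul, ← hn, inv_smul_smul]
    exact congrArg (n • ·) hω
  by_cases hproj : ∃ i, L.map (Pi.evalMonoidHom (fun _ : Fin m => S) i) ≠ ⊤
  · obtain ⟨i, hi⟩ := hproj
    obtain ⟨t, ht⟩ := exists_not_conj_mem hi
    refine ⟨i, Or.inl ⟨t, fun h => ht 1 (by simp [h]), fun x hxi => hD x fun v hv => ?_⟩⟩
    exact ht (v i) ⟨_, hv, by simp [hxi]⟩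
  · simp only [not_exists, not_not] at hproj
    have hnormK : ∀ i, (L.comap (MonoidHom.mulSingle (fun _ : Fin m => S) i)).Normal := by
      refine fun i => ⟨fun y hy g => ?_⟩
      obtain ⟨l, hl, hlg⟩ := (hproj i ▸ Subgroup.mem_top g :
        g ∈ L.map (Pi.evalMonoidHom (fun _ : Fin m => S) i))
      have : l * Pi.mulSingle i y * l⁻¹ ∈ L :=
        L.mul_mem (L.mul_mem hl (by simpa using hy)) (L.inv_mem hl)
      rw [Subgroup.mem_comap]
      convert this using 1
      funext k
      rcases eq_or_ne k i with rfl | hk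
      · simp [← hlg]
      · simp [hk]
    by_cases hall : ∀ i, L.comap (MonoidHom.mulSingle (fun _ : Fin m => S) i) = ⊤
    · exfalso
      apply hfix
      have hLtop : L = ⊤ := by
        rw [eq_top_iff]
        intro x _
        refine Subgroup.pi_mem_of_mulSingle_mem x fun l => ?_
        have := (hall l ▸ Subgroup.mem_top (x l) :
          x l ∈ L.comap (MonoidHom.mulSingle (fun _ : Fin m => S) l))
        simpa using this
      rw [eq_top_iff]
      intro n _
      obtain ⟨n', hn', he⟩ := (hLtop ▸ Subgroup.mem_top (e n) : e n ∈ L)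
      exact e.injective he ▸ hn'
    · simp only [not_forall] at hall
      obtain ⟨i, hi⟩ := hall
      have hbot := (hnormK i).eq_bot_or_eq_top.resolve_right hi
      refine ⟨i, Or.inr fun t ht => hD _ fun v hv => ?_⟩
      have hv' : v * Pi.mulSingle i t * v⁻¹ = Pi.mulSingle i (v i * t * (v i)⁻¹) := by
        funext k
        rcases eq_or_ne k i with rfl | hk
        · simp
        · simp [hk]
      rw [hv'] at hv
      have : v i * t * (v i)⁻¹ = 1 := Subgroup.mem_bot.1 (hbot ▸ Subgroup.mem_comap.2 (by simpa using hv))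
      exact ht (conj_eq_one_iff.1 this)

theorem not_isSolvable_of_simple {S : Type*} [Group S] [IsSimpleGroup S]
    (hS : ∃ a b : S, a * b ≠ b * a) : ¬ Group.IsSolvable S := by
  intro hsol
  obtain ⟨a, b, hab⟩ := hS
  exact hab ((IsSimpleGroup.comm_iff_isSolvable.2 hsol) a b)

/-- A nonabelian minimal normal subgroup with all nontrivial normal subgroups transitive: it is
semiregular, or almost simple socle, or a proper power of a nonabelian simple group. -/
theorem minimal_normal_trichotomy {G : Type*} [Group G] [Finite G] {Ω : Type*} [MulAction G Ω]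
    [FaithfulSMul G Ω]
    (htrans : ∀ M : Subgroup G, M.Normal → M ≠ ⊥ → IsPretransitive M Ω)
    (N : Subgroup G) [N.Normal] (hN : N ≠ ⊥)
    (hmin : ∀ M : Subgroup G, M.Normal → M ≤ N → M = ⊥ ∨ M = N) (hnc : ¬ IsMulCommutative N) :
    ¬ Group.IsSolvable N ∧
    ((∀ (n : N) (ω : Ω), n • ω = ω → n = 1) ∨
     (∃ T : Subgroup G, T.Normal ∧ IsSimpleGroup T ∧ ¬ IsMulCommutative T ∧ Subgroup.centralizer (T : Set G) = ⊥) ∨
     (∃ (S : Type) (_ : Group S) (_ : Finite S) (_ : IsSimpleGroup S) (m : ℕ),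
       (∃ a b : S, a * b ≠ b * a) ∧ 2 ≤ m ∧ Nonempty (N ≃* (Fin m → S)))) := by
  classical
  have hchar : ∀ H : Subgroup N, H.Characteristic → H = ⊥ ∨ H = ⊤ := by
    intro H hH
    haveI := hH
    rcases hmin (H.map N.subtype) inferInstance (Subgroup.map_subtype_le H) with h | h
    · exact Or.inl (Subgroup.map_injective N.subtype_injective (h.trans (Subgroup.map_bot _).symm))
    · refine Or.inr (Subgroup.map_injective N.subtype_injective (h.trans ?_))
      rw [← MonoidHom.range_eq_map, Subgroup.range_subtype]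
  have hns : ¬ Group.IsSolvable N := by
    intro hsol
    have hne : commutator N ≠ ⊤ := by
      intro h
      haveI : Nontrivial N := N.nontrivial_iff_ne_bot.mpr hN
      exact (Group.IsSolvable.commutator_lt_top_of_nontrivial N).ne h
    have hbot := (hchar (commutator N) inferInstance).resolve_right hne
    exact hnc ⟨⟨fun a b => by
      have := Subgroup.commutator_mem_commutator (Subgroup.mem_top a) (Subgroup.mem_top b)
      rw [← commutator_def, hbot, Subgroup.mem_bot] at this
      exact commutatorElement_eq_one_iff_mul_comm.1 this⟩⟩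
  refine ⟨hns, ?_⟩
  by_cases hsemi : ∀ (n : N) (ω : Ω), n • ω = ω → n = 1
  · exact Or.inl hsemi
  right
  simp only [not_forall] at hsemi
  obtain ⟨n₀, ω₀, hn₀, hn₀1⟩ := hsemi
  have hC : Subgroup.centralizer (N : Set G) = ⊥ := by
    by_contra hC
    haveI := htrans _ inferInstance hC
    refine hn₀1 (Subtype.ext (eq_of_smul_eq_smul (α := Ω) fun ω => ?_))
    obtain ⟨c, hc⟩ := exists_smul_eq (Subgroup.centralizer (N : Set G)) ω₀ ω
    have hcomm := Subgroup.mem_centralizer_iff.1 c.2 n₀ n₀.2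
    rw [Subgroup.coe_one, one_smul, ← hc, Subgroup.smul_def, ← mul_smul, hcomm, mul_smul]
    exact congrArg ((c : G) • ·) hn₀
  by_cases hsimple : IsSimpleGroup N
  · exact Or.inl ⟨N, inferInstance, hsimple, hnc, hC⟩
  haveI : Nontrivial N := N.nontrivial_iff_ne_bot.mpr hN
  obtain ⟨S, _, _, m, hm1, ⟨e⟩⟩ := CfsgLib.Classical22.charSimple_iff.1 hchar
  have hS : ∃ a b : S, a * b ≠ b * a := by
    by_contra hab
    simp only [not_exists, not_not] at hab
    exact hnc ⟨⟨fun a b => e.injective (by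
      rw [map_mul, map_mul]; funext i; exact hab _ _)⟩⟩
  have hm : 2 ≤ m := by
    by_contra hlt
    obtain rfl : m = 1 := by omega
    refine hsimple ?_
    let e' : N ≃* S := e.trans (MulEquiv.funUnique (Fin 1) S)
    exact IsSimpleGroup.isSimpleGroup_of_surjective e'.symm.toMonoidHom e'.symm.surjective
  haveI : Finite (Fin m → S) := Finite.of_equiv _ e.toEquiv
  have hfin : Finite S := Finite.of_injective
    (fun s : S => (Pi.mulSingle (⟨0, by omega⟩ : Fin m) s : Fin m → S))
    (Pi.mulSingle_injective (M := fun _ : Fin m => S) _)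
  exact Or.inr ⟨S, inferInstance, hfin, inferInstance, m, hS, hm, ⟨e⟩⟩

end CfsgLib.Recognition.SimplePower
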