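import Mathlib
import Cfsg.Agent.S3494

/-!
Abelian normal subgroups of stabilisers of extremely primitive groups; conjugation as a linear
action; the semilinear bound for an irreducible cyclic group.
-/

set_option autoImplicit false

namespace CfsgLib.Recognition.Extremely

open MulAction
open scoped IsMulCommutative

/-- An abelian nontrivial normal subgroup of a point stabiliser of an extremely primitive group is
regular on every suborbit other than the trivial one. -/
theorem abelian_normal_regular {G : Type*} [Group G] [Finite G] {Ω : Type*} [Fintype Ω]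
    [MulAction G Ω] [FaithfulSMul G Ω] (hprim : IsPreprimitive G Ω)
    (hH : ∀ α : Ω, stabilizer G α ≠ ⊥)
    (hep : ∀ (α : Ω) (ω : Ω), IsPreprimitive (stabilizer G α) (orbit (stabilizer G α) ω))
    (α : Ω) (A : Subgroup (stabilizer G α)) [A.Normal] (hA : A ≠ ⊥) [IsMulCommutative A]
    (β : Ω) (hβ : β ≠ α) :
    (∀ a ∈ A, a • β = β → a = 1) ∧ (∀ y ∈ orbit (stabilizer G α) β, ∃ a ∈ A, a • β = y) ∧
      Subgroup.centralizer (A : Set (stabilizer G α)) ≤ A ∧
      Nat.card (orbit (stabilizer G α) β) = Nat.card A := by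
  classical
  have hf : ∀ h : stabilizer G α, (∀ x ∈ orbit (stabilizer G α) β, h • x = x) → h = 1 :=
    fun h => Cfsg.Agent.S3494.result hprim hH hep α β hβ h
  haveI := hep α β
  let β' : orbit (stabilizer G α) β := ⟨β, mem_orbit_self β⟩
  have htr : IsPretransitive A (orbit (stabilizer G α) β) := by
    refine IsQuasiPreprimitive.isPretransitive_of_normal fun hu => hA (eq_bot_iff.2 fun a ha => ?_)
    refine Subgroup.mem_bot.2 (hf a fun x hx => ?_)
    exact congrArg Subtype.val
      ((hu ▸ Set.mem_univ _ : (⟨x, hx⟩ : orbit (stabilizer G α) β) ∈ fixedPoints A _) ⟨a, ha⟩)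
  have htr' : ∀ y ∈ orbit (stabilizer G α) β, ∃ a ∈ A, a • β = y := by
    intro y hy
    obtain ⟨a, ha⟩ := exists_smul_eq A β' ⟨y, hy⟩
    exact ⟨a.1, a.2, congrArg Subtype.val ha⟩
  have hsemi : ∀ c ∈ Subgroup.centralizer (A : Set (stabilizer G α)), c • β = β → c = 1 := by
    intro c hc hcβ
    refine hf c fun x hx => ?_
    obtain ⟨a, ha, rfl⟩ := htr' x hx
    rw [← mul_smul, ← Subgroup.mem_centralizer_iff.1 hc a ha, mul_smul, hcβ]
  have hcomm : ∀ a ∈ A, a ∈ Subgroup.centralizer (A : Set (stabilizer G α)) := fun a ha =>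
    Subgroup.mem_centralizer_iff.2 fun b hb =>
      congrArg Subtype.val (mul_comm' (⟨b, hb⟩ : A) ⟨a, ha⟩)
  have hfree : ∀ a ∈ A, a • β = β → a = 1 := fun a ha h => hsemi a (hcomm a ha) h
  refine ⟨hfree, htr', fun c hc => ?_, ?_⟩
  · obtain ⟨a, ha, e⟩ := htr' (c • β) ⟨c, rfl⟩
    have h1 : a⁻¹ * c = 1 := hsemi _
      (Subgroup.mul_mem _ (Subgroup.inv_mem _ (hcomm a ha)) hc) (by rw [mul_smul, ← e, inv_smul_smul])
    rw [← inv_mul_eq_one.1 h1]; exact ha
  · refine (Nat.card_eq_of_bijective (fun a : A => (⟨(a : stabilizer G α) • β, mem_orbit β _⟩ :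
      orbit (stabilizer G α) β)) ⟨fun a b e => ?_, fun y => ?_⟩).symm
    · have e' : (a : stabilizer G α) • β = (b : stabilizer G α) • β := congrArg Subtype.val e
      exact Subtype.ext (inv_mul_eq_one.1 (hfree _ (A.mul_mem (A.inv_mem b.2) a.2)
        (by rw [mul_smul, e', inv_smul_smul]))).symm
    · obtain ⟨a, ha, e⟩ := htr' y y.2
      exact ⟨⟨a, ha⟩, Subtype.ext e⟩

/-- Conjugation on an abelian normal subgroup of exponent `p`, as a linear action. -/
theorem exists_conj_linear {G : Type*} [Group G] (N : Subgroup G) [N.Normal] [IsMulCommutative N]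
    (p : ℕ) [Module (ZMod p) (Additive N)] :
    ∃ θ : G →* (Module.End (ZMod p) (Additive N))ˣ,
      (∀ (g : G) (v : Additive N), (((θ g : Module.End (ZMod p) (Additive N)) v).toMul : G) =
        g * (v.toMul : G) * g⁻¹) ∧ θ.ker = Subgroup.centralizer (N : Set G) := by
  let f : G →* Module.End (ZMod p) (Additive N) :=
    { toFun := fun g => AddMonoidHom.toZModLinearMap p
        (MonoidHom.toAdditive (MulAut.conjNormal g : MulAut N).toMonoidHom)
      map_one' := LinearMap.ext fun v => by
        apply Additive.toMul.injective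
        apply Subtype.ext
        change ((1 : G) * (v.toMul : G) * (1 : G)⁻¹) = _
        simp
      map_mul' := fun a b => LinearMap.ext fun v => by
        apply Additive.toMul.injective
        apply Subtype.ext
        change (a * b) * (v.toMul : G) * (a * b)⁻¹ = a * (b * (v.toMul : G) * b⁻¹) * a⁻¹
        group }
  have hval : ∀ (g : G) (v : Additive N), ((f g v).toMul : G) = g * (v.toMul : G) * g⁻¹ :=
    fun g v => rfl
  refine ⟨f.toHomUnits, fun g v => hval g v, ?_⟩
  ext g
  rw [MonoidHom.mem_ker, Subgroup.mem_centralizer_iff]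
  constructor
  · intro hg n hn
    have h1 : f g (Additive.ofMul ⟨n, hn⟩) = Additive.ofMul ⟨n, hn⟩ := by
      have := congrArg (fun u : (Module.End (ZMod p) (Additive N))ˣ =>
        (u : Module.End (ZMod p) (Additive N)) (Additive.ofMul ⟨n, hn⟩)) hg
      simpa using this
    have h2 := congrArg (fun v : Additive N => (v.toMul : G)) h1
    simp only [hval, toMul_ofMul] at h2
    exact (mul_inv_eq_iff_eq_mul.1 h2).symm
  · intro hg
    refine Units.ext (LinearMap.ext fun v => ?_)
    apply Additive.toMul.injective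
    apply Subtype.ext
    change g * (v.toMul : G) * g⁻¹ = (v.toMul : G)
    rw [← hg _ v.toMul.2, mul_inv_cancel_right]

theorem exists_conj_GL_of_module {G : Type*} [Group G] (N : Subgroup G) [N.Normal] [IsMulCommutative N]
    [Finite N] (p e : ℕ) [Fact p.Prime] [Module (ZMod p) (Additive N)] (hcard : Nat.card N = p ^ e) :
    ∃ φ : G →* GL (Fin e) (ZMod p), φ.ker = Subgroup.centralizer (N : Set G) := by
  obtain ⟨θ, -, hker⟩ := exists_conj_linear N p
  haveI : Module.Finite (ZMod p) (Additive N) := Module.Finite.of_finite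
  have h := @Module.natCard_eq_pow_finrank (ZMod p) (Additive N) _ _ _ _
  rw [Nat.card_zmod, show Nat.card (Additive N) = p ^ e from hcard] at h
  have hd : Module.finrank (ZMod p) (Additive N) = e :=
    ((Nat.pow_right_injective (Fact.out : p.Prime).two_le) h).symm
  let b := (Module.finBasis (ZMod p) (Additive N)).reindex (finCongr hd)
  let ψ : (Module.End (ZMod p) (Additive N))ˣ ≃* GL (Fin e) (ZMod p) :=
    Units.mapEquiv (LinearMap.toMatrixAlgEquiv b).toMulEquiv
  exact ⟨ψ.toMonoidHom.comp θ, by rw [← hker]; ext g; simp [MonoidHom.mem_ker]⟩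

/-- An exponent-`p` subgroup of order `p ^ e` gives matrices. -/
theorem exists_conj_GL {G : Type*} [Group G] (N : Subgroup G) [N.Normal] [IsMulCommutative N]
    [Finite N] (p e : ℕ) [Fact p.Prime] (hexp : ∀ x ∈ N, x ^ p = 1) (hcard : Nat.card N = p ^ e) :
    ∃ φ : G →* GL (Fin e) (ZMod p), φ.ker = Subgroup.centralizer (N : Set G) :=
  letI : Module (ZMod p) (Additive N) :=
    AddCommGroup.zmodModule fun x => congrArg Additive.ofMul (Subtype.ext (hexp _ x.toMul.2) : x.toMul ^ p = 1)
  exists_conj_GL_of_module N p e hcard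

/-- The normaliser of an irreducible cyclic linear group modulo its centraliser has order dividing
the dimension. -/
theorem index_centralizer_dvd {p : ℕ} [Fact p.Prime] {V : Type*} [AddCommGroup V]
    [Module (ZMod p) V] [Finite V] [Nontrivial V] (φ : Module.End (ZMod p) V)
    (hirr : ∀ W : Submodule (ZMod p) V, (∀ w ∈ W, φ w ∈ W) → W = ⊥ ∨ W = ⊤)
    {B : Type*} [Group B] (θ : B →* (Module.End (ZMod p) V)ˣ)
    (hθ : ∀ b, ∃ k : ℕ, (θ b : Module.End (ZMod p) V) * φ * ↑(θ b)⁻¹ = φ ^ k) :
    ∀ K : Subgroup B, (∀ b, b ∈ K ↔ (θ b : Module.End (ZMod p) V) * φ * ↑(θ b)⁻¹ = φ) →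
      K.index ∣ Module.finrank (ZMod p) V := by
  classical
  intro K hK
  haveI : Finite (Module.End (ZMod p) V) :=
    Finite.of_injective (fun f => (f : V → V)) DFunLike.coe_injective
  set R := Algebra.adjoin (ZMod p) ({φ} : Set (Module.End (ZMod p) V)) with hR
  have hφR : φ ∈ R := Algebra.subset_adjoin rfl
  have hRc : ∀ x ∈ R, Commute φ x := fun x hx =>
    Algebra.commute_of_mem_adjoin_of_forall_mem_commute hx fun y hy => by
      exact (Set.mem_singleton_iff.1 hy) ▸ Commute.refl φ
  have hRcc : ∀ x ∈ R, ∀ y ∈ R, Commute y x := fun x hx y hy =>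
    Algebra.commute_of_mem_adjoin_of_forall_mem_commute hx fun z hz => by
      rw [Set.mem_singleton_iff.1 hz]; exact (hRc y hy).symm
  letI : CommRing R := { (inferInstance : Ring R) with
    mul_comm := fun x y => Subtype.ext (hRcc y y.2 x x.2) }
  have hinj : ∀ x ∈ R, x ≠ 0 → Function.Injective x := by
    intro x hx hx0
    rw [← LinearMap.ker_eq_bot]
    refine (hirr _ fun w hw => ?_).resolve_right fun h => hx0 (LinearMap.ker_eq_top.1 h)
    rw [LinearMap.mem_ker] at hw ⊢
    rw [← Module.End.mul_apply, ← (hRc x hx).eq, Module.End.mul_apply, hw, map_zero]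
  haveI : Nontrivial R := ⟨⟨0, 1, fun h => by
    obtain ⟨v, hv⟩ := exists_ne (0 : V)
    exact hv (LinearMap.congr_fun (congrArg Subtype.val h) v).symm⟩⟩
  haveI : NoZeroDivisors R := ⟨fun {a b} hab => by
    by_contra h
    rw [not_or] at h
    refine h.2 (Subtype.ext (LinearMap.ext fun v => ?_))
    refine hinj a a.2 (fun e => h.1 (Subtype.ext e)) ?_
    change (a.1 * b.1) v = a.1 0
    rw [show a.1 * b.1 = 0 from congrArg Subtype.val hab]
    simp⟩
  haveI : IsDomain R := NoZeroDivisors.to_isDomain R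
  letI : Field R := (Finite.isField_of_domain R).toField
  -- the evaluation at a nonzero vector is bijective
  obtain ⟨v, hv⟩ := exists_ne (0 : V)
  let ev : R →ₗ[ZMod p] V := (LinearMap.applyₗ v).comp R.val.toLinearMap
  have hev : ∀ x : R, ev x = x.1 v := fun x => rfl
  have hevi : Function.Injective ev := by
    refine (injective_iff_map_eq_zero ev).2 fun x hx => ?_
    by_contra h
    exact hv (hinj x x.2 (fun e => h (Subtype.ext e)) (((hev x).symm.trans hx).trans (map_zero x.1).symm))
  have hevs : Function.Surjective ev := by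
    rw [← LinearMap.range_eq_top]
    refine (hirr _ ?_).resolve_left fun h => hv ?_
    · rintro _ ⟨x, rfl⟩
      exact ⟨⟨φ, hφR⟩ * x, rfl⟩
    · have : ev 1 = 0 := by
        rw [← Submodule.mem_bot (ZMod p), ← h]; exact ⟨1, rfl⟩
      simpa [hev] using this
  have hfr : Module.finrank (ZMod p) R = Module.finrank (ZMod p) V :=
    (LinearEquiv.ofBijective ev ⟨hevi, hevs⟩).finrank_eq
  -- conjugation preserves `R`
  have hpres : ∀ b : B, ∀ x ∈ R,
      (θ b : Module.End (ZMod p) V) * x * ↑(θ b)⁻¹ ∈ R := by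
    intro b x hx
    obtain ⟨k, hk⟩ := hθ b
    induction hx using Algebra.adjoin_induction with
    | mem y hy => rw [Set.mem_singleton_iff.1 hy, hk]; exact pow_mem hφR k
    | algebraMap r =>
      rw [← Algebra.commutes, mul_assoc, Units.mul_inv, mul_one]
      exact R.algebraMap_mem r
    | add y z _ _ hy hz => rw [mul_add, add_mul]; exact add_mem hy hz
    | mul y z _ _ hy hz =>
      have e : (θ b : Module.End (ZMod p) V) * (y * z) * ↑(θ b)⁻¹ =
          ((θ b : Module.End (ZMod p) V) * y * ↑(θ b)⁻¹) * ((θ b : Module.End (ZMod p) V) * z * ↑(θ b)⁻¹) := by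
        simp only [mul_assoc, Units.inv_mul_cancel_left]
      rw [e]; exact mul_mem hy hz
  let Φ : B →* (R →ₐ[ZMod p] R) :=
    { toFun := fun b =>
        { toFun := fun x => ⟨(θ b : Module.End (ZMod p) V) * x.1 * ↑(θ b)⁻¹, hpres b x x.2⟩
          map_one' := Subtype.ext (by simp)
          map_mul' := fun x y => Subtype.ext (by simp [mul_assoc])
          map_zero' := Subtype.ext (by simp)
          map_add' := fun x y => Subtype.ext (by simp [mul_add, add_mul])
          commutes' := fun r => Subtype.ext (by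
            change (θ b : Module.End (ZMod p) V) * algebraMap (ZMod p) _ r * ↑(θ b)⁻¹ =
              algebraMap (ZMod p) _ r
            rw [← Algebra.commutes, mul_assoc, Units.mul_inv, mul_one]) }
      map_one' := AlgHom.ext fun x => Subtype.ext (by simp)
      map_mul' := fun a b => AlgHom.ext fun x => Subtype.ext (by
        simp [mul_assoc]) }
  let Ψ : B →* (R ≃ₐ[ZMod p] R) := (algEquivEquivAlgHom (ZMod p) R).symm.toMonoidHom.comp Φ
  have hker : Ψ.ker = K := by
    ext b
    rw [hK, show b ∈ Ψ.ker ↔ Φ b = 1 from MonoidHom.mem_ker.trans ((algEquivEquivAlgHom (ZMod p) R).symm.map_eq_one_iff)]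
    constructor
    · intro h
      exact congrArg Subtype.val (AlgHom.congr_fun h ⟨φ, hφR⟩)
    · intro h
      refine AlgHom.ext fun x => ?_
      obtain ⟨x, hx⟩ := x
      apply Subtype.ext
      change (θ b : Module.End (ZMod p) V) * x * ↑(θ b)⁻¹ = x
      induction hx using Algebra.adjoin_induction with
      | mem y hy => rw [Set.mem_singleton_iff.1 hy]; exact h
      | algebraMap r => rw [← Algebra.commutes, mul_assoc, Units.mul_inv, mul_one]
      | add y z _ _ hy hz => rw [mul_add, add_mul, hy, hz]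
      | mul y z _ _ hy hz =>
        conv_rhs => rw [← hy, ← hz]
        simp only [mul_assoc, Units.inv_mul_cancel_left]
  rw [← hker, Subgroup.index_ker, ← hfr, ← IsGalois.card_aut_eq_finrank]
  exact Subgroup.card_subgroup_dvd_card _

/-- A group fixing exactly one common point and acting freely elsewhere has order dividing `n - 1`. -/
theorem card_dvd_pred_of_free {A : Type*} [Group A] [Finite A] {X : Type*} [MulAction A X] [Fintype X]
    (x₀ : X) (hfix : ∀ a : A, a • x₀ = x₀) (hfree : ∀ (a : A) (x : X), a ≠ 1 → a • x = x → x = x₀) :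
    Nat.card A ∣ Fintype.card X - 1 := by
  classical
  haveI := Fintype.ofFinite A
  have hsum := sum_card_fixedBy_eq_card_orbits_mul_card_group A X
  have h1 : ∀ a : A, a ≠ 1 → Fintype.card (fixedBy X a) = 1 := fun a ha =>
    Fintype.card_eq_one_iff.2 ⟨⟨x₀, hfix a⟩, fun y => Subtype.ext (hfree a y ha y.2)⟩
  have h0 : Fintype.card (fixedBy X (1 : A)) = Fintype.card X :=
    Fintype.card_congr ⟨Subtype.val, fun y => ⟨y, one_smul A y⟩, fun _ => rfl, fun _ => rfl⟩
  rw [← Finset.add_sum_erase _ _ (Finset.mem_univ (1 : A)), h0,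
    Finset.sum_congr rfl (fun a ha => h1 a (Finset.ne_of_mem_erase ha)), ← Finset.card_eq_sum_ones,
    Finset.card_erase_of_mem (Finset.mem_univ _), Finset.card_univ] at hsum
  have hpos := Fintype.card_pos (α := A)
  haveI : Nonempty X := ⟨x₀⟩
  have hX := Fintype.card_pos (α := X)
  refine Nat.card_eq_fintype_card (α := A) ▸ ⟨Fintype.card (Quotient (orbitRel A X)) - 1, ?_⟩
  rw [Nat.mul_sub, mul_one, mul_comm]
  omega

/-- The unique fixed point of a nontrivial stabiliser in a primitive group: some point is moved. -/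
theorem exists_ne_of_stabilizer_ne_bot {G : Type*} [Group G] {Ω : Type*} [MulAction G Ω]
    [FaithfulSMul G Ω] (α : Ω) (h : stabilizer G α ≠ ⊥) : ∃ ω : Ω, ω ≠ α := by
  by_contra hc
  simp only [not_exists, not_not] at hc
  exact h (eq_bot_iff.2 fun x _ => Subgroup.mem_bot.2 (eq_of_smul_eq_smul (α := Ω) fun y => by
    rw [hc (x • y), hc ((1 : G) • y)]))

/-- A nontrivial normal subgroup contains a minimal one. -/
theorem exists_minimal_normal {H : Type*} [Group H] [Finite H] (M : Subgroup H) [M.Normal] (hM : M ≠ ⊥) :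
    ∃ A : Subgroup H, A.Normal ∧ A ≠ ⊥ ∧ A ≤ M ∧
      ∀ K : Subgroup H, K.Normal → K ≤ A → K = ⊥ ∨ K = A := by
  obtain ⟨A, ⟨h1, h2, h3⟩, hmin⟩ :=
    (Set.toFinite {A : Subgroup H | A.Normal ∧ A ≠ ⊥ ∧ A ≤ M}).exists_minimal ⟨M, inferInstance, hM, le_rfl⟩
  exact ⟨A, h1, h2, h3, fun K hK hle => or_iff_not_imp_left.mpr fun h =>
    le_antisymm hle (hmin ⟨hK, h, hle.trans h3⟩ hle)⟩

/-- An abelian minimal normal subgroup is elementary abelian. -/
theorem exists_prime_exponent {H : Type*} [Group H] [Finite H] (A : Subgroup H) [A.Normal]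
    (hc : ∀ a ∈ A, ∀ b ∈ A, a * b = b * a) (hA : A ≠ ⊥)
    (hmin : ∀ K : Subgroup H, K.Normal → K ≤ A → K = ⊥ ∨ K = A) :
    ∃ p e : ℕ, p.Prime ∧ Nat.card A = p ^ e ∧ ∀ x ∈ A, x ^ p = 1 := by
  obtain ⟨p, hp, hdvd⟩ := Nat.exists_prime_and_dvd fun h => hA (Subgroup.card_eq_one.1 h)
  haveI := Fact.mk hp
  let P : Subgroup H :=
    { carrier := {x | x ∈ A ∧ x ^ p = 1}
      one_mem' := ⟨A.one_mem, one_pow p⟩
      mul_mem' := fun {a b} ha hb => ⟨A.mul_mem ha.1 hb.1, by
        rw [Commute.mul_pow (hc a ha.1 b hb.1), ha.2, hb.2, one_mul]⟩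
      inv_mem' := fun {a} ha => ⟨A.inv_mem ha.1, by rw [inv_pow, ha.2, inv_one]⟩ }
  have hPn : P.Normal := ⟨fun x hx g => ⟨(inferInstance : A.Normal).conj_mem x hx.1 g, by
    rw [conj_pow, hx.2, mul_one, mul_inv_cancel]⟩⟩
  obtain ⟨x, hx⟩ := exists_prime_orderOf_dvd_card' (G := A) p hdvd
  have hPA : P = A := (hmin P hPn fun y hy => hy.1).resolve_left fun h => by
    have hxP : (x : H) ∈ P := ⟨x.2, by rw [← hx, ← Subgroup.orderOf_coe]; exact pow_orderOf_eq_one _⟩
    rw [h, Subgroup.mem_bot] at hxP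
    rw [Subtype.ext hxP (a2 := (1 : A)), orderOf_one] at hx
    exact hp.one_lt.ne hx
  have hexp : ∀ y ∈ A, y ^ p = 1 := fun y hy => (hPA.symm ▸ hy : y ∈ P).2
  obtain ⟨e, he⟩ := (show IsPGroup p A from fun y => ⟨1, by
    rw [pow_one]; exact Subtype.ext (hexp y y.2)⟩).exists_card_eq
  exact ⟨p, e, hp, he, hexp⟩

end CfsgLib.Recognition.Extremely
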