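import Mathlib
import Cfsg.Agent.Lib.Recognition.SimplePower

/-!
A nonabelian simple group cannot have all its centralizers induced by maximal subgroups
in the sense used for extremely primitive groups.
-/

set_option autoImplicit false

namespace CfsgLib.Recognition.CentralizerMaximal

theorem sum_inv_sq_le (N : ℕ) (hN : 2 ≤ N) :
    ∑ r ∈ Finset.Icc 2 N, (1 : ℚ) / (r : ℚ) ^ 2 ≤ 3 / 4 - 1 / (N : ℚ) := by
  induction N, hN using Nat.le_induction with
  | base => norm_num
  | succ n hn ih =>
    rw [Finset.sum_Icc_succ_top (by omega)]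
    have h0 : (2 : ℚ) ≤ n := by exact_mod_cast hn
    have key : (1 : ℚ) / ((n + 1 : ℕ) : ℚ) ^ 2 ≤ 1 / (n : ℚ) - 1 / ((n + 1 : ℕ) : ℚ) := by
      push_cast
      rw [div_sub_div _ _ (by positivity) (by positivity), div_le_div_iff₀ (by positivity) (by positivity)]
      nlinarith
    linarith

/-- A finite group whose elements of prime power order are central is commutative. -/
theorem comm_of_primePow_central {A : Type*} [Group A] [Finite A]
    (h : ∀ r : ℕ, r.Prime → ∀ y : A, (∃ k : ℕ, orderOf y = r ^ k) → y ∈ Subgroup.center A) :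
    ∀ a b : A, a * b = b * a := by
  by_contra hab
  have hne : Subgroup.center A ≠ ⊤ := fun htop => hab fun a b =>
    Subgroup.mem_center_iff.1 (htop ▸ Subgroup.mem_top b) a
  obtain ⟨r, hr, hrd⟩ := Nat.exists_prime_and_dvd (n := (Subgroup.center A).index)
    (fun h1 => hne (Subgroup.index_eq_one.1 h1))
  haveI := Fact.mk hr
  obtain ⟨R⟩ := (inferInstance : Nonempty (Sylow r A))
  have hle : (R : Subgroup A) ≤ Subgroup.center A := fun y hy => by
    refine h r hr y ?_
    obtain ⟨k, hk⟩ := IsPGroup.iff_orderOf.1 R.2 ⟨y, hy⟩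
    exact ⟨k, (Subgroup.orderOf_coe _).trans hk⟩
  exact R.not_dvd_index (hrd.trans (Subgroup.index_dvd_of_le hle))

theorem false_of_centralizer_coatoms {T : Type*} [Group T] [Finite T] [IsSimpleGroup T]
    (hT : ∃ a b : T, a * b ≠ b * a) {H : Type*} [Group H] (ψ : T →* H) (hinj : Function.Injective ψ)
    [hnorm : ψ.range.Normal] (X : T → Subgroup H) (hco : ∀ s : T, s ≠ 1 → IsCoatom (X s))
    (hpow : ∀ (s : T) (r : ℕ), X s ≤ X (s ^ r)) (hmem : ∀ t s : T, ψ t ∈ X s ↔ t * s = s * t) :
    False := by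
  classical
  let C : T → Subgroup T := fun s => Subgroup.centralizer ({s} : Set T)
  have memC : ∀ {t s : T}, t ∈ C s ↔ t * s = s * t := fun {t s} =>
    Subgroup.mem_centralizer_singleton_iff.trans ⟨fun h => h, fun h => h⟩
  have hX : ∀ (s : T) (r : ℕ), s ^ r ≠ 1 → X (s ^ r) = X s := by
    intro s r hr
    have hs : s ≠ 1 := fun h => hr (by rw [h, one_pow])
    exact ((hco s hs).le_iff.1 (hpow s r)).resolve_left (hco _ hr).1
  have hXC : ∀ s u : T, X s = X u → C s = C u := by
    intro s u h
    ext t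
    rw [memC, memC, ← hmem, ← hmem, h]
  have hCpow : ∀ (s : T) (r : ℕ), s ^ r ≠ 1 → C (s ^ r) = C s := fun s r hr => hXC _ _ (hX s r hr)
  have hcop : ∀ s u : T, s * u = u * s → s ≠ 1 → u ≠ 1 → Nat.Coprime (orderOf s) (orderOf u) → C s = C u := by
    intro s u hc hs hu hco'
    have hs' : s ^ orderOf u ≠ 1 := fun h => hs (orderOf_eq_one_iff.1
      (Nat.Coprime.eq_one_of_dvd hco' (orderOf_dvd_of_pow_eq_one h)))
    have hu' : u ^ orderOf s ≠ 1 := fun h => hu (orderOf_eq_one_iff.1
      (Nat.Coprime.eq_one_of_dvd hco'.symm (orderOf_dvd_of_pow_eq_one h)))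
    have h1 : (s * u) ^ orderOf u = s ^ orderOf u := by
      rw [(show Commute s u from hc).mul_pow, pow_orderOf_eq_one, mul_one]
    have h2 : (s * u) ^ orderOf s = u ^ orderOf s := by
      rw [(show Commute s u from hc).mul_pow, pow_orderOf_eq_one, one_mul]
    have e1 := hX (s * u) (orderOf u) (by rw [h1]; exact hs')
    have e2 := hX (s * u) (orderOf s) (by rw [h2]; exact hu')
    rw [h1, hX s _ hs'] at e1
    rw [h2, hX u _ hu'] at e2
    exact hXC _ _ (e1.trans e2.symm)
  have hN : ∀ s : T, s ≠ 1 → Subgroup.normalizer (C s : Set T) = C s := by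
    intro s hs
    refine le_antisymm (fun g hg => ?_) Subgroup.le_normalizer
    let Y : Subgroup H := (C s).map ψ
    have hY : Y = ψ.range ⊓ X s := by
      ext z
      constructor
      · rintro ⟨t, ht, rfl⟩; exact ⟨⟨t, rfl⟩, (hmem t s).2 (memC.1 ht)⟩
      · rintro ⟨⟨t, rfl⟩, ht⟩; exact ⟨t, memC.2 ((hmem t s).1 ht), rfl⟩
    have hle : X s ≤ Subgroup.normalizer (Y : Set H) := by
      intro x hx
      rw [Subgroup.mem_normalizer_iff]
      intro z
      rw [hY, Subgroup.mem_inf, Subgroup.mem_inf]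
      constructor
      · rintro ⟨h1, h2⟩
        exact ⟨hnorm.conj_mem z h1 x, (X s).mul_mem ((X s).mul_mem hx h2) ((X s).inv_mem hx)⟩
      · rintro ⟨h1, h2⟩
        refine ⟨?_, ?_⟩
        · simpa [mul_assoc] using hnorm.conj_mem _ h1 x⁻¹
        · simpa [mul_assoc] using (X s).mul_mem ((X s).mul_mem ((X s).inv_mem hx) h2) hx
    rcases (hco s hs).le_iff.1 hle with htop | heq
    · exfalso
      have hYn : Y.Normal := Subgroup.normalizer_eq_top_iff.1 htop
      have hCn : (C s).Normal := by
        rw [← Subgroup.comap_map_eq_self_of_injective hinj (C s)]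
        exact hYn.comap ψ
      rcases hCn.eq_bot_or_eq_top with h | h
      · exact hs (Subgroup.mem_bot.1 (h ▸ (memC.2 rfl : s ∈ C s)))
      · obtain ⟨a, b, hab⟩ := hT
        have hz : s ∈ Subgroup.center T :=
          Subgroup.mem_center_iff.2 fun t => memC.1 (h ▸ Subgroup.mem_top t)
        rcases (inferInstance : (Subgroup.center T).Normal).eq_bot_or_eq_top with h' | h'
        · exact hs (Subgroup.mem_bot.1 (h' ▸ hz))
        · exact hab (Subgroup.mem_center_iff.1 (h' ▸ Subgroup.mem_top b) a)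
    · refine memC.2 ((hmem g s).1 (heq ▸ ?_))
      rw [Subgroup.mem_normalizer_iff]
      intro z
      have hg' := Subgroup.mem_normalizer_iff.1 hg
      constructor
      · rintro ⟨t, ht, rfl⟩
        exact ⟨g * t * g⁻¹, (hg' t).1 ht, by simp⟩
      · rintro ⟨t, ht, e⟩
        refine ⟨g⁻¹ * t * g, (hg' _).2 (by simpa [mul_assoc] using ht), ?_⟩
        rw [map_mul, map_mul, map_inv, e]; group
  have habel : ∀ p : ℕ, p.Prime → p ∣ Nat.card T → ∀ P : Sylow p T, ∀ x ∈ (P : Subgroup T), x ≠ 1 →
      (P : Subgroup T) ≤ C x → (∀ a ∈ C x, ∀ b ∈ C x, a * b = b * a) → False := by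
    intro p hp hpd P x hxP hx hPA hab
    haveI := Fact.mk hp
    have hle : Subgroup.normalizer ((P : Subgroup T) : Set T) ≤ Subgroup.centralizer ((P : Subgroup T) : Set T) := by
      intro g hg
      have hgA : g ∈ Subgroup.normalizer (C x : Set T) := by
        have key : ∀ g ∈ Subgroup.normalizer ((P : Subgroup T) : Set T), ∀ a ∈ C x, g * a * g⁻¹ ∈ C x := by
          intro g hg a ha
          have hx' : g⁻¹ * x * g ∈ (P : Subgroup T) :=
            (Subgroup.mem_normalizer_iff.1 hg _).2 (by simpa [mul_assoc] using hxP)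
          have := hab a ha _ (hPA hx')
          refine memC.2 ?_
          calc g * a * g⁻¹ * x = g * (a * (g⁻¹ * x * g)) * g⁻¹ := by group
            _ = g * ((g⁻¹ * x * g) * a) * g⁻¹ := by rw [this]
            _ = x * (g * a * g⁻¹) := by group
        rw [Subgroup.mem_normalizer_iff]
        intro a
        refine ⟨key g hg a, fun h => ?_⟩
        have := key g⁻¹ ((Subgroup.normalizer _).inv_mem hg) _ h
        simpa [mul_assoc] using this
      rw [hN x hx] at hgA
      rw [Subgroup.mem_centralizer_iff]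
      exact fun b hb => hab b (hPA hb) g hgA
    have hcompl := MonoidHom.ker_transferSylow_isComplement' P hle
    rcases (inferInstance : (MonoidHom.transferSylow P hle).ker.Normal).eq_bot_or_eq_top with h | h
    · rw [h] at hcompl
      have hPtop : (P : Subgroup T) = ⊤ := Subgroup.isComplement'_bot_left.1 hcompl
      obtain ⟨a, b, hab'⟩ := hT
      exact hab' (hab a (hPA (hPtop ▸ Subgroup.mem_top a)) b (hPA (hPtop ▸ Subgroup.mem_top b)))
    · rw [h] at hcompl
      have hPbot : (P : Subgroup T) = ⊥ := Subgroup.isComplement'_top_left.1 hcompl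
      exact hx (Subgroup.mem_bot.1 (hPbot ▸ hxP))
  -- every centralizer of a central element of a Sylow subgroup has prime power order
  have hbad : ∀ p : ℕ, p.Prime → p ∣ Nat.card T → ∀ P : Sylow p T, ∀ x ∈ (P : Subgroup T), orderOf x = p →
      (P : Subgroup T) ≤ C x → IsPGroup p (C x) := by
    intro p hp hpd P x hxP hxo hPA
    haveI := Fact.mk hp
    by_contra hnp
    obtain ⟨q, hq, hqd, hqp⟩ : ∃ q : ℕ, q.Prime ∧ q ∣ Nat.card (C x) ∧ q ≠ p := by
      by_contra hcon
      exact hnp (IsPGroup.of_card (Nat.eq_prime_pow_of_unique_prime_dvd Nat.card_pos.ne'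
        (fun {d} hd hdd => by_contra fun hne => hcon ⟨d, hd, hdd, hne⟩)))
    haveI := Fact.mk hq
    obtain ⟨z, hz⟩ := exists_prime_orderOf_dvd_card' q hqd
    have hzo : orderOf (z : T) = q := by rw [Subgroup.orderOf_coe]; exact hz
    have hx1 : x ≠ 1 := fun h => by rw [h, orderOf_one] at hxo; exact hp.one_lt.ne hxo
    have hz1 : (z : T) ≠ 1 := fun h => by rw [h, orderOf_one] at hzo; exact hq.one_lt.ne hzo
    have hzx : C (z : T) = C x := hcop _ _ (memC.1 z.2) hz1 hx1 (by
      rw [hzo, hxo]; exact (Nat.coprime_primes hq hp).2 hqp)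
    refine habel p hp hpd P x hxP hx1 hPA fun a ha b hb => ?_
    have hcomm := comm_of_primePow_central (A := C x) (fun r hr y ⟨k, hk⟩ => by
      by_cases hy : y = 1
      · rw [hy]; exact Subgroup.one_mem _
      · have hy1 : (y : T) ≠ 1 := fun h => hy (Subtype.ext h)
        have hyo : orderOf (y : T) = r ^ k := by rw [Subgroup.orderOf_coe]; exact hk
        have hyC : C (y : T) = C x := by
          by_cases hrq : r = q
          · refine hcop _ _ (memC.1 y.2) hy1 hx1 ?_
            rw [hyo, hxo]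
            exact Nat.Coprime.pow_left _ ((Nat.coprime_primes hr hp).2 (hrq ▸ hqp))
          · have hyz : (y : T) * z = z * y := memC.1 (by rw [hzx]; exact y.2 : (y : T) ∈ C (z : T))
            refine (hcop _ _ hyz hy1 hz1 ?_).trans hzx
            rw [hyo, hzo]
            exact Nat.Coprime.pow_left _ ((Nat.coprime_primes hr hq).2 hrq)
        exact Subgroup.mem_center_iff.2 fun a => Subtype.ext (memC.1 (by rw [hyC]; exact a.2 : (a : T) ∈ C (y : T))))
    exact congrArg Subtype.val (hcomm ⟨a, ha⟩ ⟨b, hb⟩)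
  have hcentral : ∀ p : ℕ, p.Prime → p ∣ Nat.card T → ∀ P : Sylow p T,
      ∃ x ∈ (P : Subgroup T), orderOf x = p ∧ (P : Subgroup T) ≤ C x := by
    intro p hp hpd P
    haveI := Fact.mk hp
    haveI : Nontrivial (P : Subgroup T) := by
      rw [← Finite.one_lt_card_iff_nontrivial]
      rcases Nat.eq_or_lt_of_le (Nat.one_le_iff_ne_zero.2 (Nat.card_pos (α := (P : Subgroup T))).ne') with h | h
      · exact absurd (P.dvd_card_of_dvd_card hpd) (by rw [← h]; exact hp.not_dvd_one)
      · exact h
    haveI := IsPGroup.center_nontrivial P.2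
    obtain ⟨k, hk0, hk⟩ := (IsPGroup.nontrivial_iff_card (P.2.to_subgroup (Subgroup.center (P : Subgroup T)))).1 inferInstance
    obtain ⟨z, hz⟩ := exists_prime_orderOf_dvd_card' p (hk ▸ dvd_pow_self p (by omega) :
      p ∣ Nat.card (Subgroup.center (P : Subgroup T)))
    refine ⟨((z : (P : Subgroup T)) : T), (z : (P : Subgroup T)).2, by rw [Subgroup.orderOf_coe, Subgroup.orderOf_coe]; exact hz, fun a ha => memC.2 ?_⟩
    exact congrArg Subtype.val (Subgroup.mem_center_iff.1 z.2 ⟨a, ha⟩)
  have hnonab : ∀ p : ℕ, p.Prime → p ∣ Nat.card T → ∀ P : Sylow p T,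
      ∃ a ∈ (P : Subgroup T), ∃ b ∈ (P : Subgroup T), a * b ≠ b * a := by
    intro p hp hpd P
    haveI := Fact.mk hp
    by_contra hcon
    obtain ⟨x, hxP, hxo, hPA⟩ := hcentral p hp hpd P
    have heq : C x = (P : Subgroup T) := P.is_maximal' (hbad p hp hpd P x hxP hxo hPA) hPA
    exact habel p hp hpd P x hxP (fun h => by rw [h, orderOf_one] at hxo; exact hp.one_lt.ne hxo) hPA
      fun a ha b hb => by_contra fun h => hcon ⟨a, heq ▸ ha, b, heq ▸ hb, h⟩
  have hsyl : ∀ s : T, s ≠ 1 → ∃ r ∈ (Nat.card T).primeFactors, ∃ R : Sylow r T,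
      s ∈ (R : Subgroup T) ∧ ∀ a ∈ (R : Subgroup T), a * s = s * a := by
    intro s hs
    obtain ⟨r, hr, hrd⟩ := Nat.exists_prime_and_dvd (n := orderOf s) (fun h => hs (orderOf_eq_one_iff.1 h))
    haveI := Fact.mk hr
    have hrT : r ∣ Nat.card T := hrd.trans (orderOf_dvd_natCard s)
    set z := s ^ (orderOf s / r) with hzdef
    have hzo : orderOf z = r := orderOf_pow_orderOf_div (orderOf_pos s).ne' hrd
    have hz1 : z ≠ 1 := fun h => by rw [h, orderOf_one] at hzo; exact hr.one_lt.ne hzo
    have hCz : C z = C s := hCpow s _ hz1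
    have hpg : IsPGroup r (C s) := by
      by_contra hnp
      obtain ⟨q, hq, hqd, hqr⟩ : ∃ q : ℕ, q.Prime ∧ q ∣ Nat.card (C s) ∧ q ≠ r := by
        by_contra hcon
        exact hnp (IsPGroup.of_card (Nat.eq_prime_pow_of_unique_prime_dvd Nat.card_pos.ne'
          (fun {d} hd hdd => by_contra fun hne => hcon ⟨d, hd, hdd, hne⟩)))
      haveI := Fact.mk hq
      obtain ⟨w, hw⟩ := exists_prime_orderOf_dvd_card' q hqd
      have hwo : orderOf (w : T) = q := by rw [Subgroup.orderOf_coe]; exact hw
      have hw1 : (w : T) ≠ 1 := fun h => by rw [h, orderOf_one] at hwo; exact hq.one_lt.ne hwo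
      have hwz : C (w : T) = C z := hcop _ _ (memC.1 (by rw [hCz]; exact w.2 : (w : T) ∈ C z)) hw1 hz1 (by
        rw [hwo, hzo]; exact (Nat.coprime_primes hq hr).2 hqr)
      obtain ⟨R, hR⟩ := (IsPGroup.of_card (p := r) (G := Subgroup.zpowers z) (n := 1)
        (by rw [Nat.card_zpowers, hzo, pow_one])).exists_le_sylow
      obtain ⟨x, hxR, hxo, hRA⟩ := hcentral r hr hrT R
      have hxz : x ∈ C z := memC.2 (memC.1 (hRA (hR (Subgroup.mem_zpowers z)))).symm
      have hwx : (w : T) ∈ C x := memC.2 (memC.1 (by rw [hwz]; exact hxz : x ∈ C (w : T))).symm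
      obtain ⟨k, hk⟩ := IsPGroup.iff_orderOf.1 (hbad r hr hrT R x hxR hxo hRA) ⟨w, hwx⟩
      · rw [← Subgroup.orderOf_coe, hwo] at hk
        exact hqr ((Nat.prime_dvd_prime_iff_eq hq hr).1 (hq.dvd_of_dvd_pow (dvd_of_eq hk)))
    obtain ⟨n, hn⟩ := hpg.exists_card_eq
    have hnfac : n = (Nat.card T).factorization r := by
      have hle : n ≤ (Nat.card T).factorization r :=
        (hr.pow_dvd_iff_le_factorization Nat.card_pos.ne').1 (hn ▸ Subgroup.card_subgroup_dvd_card _)
      by_contra hne
      have hd := Sylow.prime_dvd_card_quotient_normalizer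
        ((hr.pow_dvd_iff_le_factorization Nat.card_pos.ne').2 (by omega : n + 1 ≤ _)) hn
      rw [hN s hs] at hd
      have : (C s).comap (C s).subtype = ⊤ := by ext a; simp
      rw [this, ← Subgroup.index_eq_card, Subgroup.index_top] at hd
      exact hr.not_dvd_one hd
    refine ⟨r, Nat.mem_primeFactors.2 ⟨hr, hrT, Nat.card_pos.ne'⟩,
      Sylow.ofCard (C s) (hn.trans (by rw [hnfac])), ?_, ?_⟩
    · exact memC.2 rfl
    · exact fun a ha => memC.1 ha
  -- counting
  haveI := Fintype.ofFinite T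
  let U : ℕ → Finset T := fun r => Finset.univ.filter fun s =>
    ∃ R : Sylow r T, s ∈ (R : Subgroup T) ∧ ∀ a ∈ (R : Subgroup T), a * s = s * a
  have hcover : (Finset.univ.erase (1 : T)) ⊆ (Nat.card T).primeFactors.biUnion U := by
    intro s hs
    obtain ⟨r, hr, R, h⟩ := hsyl s (Finset.mem_erase.1 hs).1
    exact Finset.mem_biUnion.2 ⟨r, hr, Finset.mem_filter.2 ⟨Finset.mem_univ _, R, h⟩⟩
  have hU : ∀ r ∈ (Nat.card T).primeFactors, (U r).card * r ^ 2 ≤ Nat.card T := by
    intro r hr
    obtain ⟨hrp, hrd, -⟩ := Nat.mem_primeFactors.1 hr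
    haveI := Fact.mk hrp
    let V : Sylow r T → Finset T := fun R => Finset.univ.filter fun s =>
      s ∈ (R : Subgroup T) ∧ ∀ a ∈ (R : Subgroup T), a * s = s * a
    have hsub : U r ⊆ Finset.univ.biUnion V := by
      intro s hs
      obtain ⟨R, h⟩ := (Finset.mem_filter.1 hs).2
      exact Finset.mem_biUnion.2 ⟨R, Finset.mem_univ _, Finset.mem_filter.2 ⟨Finset.mem_univ _, h⟩⟩
    obtain ⟨R₀⟩ := (inferInstance : Nonempty (Sylow r T))
    have hV : ∀ R : Sylow r T, (V R).card * r ^ 2 ≤ Nat.card (R₀ : Subgroup T) := by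
      intro R
      have hcard : (V R).card = Nat.card (Subgroup.center (R : Subgroup T)) := by
        rw [← Fintype.card_coe, ← Nat.card_eq_fintype_card]
        refine Nat.card_congr
          { toFun := fun s => ⟨⟨s.1, (Finset.mem_filter.1 s.2).2.1⟩, Subgroup.mem_center_iff.2
              fun a => Subtype.ext ((Finset.mem_filter.1 s.2).2.2 a a.2)⟩
            invFun := fun z => ⟨((z : (R : Subgroup T)) : T), Finset.mem_filter.2 ⟨Finset.mem_univ _,
              (z : (R : Subgroup T)).2, fun a ha => congrArg Subtype.val (Subgroup.mem_center_iff.1 z.2 ⟨a, ha⟩)⟩⟩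
            left_inv := fun s => rfl
            right_inv := fun z => rfl }
      obtain ⟨k, hk⟩ := R.2.index (Subgroup.center (R : Subgroup T))
      have hk2 : 2 ≤ k := by
        by_contra hlt
        obtain ⟨a, ha, b, hb, hab⟩ := hnonab r hrp hrd R
        haveI : IsCyclic ((R : Subgroup T) ⧸ Subgroup.center (R : Subgroup T)) := by
          rcases (show k = 0 ∨ k = 1 by omega) with rfl | rfl
          · haveI : Subsingleton ((R : Subgroup T) ⧸ Subgroup.center (R : Subgroup T)) :=
              (Nat.card_eq_one_iff_unique.1 (by rw [← Subgroup.index_eq_card, hk, pow_zero])).1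
            infer_instance
          · exact isCyclic_of_prime_card (p := r) (by rw [← Subgroup.index_eq_card, hk, pow_one])
        have hker : (QuotientGroup.mk' (Subgroup.center (R : Subgroup T))).ker ≤ Subgroup.center (R : Subgroup T) := by
          rw [QuotientGroup.ker_mk']
        exact hab (congrArg Subtype.val
          (commutative_of_cyclic_center_quotient (QuotientGroup.mk' (Subgroup.center (R : Subgroup T))) hker ⟨a, ha⟩ ⟨b, hb⟩))
      rw [hcard, ← Sylow.card_eq_multiplicity R₀ |>.trans (Sylow.card_eq_multiplicity R).symm |> Eq.symm,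
        ← Subgroup.card_mul_index (Subgroup.center (R : Subgroup T)), hk]
      exact Nat.mul_le_mul_left _ (Nat.pow_le_pow_right hrp.pos hk2)
    have hn : Nat.card (Sylow r T) * Nat.card (R₀ : Subgroup T) ≤ Nat.card T := by
      rw [R₀.card_eq_index_normalizer, ← Subgroup.index_mul_card (Subgroup.normalizer ((R₀ : Subgroup T) : Set T))]
      exact Nat.mul_le_mul_left _ (Subgroup.card_le_of_le Subgroup.le_normalizer)
    calc (U r).card * r ^ 2 ≤ (∑ R : Sylow r T, (V R).card) * r ^ 2 :=
          Nat.mul_le_mul_right _ ((Finset.card_le_card hsub).trans Finset.card_biUnion_le)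
      _ = ∑ R : Sylow r T, (V R).card * r ^ 2 := Finset.sum_mul _ _ _
      _ ≤ ∑ _R : Sylow r T, Nat.card (R₀ : Subgroup T) := Finset.sum_le_sum fun R _ => hV R
      _ = Nat.card (Sylow r T) * Nat.card (R₀ : Subgroup T) := by
          rw [Finset.sum_const, Finset.card_univ, smul_eq_mul, Nat.card_eq_fintype_card (α := Sylow r T)]
      _ ≤ Nat.card T := hn
  set n := Nat.card T with hndef
  have hn0 : 0 < n := Nat.card_pos
  have h1 : n - 1 ≤ ∑ r ∈ n.primeFactors, (U r).card := by
    have := (Finset.card_le_card hcover).trans Finset.card_biUnion_le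
    rwa [Finset.card_erase_of_mem (Finset.mem_univ _), Finset.card_univ, ← Nat.card_eq_fintype_card] at this
  have h2 : ((n : ℚ) - 1) ≤ (n : ℚ) * ∑ r ∈ n.primeFactors, (1 : ℚ) / (r : ℚ) ^ 2 := by
    have hc : ((n - 1 : ℕ) : ℚ) ≤ ((∑ r ∈ n.primeFactors, (U r).card : ℕ) : ℚ) := by exact_mod_cast h1
    rw [Nat.cast_sub hn0, Nat.cast_one, Nat.cast_sum] at hc
    refine hc.trans ?_
    rw [Finset.mul_sum]
    refine Finset.sum_le_sum fun r hr => ?_
    have hr0 : (0 : ℚ) < (r : ℚ) ^ 2 := by
      have := (Nat.prime_of_mem_primeFactors hr).pos; positivity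
    rw [mul_one_div, le_div_iff₀ hr0]
    exact_mod_cast hU r hr
  obtain ⟨a, b, c, ha, hb, hc, hab, hac, hbc, hda, hdb, hdc⟩ :=
    SimplePower.exists_three_primes (SimplePower.not_isSolvable_of_simple hT)
  rw [← hndef] at hda hdb hdc
  have hn5 : 5 ≤ n := by
    have := Nat.le_of_dvd hn0 hda; have := Nat.le_of_dvd hn0 hdb; have := Nat.le_of_dvd hn0 hdc
    by_contra hlt
    have : a ≠ 4 := fun h => by rw [h] at ha; exact absurd ha (by norm_num)
    have : b ≠ 4 := fun h => by rw [h] at hb; exact absurd hb (by norm_num)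
    have : c ≠ 4 := fun h => by rw [h] at hc; exact absurd hc (by norm_num)
    have := ha.two_le; have := hb.two_le; have := hc.two_le
    omega
  have h3 : ∑ r ∈ n.primeFactors, (1 : ℚ) / (r : ℚ) ^ 2 ≤ 3 / 4 := by
    refine (Finset.sum_le_sum_of_subset_of_nonneg (t := Finset.Icc 2 n) (fun r hr => ?_) (fun _ _ _ => by positivity)).trans
      ((sum_inv_sq_le n (by omega)).trans (sub_le_self _ (by positivity)))
    exact Finset.mem_Icc.2 ⟨(Nat.prime_of_mem_primeFactors hr).two_le, Nat.le_of_dvd hn0 (Nat.dvd_of_mem_primeFactors hr)⟩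
  have hn5' : (5 : ℚ) ≤ n := by exact_mod_cast hn5
  nlinarith [mul_le_mul_of_nonneg_left h3 (by linarith : (0 : ℚ) ≤ n)]

end CfsgLib.Recognition.CentralizerMaximal
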