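/-
Complements of a central kernel, built layer by layer along a normal series of a subgroup.
-/
import Mathlib

set_option autoImplicit false

namespace CfsgLib.Recognition.CoverLayers

open Subgroup

/-- The commutator. -/
def cm {Γ : Type*} [Group Γ] (x y : Γ) : Γ := x * y * x⁻¹ * y⁻¹

section Pairing

variable {F : Type*} [Field F] {M : Type*} [Group M]

theorem left_zero {β : F → F → M} (hl : ∀ x x' y, β (x + x') y = β x y * β x' y) (y : F) : β 0 y = 1 := by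
  have := hl 0 0 y
  rw [add_zero] at this
  exact left_eq_mul.1 this

theorem right_zero {β : F → F → M} (hr : ∀ x y y', β x (y + y') = β x y * β x y') (x : F) : β x 0 = 1 := by
  have := hr x 0 0
  rw [add_zero] at this
  exact left_eq_mul.1 this

/-- An invariant biadditive map with a non-additive weight is trivial. -/
theorem pairing_eq_one (β : F → F → M) (hl : ∀ x x' y, β (x + x') y = β x y * β x' y)
    (hr : ∀ x y y', β x (y + y') = β x y * β x y') (φ : F → F) (P : F → Prop)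
    (hφ : ∀ l, P l → φ l ≠ 0)
    (h : ∀ l x y, P l → β (l * x) (φ l * y) = β x y)
    (hne : ∃ l₁ l₂ : F, P l₁ ∧ P l₂ ∧ P (l₁ + l₂) ∧ (φ l₁)⁻¹ + (φ l₂)⁻¹ ≠ (φ (l₁ + l₂))⁻¹)
    (x y : F) : β x y = 1 := by
  have hs : ∀ l x y, P l → β (l * x) y = β x ((φ l)⁻¹ * y) := fun l x y hl0 => by
    have := h l x ((φ l)⁻¹ * y) hl0
    rwa [← mul_assoc, mul_inv_cancel₀ (hφ l hl0), one_mul] at this
  obtain ⟨a, b, h1, h2, h3, h4⟩ := hne
  have key : ∀ y, β x (((φ a)⁻¹ + (φ b)⁻¹ - (φ (a + b))⁻¹) * y) = 1 := fun y => by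
    refine mul_eq_right.1 ((hr _ _ ((φ (a + b))⁻¹ * y)).symm.trans ?_)
    rw [← add_mul, sub_add_cancel, add_mul, hr, ← hs a x y h1, ← hs b x y h2, ← hl, ← add_mul,
      hs (a + b) x y h3]
  have := key (((φ a)⁻¹ + (φ b)⁻¹ - (φ (a + b))⁻¹)⁻¹ * y)
  rwa [← mul_assoc, mul_inv_cancel₀ (sub_ne_zero.2 h4), one_mul] at this

end Pairing

variable {Γ G : Type*} [Group Γ] [Group G] {σ : Γ →* G}

theorem mem_comm (hc : σ.ker ≤ center Γ) {z : Γ} (hz : z ∈ σ.ker) (g : Γ) : g * z = z * g :=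
  mem_center_iff.1 (hc hz) g

theorem exists_mul_of_eq {x y : Γ} (e : σ x = σ y) : ∃ z ∈ σ.ker, x = z * y :=
  ⟨x * y⁻¹, by rw [MonoidHom.mem_ker, map_mul, map_inv, e, mul_inv_cancel], by rw [inv_mul_cancel_right]⟩

theorem conj_congr (hc : σ.ker ≤ center Γ) {x x' : Γ} (e : σ x = σ x') (y : Γ) :
    x * y * x⁻¹ = x' * y * x'⁻¹ := by
  obtain ⟨z, hz, rfl⟩ := exists_mul_of_eq e
  rw [show z * x' * y * (z * x')⁻¹ = z * (x' * y * x'⁻¹) * z⁻¹ by group, ← mem_comm hc hz,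
    mul_inv_cancel_right]

theorem cm_congr (hc : σ.ker ≤ center Γ) {x x' y y' : Γ} (ex : σ x = σ x') (ey : σ y = σ y') :
    cm x y = cm x' y' := by
  have h1 : cm x y = cm x' y := by unfold cm; rw [conj_congr hc ex]
  have h2 : cm x' y = cm x' y' := by
    unfold cm
    rw [show x' * y * x'⁻¹ * y⁻¹ = x' * (y * x'⁻¹ * y⁻¹) by group, conj_congr hc ey]
    group
  exact h1.trans h2

/-- `B` is a normalised complement of the kernel in `N`. -/
structure Comp (σ : Γ →* G) (S N B : Subgroup Γ) : Prop where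
  ker_le : σ.ker ≤ N
  le : B ≤ N
  le_top : N ≤ S
  dec : ∀ y ∈ N, ∃ z ∈ σ.ker, ∃ b ∈ B, y = z * b
  inj : ∀ b ∈ B, b ∈ σ.ker → b = 1
  norm : ∀ g ∈ S, ∀ b ∈ B, g * b * g⁻¹ ∈ B

variable {S N B : Subgroup Γ}

theorem comp_bot (hS : σ.ker ≤ S) : Comp σ S σ.ker ⊥ where
  ker_le := le_rfl
  le := bot_le
  le_top := hS
  dec y hy := ⟨y, hy, 1, one_mem _, (mul_one y).symm⟩
  inj b hb _ := mem_bot.1 hb
  norm g _ b hb := by rw [mem_bot.1 hb, mul_one, mul_inv_cancel]; exact one_mem _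

open Classical in
/-- The component in the kernel. -/
noncomputable def Comp.proj (h : Comp σ S N B) (y : Γ) : Γ :=
  if hy : y ∈ N then (h.dec y hy).choose else 1

theorem Comp.proj_spec (h : Comp σ S N B) {y : Γ} (hy : y ∈ N) :
    h.proj y ∈ σ.ker ∧ (h.proj y)⁻¹ * y ∈ B := by
  rw [Comp.proj, dif_pos hy]
  obtain ⟨hz, b, hb, e⟩ := (h.dec y hy).choose_spec
  refine ⟨hz, ?_⟩
  rw [inv_mul_eq_of_eq_mul e]
  exact hb

theorem Comp.proj_eq (h : Comp σ S N B) {y z b : Γ} (hz : z ∈ σ.ker) (hb : b ∈ B) (e : y = z * b) :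
    h.proj y = z := by
  have hy : y ∈ N := e ▸ mul_mem (h.ker_le hz) (h.le hb)
  obtain ⟨h1, h2⟩ := h.proj_spec hy
  have h3 : ((h.proj y)⁻¹ * y) * b⁻¹ = 1 := h.inj _ (mul_mem h2 (inv_mem hb)) (by
    rw [e, mul_assoc, mul_inv_cancel_right]
    exact mul_mem (inv_mem (e ▸ h1)) hz)
  rw [e, mul_assoc, mul_inv_cancel_right, inv_mul_eq_one] at h3
  rw [← h3, ← e]

theorem Comp.proj_mul (h : Comp σ S N B) (hc : σ.ker ≤ center Γ) {y y' : Γ} (hy : y ∈ N) (hy' : y' ∈ N) :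
    h.proj (y * y') = h.proj y * h.proj y' := by
  obtain ⟨h1, h2⟩ := h.proj_spec hy
  obtain ⟨h3, h4⟩ := h.proj_spec hy'
  refine h.proj_eq (mul_mem h1 h3) (mul_mem h2 h4) ?_
  rw [show h.proj y * h.proj y' * ((h.proj y)⁻¹ * y * ((h.proj y')⁻¹ * y')) =
    h.proj y * (h.proj y' * ((h.proj y)⁻¹ * y)) * (h.proj y')⁻¹ * y' by group,
    ← mem_comm hc h3, ← mul_assoc (h.proj y), mul_inv_cancel_left, mul_inv_cancel_right]

theorem Comp.proj_conj (h : Comp σ S N B) (hc : σ.ker ≤ center Γ) {g y : Γ} (hy : y ∈ N)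
    (hg : ∀ b ∈ B, g * b * g⁻¹ ∈ B) : h.proj (g * y * g⁻¹) = h.proj y := by
  obtain ⟨h1, h2⟩ := h.proj_spec hy
  refine h.proj_eq h1 (hg _ h2) ?_
  rw [show h.proj y * (g * ((h.proj y)⁻¹ * y) * g⁻¹) = h.proj y * g * (h.proj y)⁻¹ * (y * g⁻¹) by group,
    ← mem_comm hc h1, mul_inv_cancel_right, mul_assoc]

theorem Comp.proj_eq_one_iff (h : Comp σ S N B) {y : Γ} (hy : y ∈ N) : h.proj y = 1 ↔ y ∈ B := by
  refine ⟨fun e => ?_, fun hb => h.proj_eq (one_mem _) hb (one_mul y).symm⟩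
  simpa [e] using (h.proj_spec hy).2

/-- The commutator pairing is multiplicative in the second argument. -/
theorem Comp.pair_right (h : Comp σ S N B) (hc : σ.ker ≤ center Γ) {x y y' : Γ} (hy : y ∈ S)
    (h1 : cm x y ∈ N) (h2 : cm x y' ∈ N) :
    cm x (y * y') ∈ N → h.proj (cm x (y * y')) = h.proj (cm x y) * h.proj (cm x y') := by
  intro hm
  have e : cm x (y * y') = cm x y * (y * cm x y' * y⁻¹) := by unfold cm; group
  have hm' : y * cm x y' * y⁻¹ ∈ N := by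
    rw [e] at hm; simpa using mul_mem (inv_mem h1) hm
  rw [e, h.proj_mul hc h1 hm', h.proj_conj hc h2 fun b hb => h.norm y hy b hb]

/-- The commutator pairing is multiplicative in the first argument. -/
theorem Comp.pair_left (h : Comp σ S N B) (hc : σ.ker ≤ center Γ) {x x' y : Γ} (hx : x ∈ S)
    (h1 : cm x y ∈ N) (h2 : cm x' y ∈ N) :
    cm (x * x') y ∈ N → h.proj (cm (x * x') y) = h.proj (cm x y) * h.proj (cm x' y) := by
  intro hm
  have e : cm (x * x') y = x * cm x' y * x⁻¹ * cm x y := by unfold cm; group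
  have hm' : x * cm x' y * x⁻¹ ∈ N := by
    rw [e] at hm; simpa using mul_mem hm (inv_mem h1)
  rw [e, h.proj_mul hc hm' h1, h.proj_conj hc h2 fun b hb => h.norm x hx b hb,
    mem_comm hc (h.proj_spec h1).1]

/-- The commutator pairing is invariant under normalising elements. -/
theorem Comp.pair_conj (h : Comp σ S N B) (hc : σ.ker ≤ center Γ) {g x y : Γ} (h1 : cm x y ∈ N)
    (hg : ∀ b ∈ B, g * b * g⁻¹ ∈ B) :
    h.proj (cm (g * x * g⁻¹) (g * y * g⁻¹)) = h.proj (cm x y) := by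
  rw [show cm (g * x * g⁻¹) (g * y * g⁻¹) = g * cm x y * g⁻¹ by unfold cm; group]
  exact h.proj_conj hc h1 hg

/-- The elements used to extend a complement. -/
def extCarrier (t : Γ) (M B : Subgroup Γ) : Set Γ :=
  {x | ∃ y ∈ M, ∃ b ∈ B, x = t * y * t⁻¹ * y⁻¹ * b}

/-- Extension of a complement through a layer on which `t` acts without fixed points. -/
theorem Comp.extend (h : Comp σ S N B) (hc : σ.ker ≤ center Γ) {M : Subgroup Γ} (hNM : N ≤ M) (hMS : M ≤ S)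
    (t : Γ) (htM : ∀ y ∈ M, t * y * t⁻¹ ∈ M) (htB : ∀ b ∈ B, t * b * t⁻¹ ∈ B)
    (hSM : ∀ g ∈ S, ∀ y ∈ M, cm g y ∈ B)
    (hsurj : ∀ x ∈ M, ∃ y ∈ M, (t * y * t⁻¹ * y⁻¹)⁻¹ * x ∈ N)
    (hinj : ∀ y ∈ M, t * y * t⁻¹ * y⁻¹ ∈ N → y ∈ N) :
    ∃ B' : Subgroup Γ, Comp σ S M B' ∧ B ≤ B' ∧
      ∀ g : Γ, σ (g * t) = σ (t * g) → (∀ y ∈ M, g * y * g⁻¹ ∈ M) → (∀ b ∈ B, g * b * g⁻¹ ∈ B) →
        ∀ b ∈ B', g * b * g⁻¹ ∈ B' := by
  set f : Γ → Γ := fun y => t * y * t⁻¹ * y⁻¹ with hf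
  have hfM : ∀ y ∈ M, f y ∈ M := fun y hy => mul_mem (htM y hy) (inv_mem hy)
  have hmove : ∀ y ∈ M, ∀ b ∈ B, (f y)⁻¹ * b * f y ∈ B := fun y hy b hb => by
    simpa using h.norm _ (inv_mem (hMS (hfM y hy))) b hb
  have hmul : ∀ y ∈ M, ∀ y' ∈ M, (f y * f y')⁻¹ * f (y * y') ∈ B := fun y hy y' hy' => by
    have e : (f y * f y')⁻¹ * f (y * y') = (f y')⁻¹ * cm y (f y') * f y' := by
      simp only [hf, cm]; group
    rw [e]
    exact hmove y' hy' _ (hSM y (hMS hy) _ (hfM y' hy'))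
  have hmul_mem : ∀ x ∈ extCarrier t M B, ∀ x' ∈ extCarrier t M B, x * x' ∈ extCarrier t M B := by
    rintro _ ⟨y, hy, b, hb, rfl⟩ _ ⟨y', hy', b', hb', rfl⟩
    refine ⟨y * y', mul_mem hy hy', ((f y * f y')⁻¹ * f (y * y'))⁻¹ * ((f y')⁻¹ * b * f y') * b',
      mul_mem (mul_mem (inv_mem (hmul y hy y' hy')) (hmove y' hy' b hb)) hb', ?_⟩
    simp only [hf]; group
  have hinv_mem : ∀ x ∈ extCarrier t M B, x⁻¹ ∈ extCarrier t M B := by
    rintro _ ⟨y, hy, b, hb, rfl⟩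
    refine ⟨y⁻¹, inv_mem hy, (f y⁻¹)⁻¹ * (b⁻¹ * (f y)⁻¹), ?_, by simp only [hf]; group⟩
    have h1 : f (y * y⁻¹) = 1 := by rw [mul_inv_cancel]; simp [hf]
    have h2 := hmul y hy y⁻¹ (inv_mem hy)
    rw [h1, mul_one] at h2
    rw [show (f y⁻¹)⁻¹ * (b⁻¹ * (f y)⁻¹) = (f y * f y⁻¹)⁻¹ * (f y * b⁻¹ * (f y)⁻¹) by group]
    exact mul_mem h2 (h.norm _ (hMS (hfM y hy)) _ (inv_mem hb))
  let B' : Subgroup Γ :=
    { carrier := extCarrier t M B
      one_mem' := ⟨1, one_mem _, 1, one_mem _, by group⟩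
      mul_mem' := fun hx hx' => hmul_mem _ hx _ hx'
      inv_mem' := fun hx => hinv_mem _ hx }
  refine ⟨B', ⟨h.ker_le.trans hNM, ?_, hMS, ?_, ?_, ?_⟩, fun b hb => ⟨1, one_mem _, b, hb, by group⟩,
    fun g hg hgM hgB => ?_⟩
  · rintro _ ⟨y, hy, b, hb, rfl⟩
    exact mul_mem (hfM y hy) (hNM (h.le hb))
  · intro x hx
    obtain ⟨y, hy, hyx⟩ := hsurj x hx
    obtain ⟨z, hz, b, hb, e⟩ := h.dec _ hyx
    refine ⟨z, hz, f y * b, ⟨y, hy, b, hb, rfl⟩, ?_⟩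
    rw [← mul_assoc, ← mem_comm hc hz, mul_assoc, ← e, mul_inv_cancel_left]
  · rintro _ ⟨y, hy, b, hb, rfl⟩ hk
    have hfy : f y ∈ N := by simpa [hf] using mul_mem (h.ker_le hk) (inv_mem (h.le hb))
    obtain ⟨z, hz, c, hcB, rfl⟩ := h.dec y (hinj y hy hfy)
    refine h.inj _ (mul_mem ?_ hb) hk
    rw [show t * (z * c) * t⁻¹ * (z * c)⁻¹ = t * z * (c * t⁻¹ * c⁻¹) * z⁻¹ by group, mem_comm hc hz t,
      show z * t * (c * t⁻¹ * c⁻¹) * z⁻¹ = z * (t * c * t⁻¹ * c⁻¹) * z⁻¹ by group, ← mem_comm hc hz,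
      mul_inv_cancel_right]
    exact mul_mem (htB c hcB) (inv_mem hcB)
  · rintro g hg _ ⟨y, hy, b, hb, rfl⟩
    refine ⟨y, hy, (f y)⁻¹ * cm g (f y) * f y * (g * b * g⁻¹),
      mul_mem (hmove y hy _ (hSM g hg _ (hfM y hy))) (h.norm g hg b hb), ?_⟩
    simp only [hf, cm]; group
  · rintro _ ⟨y, hy, b, hb, rfl⟩
    refine ⟨g * y * g⁻¹, hgM y hy, g * b * g⁻¹, hgB b hb, ?_⟩
    have h2 : σ (g * t⁻¹) = σ (t⁻¹ * g) := by
      rw [map_mul, map_mul, map_inv, eq_inv_mul_iff_mul_eq, ← mul_assoc, mul_inv_eq_iff_eq_mul,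
        ← map_mul, ← map_mul, hg]
    rw [show t * (g * y * g⁻¹) * t⁻¹ = t * g * y * (t * g)⁻¹ by group, ← conj_congr hc hg]
    group

end CfsgLib.Recognition.CoverLayers
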