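import Mathlib

/-!
Transitive groups and a normal subgroup containing all derangements.
-/

set_option autoImplicit false

namespace CfsgLib.Recognition

theorem fixed_unique {G X : Type*} [Group G] [Finite G] [MulAction G X] [Finite X]
    [MulAction.IsPretransitive G X] [Nonempty X] (D : Subgroup G) [D.Normal]
    (hD : ∀ g ∉ D, ∃ x : X, g • x = x) :
    ∀ g ∉ D, ∀ x y : X, g • x = x → g • y = y → x = y := by
  classical
  haveI := Fintype.ofFinite G
  haveI := Fintype.ofFinite X
  have hsumG := MulAction.sum_card_fixedBy_eq_card_orbits_mul_card_group G X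
  have hsumD := MulAction.sum_card_fixedBy_eq_card_orbits_mul_card_group D X
  have horb : Fintype.card (Quotient (MulAction.orbitRel G X)) = 1 := by
    haveI := (MulAction.pretransitive_iff_subsingleton_quotient G X).1 inferInstance
    haveI : Nonempty (Quotient (MulAction.orbitRel G X)) :=
      ⟨Quotient.mk'' (Classical.arbitrary X)⟩
    exact Fintype.card_eq_one_iff.2 ⟨Classical.arbitrary _, fun a => Subsingleton.elim _ _⟩
  rw [horb, one_mul] at hsumG
  let f : G → ℕ := fun g => Fintype.card (MulAction.fixedBy X g)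
  have hDsum : ∑ g ∈ Finset.univ.filter (· ∈ D), f g =
      Fintype.card (Quotient (MulAction.orbitRel D X)) * Fintype.card D := by
    rw [← hsumD]
    rw [Finset.sum_subtype (p := fun g => g ∈ D) _ (fun g => by simp) f]
    exact Finset.sum_congr rfl fun g _ => Fintype.card_congr (Equiv.refl _)
  have hcardD : (Finset.univ.filter fun g : G => g ∈ D).card = Fintype.card D :=
    (Fintype.card_subtype _).symm
  have hsplit := Finset.sum_add_sum_compl (Finset.univ.filter fun g : G => g ∈ D) f
  have hsplit' := Finset.card_add_card_compl (Finset.univ.filter fun g : G => g ∈ D)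
  have hge : ∀ g ∈ (Finset.univ.filter fun g : G => g ∈ D)ᶜ, 1 ≤ f g := by
    intro g hg
    obtain ⟨x, hx⟩ := hD g (by simpa using hg)
    exact Fintype.card_pos_iff.2 ⟨⟨x, hx⟩⟩
  have hge' := Finset.card_nsmul_le_sum _ f 1 hge
  rw [smul_eq_mul, mul_one] at hge'
  change _ ≤ ∑ i ∈ (Finset.univ.filter fun g : G => g ∈ D)ᶜ, f i at hge'
  have hf : ∑ g : G, f g = Fintype.card G := hsumG
  have hk1 : 0 < Fintype.card (Quotient (MulAction.orbitRel D X)) :=
    Fintype.card_pos_iff.2 ⟨Quotient.mk'' (Classical.arbitrary X)⟩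
  have hk : Fintype.card (Quotient (MulAction.orbitRel D X)) = 1 := by
    have hDp : 0 < Fintype.card D := Fintype.card_pos
    by_contra hne
    have : 2 * Fintype.card D ≤ Fintype.card (Quotient (MulAction.orbitRel D X)) * Fintype.card D :=
      Nat.mul_le_mul_right _ (by omega)
    omega
  rw [hk, one_mul] at hDsum
  have heq : ∑ g ∈ (Finset.univ.filter fun g : G => g ∈ D)ᶜ, f g =
      ∑ g ∈ (Finset.univ.filter fun g : G => g ∈ D)ᶜ, 1 := by
    rw [← Finset.card_eq_sum_ones]; omega
  intro g hg x y hx hy
  have h := (Finset.sum_eq_sum_iff_of_le hge).1 heq.symm g (by simp [hg])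
  obtain ⟨z, hz⟩ := Fintype.card_eq_one_iff.1 h.symm
  exact congrArg Subtype.val ((hz ⟨x, hx⟩).trans (hz ⟨y, hy⟩).symm)

theorem dvd_card_sub_one {G X : Type*} [Group G] [Finite G] [MulAction G X] [Finite X]
    [MulAction.IsPretransitive G X] [Nonempty X] (D : Subgroup G) [D.Normal]
    (hD : ∀ g ∉ D, ∃ x : X, g • x = x) :
    MulAction.IsPretransitive D X ∧ D.index ∣ Nat.card X - 1 := by
  classical
  haveI := Fintype.ofFinite G
  haveI := Fintype.ofFinite X
  have hsumG := MulAction.sum_card_fixedBy_eq_card_orbits_mul_card_group G X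
  have hsumD := MulAction.sum_card_fixedBy_eq_card_orbits_mul_card_group D X
  have horb : Fintype.card (Quotient (MulAction.orbitRel G X)) = 1 := by
    haveI := (MulAction.pretransitive_iff_subsingleton_quotient G X).1 inferInstance
    haveI : Nonempty (Quotient (MulAction.orbitRel G X)) :=
      ⟨Quotient.mk'' (Classical.arbitrary X)⟩
    exact Fintype.card_eq_one_iff.2 ⟨Classical.arbitrary _, fun a => Subsingleton.elim _ _⟩
  rw [horb, one_mul] at hsumG
  let f : G → ℕ := fun g => Fintype.card (MulAction.fixedBy X g)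
  have hDsum : ∑ g ∈ Finset.univ.filter (· ∈ D), f g =
      Fintype.card (Quotient (MulAction.orbitRel D X)) * Fintype.card D := by
    rw [← hsumD]
    rw [Finset.sum_subtype (p := fun g => g ∈ D) _ (fun g => by simp) f]
    exact Finset.sum_congr rfl fun g _ => Fintype.card_congr (Equiv.refl _)
  have hcardD : (Finset.univ.filter fun g : G => g ∈ D).card = Fintype.card D :=
    (Fintype.card_subtype _).symm
  have hsplit := Finset.sum_add_sum_compl (Finset.univ.filter fun g : G => g ∈ D) f
  have hsplit' := Finset.card_add_card_compl (Finset.univ.filter fun g : G => g ∈ D)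
  have hge : ∀ g ∈ (Finset.univ.filter fun g : G => g ∈ D)ᶜ, 1 ≤ f g := by
    intro g hg
    obtain ⟨x, hx⟩ := hD g (by simpa using hg)
    exact Fintype.card_pos_iff.2 ⟨⟨x, hx⟩⟩
  have hge' := Finset.card_nsmul_le_sum _ f 1 hge
  rw [smul_eq_mul, mul_one] at hge'
  change _ ≤ ∑ i ∈ (Finset.univ.filter fun g : G => g ∈ D)ᶜ, f i at hge'
  have hf : ∑ g : G, f g = Fintype.card G := hsumG
  have hk1 : 0 < Fintype.card (Quotient (MulAction.orbitRel D X)) :=
    Fintype.card_pos_iff.2 ⟨Quotient.mk'' (Classical.arbitrary X)⟩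
  have hk : Fintype.card (Quotient (MulAction.orbitRel D X)) = 1 := by
    have hDp : 0 < Fintype.card D := Fintype.card_pos
    by_contra hne
    have : 2 * Fintype.card D ≤ Fintype.card (Quotient (MulAction.orbitRel D X)) * Fintype.card D :=
      Nat.mul_le_mul_right _ (by omega)
    omega
  rw [hk, one_mul] at hDsum
  have heq : ∑ g ∈ (Finset.univ.filter fun g : G => g ∈ D)ᶜ, f g =
      ∑ g ∈ (Finset.univ.filter fun g : G => g ∈ D)ᶜ, 1 := by
    rw [← Finset.card_eq_sum_ones]; omega
  have huniq := fixed_unique D hD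
  haveI htD : MulAction.IsPretransitive D X := by
    rw [MulAction.pretransitive_iff_subsingleton_quotient]
    exact Fintype.card_le_one_iff_subsingleton.1 hk.le
  refine ⟨htD, ?_⟩
  obtain ⟨a⟩ := ‹Nonempty X›
  set S := MulAction.stabilizer G a with hS
  have hidx : D.relIndex S = D.index := by
    have h1 := Subgroup.relIndex_sup_right S D
    have h2 : S ⊔ D = ⊤ := by
      rw [eq_top_iff]
      intro g _
      obtain ⟨⟨d, hd⟩, hd'⟩ := htD.exists_smul_eq a (g • a)
      have : d⁻¹ * g ∈ S := by
        rw [hS, MulAction.mem_stabilizer_iff, mul_smul, ← hd', Subgroup.smul_def, inv_smul_smul]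
      have h3 := mul_mem ((le_sup_right : D ≤ S ⊔ D) hd) ((le_sup_left : S ≤ S ⊔ D) this)
      rwa [mul_inv_cancel_left] at h3
    rw [h2, Subgroup.relIndex_top_right] at h1
    exact h1.symm
  have horbdvd : ∀ x : X, x ≠ a → D.index ∣ Fintype.card (MulAction.orbit S x) := by
    intro x hx
    rw [← hidx, ← Nat.card_eq_fintype_card, Nat.card_coe_set_eq, ← MulAction.index_stabilizer]
    show (D.subgroupOf S).index ∣ _
    refine Subgroup.index_dvd_of_le fun g hg => ?_
    by_contra hgD
    exact hx (huniq (g : G) hgD x a (MulAction.mem_stabilizer_iff.1 hg)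
      (MulAction.mem_stabilizer_iff.1 g.2))
  let s : Finset X := Finset.univ.erase a
  have hdvd : D.index ∣ s.card := by
    rw [Finset.card_eq_sum_card_fiberwise (f := fun x => (Quotient.mk'' x : Quotient (MulAction.orbitRel S X)))
      (t := Finset.univ) (fun x _ => Finset.mem_univ _)]
    refine Finset.dvd_sum fun q _ => ?_
    induction q using Quotient.inductionOn' with | h x => ?_
    by_cases hx : x = a
    · refine (dvd_zero _).trans (dvd_of_eq ?_)
      symm
      rw [Finset.card_eq_zero, Finset.filter_eq_empty_iff]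
      intro y hy e
      obtain ⟨g, hg⟩ := (Quotient.eq''.1 e : MulAction.orbitRel S X y x)
      rw [hx] at hg
      exact Finset.ne_of_mem_erase hy (hg.symm.trans (MulAction.mem_stabilizer_iff.1 g.2))
    · refine (horbdvd x hx).trans (dvd_of_eq ?_)
      rw [← Set.toFinset_card]
      congr 1
      ext y
      simp only [Finset.mem_filter, Set.mem_toFinset, s, Finset.mem_erase, Finset.mem_univ,
        and_true, Quotient.eq'', MulAction.orbitRel_apply]
      refine ⟨fun h => ⟨?_, h⟩, fun h => h.2⟩
      rintro rfl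
      obtain ⟨g, hg⟩ := h
      exact hx (smul_left_cancel g (hg.trans (MulAction.mem_stabilizer_iff.1 g.2).symm))
  rwa [Finset.card_erase_of_mem (Finset.mem_univ a), Finset.card_univ, ← Nat.card_eq_fintype_card]
    at hdvd


/-- The subgroup generated by the derangements. -/
def derangementClosure (G X : Type*) [Group G] [MulAction G X] : Subgroup G :=
  Subgroup.closure {g : G | ∀ x : X, g • x ≠ x}

instance derangementClosure_normal {G X : Type*} [Group G] [MulAction G X] :
    (derangementClosure G X).Normal := by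
  refine ⟨fun x hx h => ?_⟩
  suffices derangementClosure G X ≤ (derangementClosure G X).comap (MulAut.conj h).toMonoidHom by
    simpa using this hx
  refine (Subgroup.closure_le _).2 fun g hg => Subgroup.subset_closure fun ω e => hg (h⁻¹ • ω) ?_
  simp only [MulEquiv.coe_toMonoidHom, MulAut.conj_apply, mul_smul] at e
  exact (inv_smul_eq_iff.2 e.symm).symm

theorem exists_fixed_of_not_mem {G X : Type*} [Group G] [MulAction G X] {g : G}
    (hg : g ∉ derangementClosure G X) : ∃ x : X, g • x = x := by
  by_contra h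
  push_neg at h
  exact hg (Subgroup.subset_closure h)

/-- Ranks of `G` and of a normal subgroup containing all derangements. -/
theorem rank_eq {G X : Type*} [Group G] [Finite G] [MulAction G X] [Finite X]
    [MulAction.IsPretransitive G X] [Nonempty X] (D : Subgroup G) [D.Normal]
    (hD : ∀ g ∉ D, ∃ x : X, g • x = x) :
    Nat.card (MulAction.orbitRel.Quotient D (X × X)) - 1 =
      (Nat.card (MulAction.orbitRel.Quotient G (X × X)) - 1) * D.index := by
  classical
  haveI := Fintype.ofFinite G
  haveI := Fintype.ofFinite X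
  have hsumG := MulAction.sum_card_fixedBy_eq_card_orbits_mul_card_group G (X × X)
  have hsumD := MulAction.sum_card_fixedBy_eq_card_orbits_mul_card_group D (X × X)
  let f : G → ℕ := fun g => Fintype.card (MulAction.fixedBy (X × X) g)
  have hout : ∀ g ∉ D, f g = 1 := by
    intro g hg
    obtain ⟨x, hx⟩ := hD g hg
    refine Fintype.card_eq_one_iff.2 ⟨⟨(x, x), by show g • (x, x) = (x, x); simp [hx]⟩, fun a => ?_⟩
    have h : g • (a : X × X) = a := a.2
    exact Subtype.ext (Prod.ext (fixed_unique D hD g hg _ _ (congrArg Prod.fst h) hx)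
      (fixed_unique D hD g hg _ _ (congrArg Prod.snd h) hx))
  have hDsum : ∑ g ∈ Finset.univ.filter (· ∈ D), f g =
      Nat.card (MulAction.orbitRel.Quotient D (X × X)) * Fintype.card D := by
    rw [Nat.card_eq_fintype_card]
    refine Eq.trans ?_ hsumD
    rw [Finset.sum_subtype (p := fun g => g ∈ D) _ (fun g => by simp) f]
    exact Finset.sum_congr rfl fun g _ => Fintype.card_congr (Equiv.refl _)
  have hGsum : ∑ g : G, f g = Nat.card (MulAction.orbitRel.Quotient G (X × X)) * Fintype.card G := by
    rw [Nat.card_eq_fintype_card]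
    exact hsumG
  have hcardD : (Finset.univ.filter fun g : G => g ∈ D).card = Fintype.card D :=
    (Fintype.card_subtype _).symm
  have hsplit := Finset.sum_add_sum_compl (Finset.univ.filter fun g : G => g ∈ D) f
  have hsplit' := Finset.card_add_card_compl (Finset.univ.filter fun g : G => g ∈ D)
  have hc : ∑ g ∈ (Finset.univ.filter fun g : G => g ∈ D)ᶜ, f g =
      (Finset.univ.filter fun g : G => g ∈ D)ᶜ.card := by
    rw [Finset.card_eq_sum_ones]
    exact Finset.sum_congr rfl fun g hg => hout g (by simpa using hg)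
  have hidx : Fintype.card D * D.index = Fintype.card G := by
    rw [← Nat.card_eq_fintype_card, ← Nat.card_eq_fintype_card]
    exact D.card_mul_index
  set rG := Nat.card (MulAction.orbitRel.Quotient G (X × X))
  set rD := Nat.card (MulAction.orbitRel.Quotient D (X × X))
  have hkey : rD * Fintype.card D + Fintype.card G = rG * Fintype.card G + Fintype.card D := by
    omega
  rw [← hidx] at hkey
  have h2 : rD + D.index = rG * D.index + 1 := by
    refine Nat.eq_of_mul_eq_mul_left (Fintype.card_pos (α := D)) ?_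
    linear_combination hkey
  rw [Nat.sub_mul, one_mul]
  omega

/-- If the index of `D` is `n - 1`, then `n` is a prime power. -/
theorem isPrimePow_of_index_eq {G X : Type*} [Group G] [Finite G] [MulAction G X] [Finite X]
    [MulAction.IsPretransitive G X] [FaithfulSMul G X] (hX : 2 ≤ Nat.card X) (D : Subgroup G)
    [D.Normal] (hD : ∀ g ∉ D, ∃ x : X, g • x = x) (hidx : D.index = Nat.card X - 1) :
    IsPrimePow (Nat.card X) := by
  classical
  haveI := Fintype.ofFinite X
  haveI : Nonempty X := (Nat.card_pos_iff.1 (by omega)).1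
  obtain ⟨a⟩ := ‹Nonempty X›
  obtain ⟨htD, -⟩ := dvd_card_sub_one D hD
  set S := MulAction.stabilizer G a with hS
  have hrel : D.relIndex S = D.index := by
    have h1 := Subgroup.relIndex_sup_right S D
    have h2 : S ⊔ D = ⊤ := by
      rw [eq_top_iff]
      intro g _
      obtain ⟨⟨d, hd⟩, hd'⟩ := htD.exists_smul_eq a (g • a)
      have : d⁻¹ * g ∈ S := by
        rw [hS, MulAction.mem_stabilizer_iff, mul_smul, ← hd', Subgroup.smul_def, inv_smul_smul]
      have h3 := mul_mem ((le_sup_right : D ≤ S ⊔ D) hd) ((le_sup_left : S ≤ S ⊔ D) this)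
      rwa [mul_inv_cancel_left] at h3
    rw [h2, Subgroup.relIndex_top_right] at h1
    exact h1.symm
  have hstab : ∀ x : X, x ≠ a → MulAction.stabilizer S x ≤ D.subgroupOf S := fun x hx g hg => by
    by_contra hgD
    exact hx (fixed_unique D hD (g : G) hgD x a (MulAction.mem_stabilizer_iff.1 hg)
      (MulAction.mem_stabilizer_iff.1 g.2))
  have horb : ∀ x : X, x ≠ a →
      MulAction.orbit S x = {y | y ≠ a} ∧ MulAction.stabilizer S x = D.subgroupOf S := by
    intro x hx
    have hsub : MulAction.orbit S x ⊆ {y | y ≠ a} := by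
      rintro _ ⟨g, rfl⟩ e
      exact hx (smul_left_cancel g (e.trans (MulAction.mem_stabilizer_iff.1 g.2).symm))
    have hn : Set.ncard {y : X | y ≠ a} = D.index := by
      rw [hidx, show {y : X | y ≠ a} = {a}ᶜ from rfl, Set.ncard_compl, Set.ncard_singleton]
    have hpos : 0 < (MulAction.stabilizer S x).index :=
      Nat.pos_of_ne_zero Subgroup.index_ne_zero_of_finite
    have h1 : (D.subgroupOf S).index = (MulAction.stabilizer S x).index := by
      refine le_antisymm (Nat.le_of_dvd hpos (Subgroup.index_dvd_of_le (hstab x hx))) ?_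
      rw [MulAction.index_stabilizer]
      refine (Set.ncard_le_ncard hsub (Set.toFinite _)).trans ?_
      rw [hn, ← hrel]
      rfl
    constructor
    · refine Set.eq_of_subset_of_ncard_le hsub ?_ (Set.toFinite _)
      rw [hn, ← MulAction.index_stabilizer, ← h1, ← hrel]
      rfl
    · refine Subgroup.eq_of_le_of_card_ge (hstab x hx) ?_
      have h2 := (D.subgroupOf S).card_mul_index
      have h3 := (MulAction.stabilizer S x).card_mul_index
      rw [h1] at h2
      exact (Nat.eq_of_mul_eq_mul_right hpos (h2.trans h3.symm)).le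
  have hfree : ∀ d ∈ D, d • a = a → d = 1 := by
    intro d hd hda
    refine FaithfulSMul.eq_of_smul_eq_smul (α := X) fun x => ?_
    rw [one_smul]
    by_cases hx : x = a
    · rw [hx, hda]
    · have hm : (⟨d, hda⟩ : S) ∈ MulAction.stabilizer S x := by
        rw [(horb x hx).2]; exact hd
      exact hm
  have hconj : ∀ d ∈ D, ∀ e ∈ D, d ≠ 1 → e ≠ 1 → orderOf d = orderOf e := by
    intro d hd e he hd1 he1
    have h1 : e • a ∈ MulAction.orbit S (d • a) := by
      rw [(horb (d • a) (fun h => hd1 (hfree d hd h))).1]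
      exact fun h => he1 (hfree e he h)
    obtain ⟨g, hg⟩ := h1
    have hga : (g : G) • a = a := MulAction.mem_stabilizer_iff.1 g.2
    have h2 : e⁻¹ * ((g : G) * d * (g : G)⁻¹) = 1 := by
      refine hfree _ (mul_mem (inv_mem he) (Subgroup.Normal.conj_mem inferInstance d hd _)) ?_
      rw [mul_smul, mul_smul, mul_smul, inv_smul_eq_iff.2 hga.symm, inv_smul_eq_iff]
      exact hg
    rw [inv_mul_eq_one] at h2
    rw [h2, ← MulAut.conj_apply, MulEquiv.orderOf_eq]
  have hcard : Nat.card D = Nat.card X := by
    refine Nat.card_eq_of_bijective (fun d : D => (d : G) • a) ⟨fun d e h => ?_, fun x => ?_⟩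
    · refine Subtype.ext (inv_mul_eq_one.1 (hfree _ (mul_mem (inv_mem d.2) e.2) ?_))
      rw [mul_smul, inv_smul_eq_iff]
      exact h.symm
    · obtain ⟨d, hd⟩ := htD.exists_smul_eq a x
      exact ⟨d, hd⟩
  obtain ⟨q, hq, hqd⟩ := Nat.exists_prime_and_dvd (show Nat.card D ≠ 1 by omega)
  haveI := Fact.mk hq
  obtain ⟨y, hy⟩ := exists_prime_orderOf_dvd_card' q hqd
  have hy1 : (y : G) ≠ 1 := fun h => by
    rw [(Subtype.ext h : y = 1), orderOf_one] at hy; exact hq.ne_one hy.symm
  have hP : IsPGroup q D := fun x => by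
    by_cases hx : (x : G) = 1
    · exact ⟨0, by rw [pow_zero, pow_one]; exact Subtype.ext hx⟩
    · refine ⟨1, ?_⟩
      rw [pow_one, ← hy, ← Subgroup.orderOf_coe y, ← hconj x x.2 y y.2 hx hy1, Subgroup.orderOf_coe,
        pow_orderOf_eq_one]
  obtain ⟨k, hk⟩ := IsPGroup.iff_card.1 hP
  rw [← hcard, hk]
  exact hq.isPrimePow.pow (fun h => by rw [h, pow_zero] at hk; omega)

end CfsgLib.Recognition
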