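import Mathlib

/-!
Small Jordan sets in primitive groups: Marggraff's theorem that they force triple transitivity.
-/

set_option autoImplicit false

namespace CfsgLib.Recognition.Jordan

open MulAction
open scoped Pointwise

variable {G Ω : Type*} [Group G] [MulAction G Ω]

/-- `Γ` is a Jordan set: the elements fixing every point outside are transitive on it. -/
def IsJordanSet (G : Type*) {Ω : Type*} [Group G] [MulAction G Ω] (Γ : Set Ω) : Prop :=
  ∀ x ∈ Γ, ∀ y ∈ Γ, ∃ g : G, (∀ z ∉ Γ, g • z = z) ∧ g • x = y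

theorem IsJordanSet.smul {Γ : Set Ω} (h : IsJordanSet G Γ) (g : G) : IsJordanSet G (g • Γ) := by
  rintro _ ⟨x, hx, rfl⟩ _ ⟨y, hy, rfl⟩
  obtain ⟨k, hk, hkxy⟩ := h x hx y hy
  refine ⟨g * k * g⁻¹, fun z hz => ?_, ?_⟩
  · rw [mul_smul, mul_smul, hk _ fun hc => hz (Set.mem_smul_set_iff_inv_smul_mem.2 hc), smul_inv_smul]
  · simp only [mul_smul, inv_smul_smul, hkxy]

theorem isPretransitive_ofFixingSubgroup {Γ : Set Ω} (h : IsJordanSet G Γ) {s : Set Ω} (hs : s = Γᶜ) :
    IsPretransitive (fixingSubgroup G s) (SubMulAction.ofFixingSubgroup G s) := by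
  subst hs
  refine ⟨fun x y => ?_⟩
  have hx : x.1 ∈ Γ := not_not.1 ((SubMulAction.mem_ofFixingSubgroup_iff G).1 x.2)
  have hy : y.1 ∈ Γ := not_not.1 ((SubMulAction.mem_ofFixingSubgroup_iff G).1 y.2)
  obtain ⟨g, hg, hgxy⟩ := h _ hx _ hy
  exact ⟨⟨g, (mem_fixingSubgroup_iff G).2 hg⟩, Subtype.ext hgxy⟩

theorem two_pretransitive [Finite Ω] (hprim : IsPreprimitive G Ω) {Γ : Set Ω} (h : IsJordanSet G Γ)
    (h1 : 1 < Γ.ncard) (h2 : Γ.ncard < Nat.card Ω) : IsMultiplyPretransitive G Ω 2 := by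
  have hc := Set.ncard_add_ncard_compl Γ
  refine hprim.is_two_pretransitive (s := Γᶜ) (n := Nat.card Ω - Γ.ncard - 1) ?_ ?_
    (isPretransitive_ofFixingSubgroup h rfl)
  · omega
  · omega

section Count

variable [Finite Ω] (Γ : Set Ω)

/-- The translates of `Γ` containing all points of `P`. -/
def through (G : Type*) {Ω : Type*} [Group G] [MulAction G Ω] (Γ P : Set Ω) : Set (Set Ω) :=
  {T | (∃ g : G, g • Γ = T) ∧ P ⊆ T}

theorem through_smul (g : G) (P : Set Ω) :
    (fun T => g • T) '' through G Γ P = through G Γ (g • P) := by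
  apply Set.Subset.antisymm
  · rintro _ ⟨T, ⟨⟨h, rfl⟩, hP⟩, rfl⟩
    exact ⟨⟨g * h, mul_smul g h Γ⟩, Set.smul_set_mono hP⟩
  · rintro T ⟨⟨h, rfl⟩, hP⟩
    refine ⟨g⁻¹ • h • Γ, ⟨⟨g⁻¹ * h, mul_smul _ _ _⟩, ?_⟩, smul_inv_smul g _⟩
    have := Set.smul_set_mono (a := g⁻¹) hP
    rwa [inv_smul_smul] at this

theorem ncard_through_smul (g : G) (P : Set Ω) :
    (through G Γ (g • P)).ncard = (through G Γ P).ncard := by
  rw [← through_smul, Set.ncard_image_of_injective _ (MulAction.injective g)]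

theorem exists_map_pair (h2 : IsMultiplyPretransitive G Ω 2) {x y x' y' : Ω} (hxy : x ≠ y)
    (hxy' : x' ≠ y') : ∃ g : G, g • x = x' ∧ g • y = y' :=
  is_two_pretransitive_iff.1 h2 hxy hxy'

theorem ncard_through_pair (h2 : IsMultiplyPretransitive G Ω 2) {x y x' y' : Ω} (hxy : x ≠ y)
    (hxy' : x' ≠ y') : (through G Γ {x', y'}).ncard = (through G Γ {x, y}).ncard := by
  obtain ⟨g, hgx, hgy⟩ := exists_map_pair h2 hxy hxy'
  rw [← ncard_through_smul Γ g {x, y}, Set.smul_set_insert, Set.smul_set_singleton, hgx, hgy]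

/-- Double count of the pairs of a fixed point with a translate and a further point of it. -/
theorem pair_count (h2 : IsMultiplyPretransitive G Ω 2) {b y : Ω} (hby : b ≠ y) :
    (Nat.card Ω - 1) * (through G Γ {b, y}).ncard = (Γ.ncard - 1) * (through G Γ {b}).ncard := by
  classical
  haveI := Fintype.ofFinite Ω
  have hpair : ∀ z, (through G Γ {b, z}).toFinset = {T ∈ (through G Γ {b}).toFinset | z ∈ T} := by
    intro z; ext T
    rw [Set.mem_toFinset, Finset.mem_filter, Set.mem_toFinset]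
    simp only [through, Set.mem_ofPred_eq, Set.insert_subset_iff, Set.singleton_subset_iff, and_assoc]
  have key := Finset.card_mul_eq_card_mul (fun z T => z ∈ T) (s := Finset.univ.erase b)
    (t := (through G Γ {b}).toFinset) (m := (through G Γ {b, y}).ncard) (n := Γ.ncard - 1) ?_ ?_
  · rw [Finset.card_erase_of_mem (Finset.mem_univ b), Finset.card_univ, ← Nat.card_eq_fintype_card,
      ← Set.ncard_eq_toFinset_card'] at key
    rw [key, mul_comm]
  · intro z hz
    rw [← ncard_through_pair Γ h2 hby (Ne.symm (Finset.ne_of_mem_erase hz)),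
      Set.ncard_eq_toFinset_card', hpair]
    rfl
  · intro T hT
    obtain ⟨⟨g, hg⟩, hb⟩ := Set.mem_toFinset.1 hT
    have hbT : b ∈ T := hb rfl
    have e : (Finset.univ.erase b).bipartiteBelow (fun z T => z ∈ T) T = T.toFinset.erase b := by
      ext z; simp [Finset.bipartiteBelow, and_comm]
    rw [e, Finset.card_erase_of_mem (Set.mem_toFinset.2 hbT), ← Set.ncard_eq_toFinset_card', ← hg,
      Set.ncard_smul_set]

end Count

/-- A point stabiliser is primitive on the other points. -/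
theorem stabilizer_preprimitive [Finite Ω] (h2 : IsMultiplyPretransitive G Ω 2) {Γ : Set Ω}
    (hJ : IsJordanSet G Γ) (h1 : 1 < Γ.ncard) (hle : 2 * Γ.ncard ≤ Nat.card Ω) (a : Ω) :
    IsPreprimitive (stabilizer G a) (SubMulAction.ofStabilizer G a) := by
  classical
  haveI : IsPretransitive (stabilizer G a) (SubMulAction.ofStabilizer G a) := by
    rw [← is_one_pretransitive_iff]
    haveI := h2
    haveI : IsPretransitive G Ω := isPretransitive_of_is_two_pretransitive
    exact (SubMulAction.ofStabilizer.isMultiplyPretransitive (a := a)).1 h2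
  refine IsPreprimitive.mk ?_
  intro B0 hB0
  by_contra hnt
  simp only [IsTrivialBlock, not_or, Set.not_subsingleton_iff] at hnt
  obtain ⟨⟨b0, hb0, x0, hx0, hbx0⟩, hne⟩ := hnt
  set B : Set Ω := Subtype.val '' B0 with hB
  have hdvd : B.ncard ∣ Nat.card Ω - 1 := by
    rw [hB, Set.ncard_image_of_injective _ Subtype.val_injective, ← SubMulAction.nat_card_ofStabilizer_eq G a]
    exact hB0.ncard_dvd_card ⟨b0, hb0⟩
  have hblock : ∀ h : G, h • a = a → ∀ y ∈ B, h • y = y → ∀ z ∈ B, h • z ∈ B := by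
    rintro h ha _ ⟨y, hy, rfl⟩ hy' _ ⟨z, hz, rfl⟩
    have hyy : (⟨h, ha⟩ : stabilizer G a) • y = y := Subtype.ext hy'
    have := hB0.smul_eq_of_nonempty (g := (⟨h, ha⟩ : stabilizer G a))
      ⟨y, Set.mem_smul_set.2 ⟨y, hy, hyy⟩, hy⟩
    exact ⟨(⟨h, ha⟩ : stabilizer G a) • z, this ▸ Set.smul_mem_smul_set hz, rfl⟩
  set b := (b0 : Ω) with hb
  set x := (x0 : Ω) with hx
  have hba : b ≠ a := b0.2
  have hxa : x ≠ a := x0.2
  have hbx : b ≠ x := fun h => hbx0 (Subtype.ext h)
  have hbB : b ∈ B := ⟨b0, hb0, rfl⟩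
  have hxB : x ∈ B := ⟨x0, hx0, rfl⟩
  have hdich : ∀ T ∈ through G Γ {b}, a ∉ T → B ⊆ T ∨ T ⊆ B := by
    rintro T ⟨⟨g, rfl⟩, hbT⟩ haT
    by_cases hsub : B ⊆ g • Γ
    · exact Or.inl hsub
    obtain ⟨y, hyB, hyT⟩ := Set.not_subset.1 hsub
    refine Or.inr fun z hz => ?_
    obtain ⟨k, hk, hkz⟩ := (hJ.smul g) b (hbT rfl) z hz
    exact hkz ▸ hblock k (hk a haT) y hyB (hk y hyT) b hbB
  have hcount := pair_count Γ h2 hba
  have hlam : ∀ z, b ≠ z → (through G Γ {b, z}).ncard = (through G Γ {b, a}).ncard :=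
    fun z hz => ncard_through_pair Γ h2 hba hz
  have hfin : ∀ P, (through G Γ P).Finite := fun P => Set.toFinite _
  haveI : IsPretransitive G Ω := isPretransitive_of_is_two_pretransitive
  obtain ⟨c, hc⟩ : Γ.Nonempty := Set.nonempty_of_ncard_ne_zero (by omega)
  obtain ⟨g, hg⟩ := exists_smul_eq G c b
  have hRpos : 0 < (through G Γ {b}).ncard :=
    (Set.ncard_pos (hfin _)).2 ⟨g • Γ, ⟨g, rfl⟩, Set.singleton_subset_iff.2 (hg ▸ Set.smul_mem_smul_set hc)⟩
  by_cases hall : ∀ T ∈ through G Γ {b}, a ∉ T → B ⊆ T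
  · have hsub : through G Γ {b} ⊆ through G Γ {b, a} ∪ through G Γ {b, x} := by
      intro T hT
      by_cases haT : a ∈ T
      · exact Or.inl ⟨hT.1, Set.insert_subset (hT.2 rfl) (Set.singleton_subset_iff.2 haT)⟩
      · exact Or.inr ⟨hT.1, Set.insert_subset (hT.2 rfl) (Set.singleton_subset_iff.2 (hall T hT haT hxB))⟩
    have h := (Set.ncard_le_ncard hsub ((hfin _).union (hfin _))).trans (Set.ncard_union_le _ _)
    rw [hlam x hbx] at h
    have h' : (Nat.card Ω - 1) * (through G Γ {b}).ncard ≤ 2 * (Γ.ncard - 1) * (through G Γ {b}).ncard := by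
      refine (Nat.mul_le_mul_left _ h).trans ?_
      rw [mul_assoc, ← hcount, ← two_mul, ← mul_assoc, mul_comm _ 2, mul_assoc]
    have := Nat.le_of_mul_le_mul_right h' hRpos
    omega
  · push Not at hall
    obtain ⟨T1, hT1, haT1, hnsub⟩ := hall
    have hT1B : T1 ⊆ B := (hdich T1 hT1 haT1).resolve_left hnsub
    have hsmall : ∀ T ∈ through G Γ {b}, a ∉ T → T ⊆ B := by
      intro T hT haT
      refine (hdich T hT haT).resolve_left fun hBT => hnsub ?_
      obtain ⟨⟨g1, hg1⟩, -⟩ := hT1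
      obtain ⟨⟨g2, hg2⟩, -⟩ := hT
      have hle' : T.ncard ≤ T1.ncard := by rw [← hg1, ← hg2, Set.ncard_smul_set, Set.ncard_smul_set]
      have heq : T1 = T := Set.eq_of_subset_of_ncard_le (hT1B.trans hBT) hle' (Set.toFinite _)
      exact heq ▸ hBT
    obtain ⟨T3, ⟨g3, hg3⟩, hT3⟩ : (through G Γ {b, a}).Nonempty := by
      refine Set.nonempty_of_ncard_ne_zero fun h0 => ?_
      rw [h0, mul_zero, eq_comm, mul_eq_zero] at hcount
      omega
    have hcover : Set.univ ⊆ B ∪ T3 := by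
      intro z _
      by_cases hzB : z ∈ B
      · exact Or.inl hzB
      by_cases hza : z = a
      · exact Or.inr (hza ▸ hT3 (Set.mem_insert_of_mem _ rfl))
      have hbz : b ≠ z := fun h => hzB (h ▸ hbB)
      have hsub : through G Γ {b, z} ⊆ through G Γ {b, a} := by
        intro T hT
        refine ⟨hT.1, Set.insert_subset (hT.2 (Set.mem_insert _ _)) (Set.singleton_subset_iff.2 ?_)⟩
        by_contra haT
        exact hzB (hsmall T ⟨hT.1, Set.singleton_subset_iff.2 (hT.2 (Set.mem_insert _ _))⟩ haT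
          (hT.2 (Set.mem_insert_of_mem _ rfl)))
      have heq := Set.eq_of_subset_of_ncard_le hsub (hlam z hbz).ge (hfin _)
      have hmem : T3 ∈ through G Γ {b, z} := heq ▸ ⟨⟨g3, hg3⟩, hT3⟩
      exact Or.inr (hmem.2 (Set.mem_insert_of_mem _ rfl))
    have h := (Set.ncard_le_ncard hcover).trans (Set.ncard_union_le _ _)
    rw [Set.ncard_univ, ← hg3, Set.ncard_smul_set] at h
    have hBlt : B.ncard < Nat.card Ω - 1 := by
      rw [hB, Set.ncard_image_of_injective _ Subtype.val_injective, ← SubMulAction.nat_card_ofStabilizer_eq G a]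
      exact Set.ncard_lt_card hne
    obtain ⟨k, hk⟩ := hdvd
    have hk2 : 2 ≤ k := by
      rcases k with _ | _ | k <;> simp at hk ⊢ <;> omega
    have : 2 * B.ncard ≤ Nat.card Ω - 1 := by
      rw [hk, mul_comm 2]; exact Nat.mul_le_mul_left _ hk2
    omega

/-- Marggraff: a Jordan set of at most half of the points gives triple transitivity. -/
theorem three_pretransitive [Finite Ω] (hprim : IsPreprimitive G Ω) {Γ : Set Ω}
    (hJ : IsJordanSet G Γ) (h1 : 1 < Γ.ncard) (hle : 2 * Γ.ncard ≤ Nat.card Ω) :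
    IsMultiplyPretransitive G Ω 3 := by
  have h2 := two_pretransitive hprim hJ h1 (by omega)
  obtain ⟨a, ha⟩ : ∃ a, a ∉ Γ := by
    by_contra h
    push Not at h
    rw [Set.eq_univ_of_forall h, Set.ncard_univ] at hle h1
    omega
  haveI : IsPretransitive G Ω := hprim.toIsPretransitive
  rw [SubMulAction.ofStabilizer.isMultiplyPretransitive (a := a)]
  have hp := stabilizer_preprimitive h2 hJ h1 hle a
  set Γ' : Set (SubMulAction.ofStabilizer G a) := Subtype.val ⁻¹' Γ with hΓ'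
  have hΓc : Γ'.ncard = Γ.ncard :=
    Set.ncard_preimage_of_injective_subset_range Subtype.val_injective
      (fun z hz => ⟨⟨z, fun h => ha (h ▸ hz)⟩, rfl⟩)
  have hJ' : IsJordanSet (stabilizer G a) Γ' := by
    intro x hx y hy
    obtain ⟨g, hg, hgxy⟩ := hJ x.1 hx y.1 hy
    exact ⟨⟨g, hg a ha⟩, fun z hz => Subtype.ext (hg z.1 hz), Subtype.ext hgxy⟩
  refine two_pretransitive hp hJ' (hΓc ▸ h1) ?_
  rw [hΓc, SubMulAction.nat_card_ofStabilizer_eq]
  omega

end CfsgLib.Recognition.Jordan
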