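import Mathlib
import Cfsg.Agent.Lib.Recognition.JordanSets

/-!
Jordan sets with fewer than half of the points force the alternating group.
-/

set_option autoImplicit false

namespace CfsgLib.Recognition.Jordan

open MulAction
open scoped Pointwise

variable {G Ω : Type*} [Group G] [MulAction G Ω] [Fintype Ω] [DecidableEq Ω]

/-- Transitivity on `k`-sets with prescribed maps. -/
def TransK (G Ω : Type*) [Group G] [MulAction G Ω] (k : ℕ) : Prop :=
  ∀ S : Finset Ω, S.card ≤ k → ∀ σ : Equiv.Perm Ω, ∃ g : G, ∀ x ∈ S, g • x = σ x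

open scoped Classical in
/-- The translates of `Γ`. -/
noncomputable def translates (G : Type*) {Ω : Type*} [Group G] [MulAction G Ω] [Fintype Ω]
    (Γ : Finset Ω) : Finset (Finset Ω) :=
  {T : Finset Ω | ∃ g : G, g • Γ = T}

omit [DecidableEq Ω] in
theorem mem_translates {Γ T : Finset Ω} [DecidableEq Ω] :
    T ∈ translates G Γ ↔ ∃ g : G, g • Γ = T := by
  classical
  simp only [translates, Finset.mem_filter, Finset.mem_univ, true_and]
  convert Iff.rfl

/-- Translates containing `P` and avoiding `Q`. -/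
noncomputable def pat (G : Type*) {Ω : Type*} [Group G] [MulAction G Ω] [Fintype Ω] [DecidableEq Ω]
    (Γ P Q : Finset Ω) : Finset (Finset Ω) :=
  {T ∈ translates G Γ | P ⊆ T ∧ Disjoint Q T}

theorem mem_pat {Γ P Q T : Finset Ω} :
    T ∈ pat G Γ P Q ↔ (∃ g : G, g • Γ = T) ∧ P ⊆ T ∧ Disjoint Q T := by
  rw [pat, Finset.mem_filter, mem_translates]

theorem card_of_mem_translates {Γ T : Finset Ω} (h : T ∈ translates G Γ) : T.card = Γ.card := by
  obtain ⟨g, rfl⟩ := mem_translates.1 h
  exact Finset.card_smul_finset g Γ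

theorem pat_card_congr {k : ℕ} (hk : TransK G Ω k) (Γ : Finset Ω) {P Q P' Q' : Finset Ω}
    (hd : Disjoint P Q) (hd' : Disjoint P' Q') (hP : P.card = P'.card) (hQ : Q.card = Q'.card)
    (hle : P.card + Q.card ≤ k) : (pat G Γ P Q).card = (pat G Γ P' Q').card := by
  let eP : P ≃ P' := Finset.equivOfCardEq hP
  let eQ : Q ≃ Q' := Finset.equivOfCardEq hQ
  let f : (P ∪ Q : Finset Ω) → Ω := fun x =>
    if h : (x : Ω) ∈ P then eP ⟨x, h⟩ else eQ ⟨x, (Finset.mem_union.1 x.2).resolve_left h⟩
  have hf : Function.Injective f := by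
    intro x y h
    simp only [f] at h
    split_ifs at h with hx hy hy
    · exact Subtype.ext (congrArg Subtype.val (eP.injective (Subtype.ext h)) :)
    · exact absurd (h ▸ (eP ⟨x, hx⟩).2) (Finset.disjoint_right.1 hd' (eQ _).2)
    · exact absurd (h.symm ▸ (eP ⟨y, hy⟩).2) (Finset.disjoint_right.1 hd' (eQ _).2)
    · exact Subtype.ext (congrArg Subtype.val (eQ.injective (Subtype.ext h)) :)
  obtain ⟨σ, hσ⟩ : ∃ σ : Equiv.Perm Ω, ∀ x : (P ∪ Q : Finset Ω), σ x = f x :=
    ⟨(Equiv.ofInjective f hf).extendSubtype, fun x => by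
      rw [Equiv.extendSubtype_apply_of_mem _ _ x.2]; rfl⟩
  obtain ⟨g, hg⟩ := hk (P ∪ Q) ((Finset.card_union_le _ _).trans hle) σ
  have hgP : g • P = P' := by
    refine Finset.eq_of_subset_of_card_le ?_ (by rw [Finset.card_smul_finset, hP])
    intro z hz
    obtain ⟨y, hy, rfl⟩ := Finset.mem_smul_finset.1 hz
    rw [hg y (Finset.mem_union_left _ hy), hσ ⟨y, Finset.mem_union_left _ hy⟩]
    simp [f, hy]
  have hgQ : g • Q = Q' := by
    refine Finset.eq_of_subset_of_card_le ?_ (by rw [Finset.card_smul_finset, hQ])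
    intro z hz
    obtain ⟨y, hy, rfl⟩ := Finset.mem_smul_finset.1 hz
    rw [hg y (Finset.mem_union_right _ hy), hσ ⟨y, Finset.mem_union_right _ hy⟩]
    simp [f, Finset.disjoint_right.1 hd hy]
  have hdisj : ∀ (u : G) (A B : Finset Ω), Disjoint A B → Disjoint (u • A) (u • B) := by
    intro u A B h
    rw [Finset.disjoint_left] at h ⊢
    intro z hzA hzB
    obtain ⟨y, hy, rfl⟩ := Finset.mem_smul_finset.1 hzA
    exact h hy ((Finset.smul_mem_smul_finset_iff u).1 hzB)
  refine Finset.card_bij' (fun T _ => g • T) (fun T _ => g⁻¹ • T) ?_ ?_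
    (fun T _ => inv_smul_smul g T) (fun T _ => smul_inv_smul g T)
  · intro T hT
    obtain ⟨⟨h, rfl⟩, h1, h2⟩ := mem_pat.1 hT
    refine mem_pat.2 ⟨⟨g * h, mul_smul _ _ _⟩, hgP ▸ Finset.smul_finset_subset_smul_finset h1,
      hgQ ▸ hdisj g _ _ h2⟩
  · intro T hT
    obtain ⟨⟨h, rfl⟩, h1, h2⟩ := mem_pat.1 hT
    have hPi : g⁻¹ • P' = P := by rw [← hgP, inv_smul_smul]
    have hQi : g⁻¹ • Q' = Q := by rw [← hgQ, inv_smul_smul]
    exact mem_pat.2 ⟨⟨g⁻¹ * h, mul_smul _ _ _⟩, hPi ▸ Finset.smul_finset_subset_smul_finset h1,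
      hQi ▸ hdisj g⁻¹ _ _ h2⟩

theorem pat_split (Γ P Q : Finset Ω) {z : Ω} :
    (pat G Γ (insert z P) Q).card + (pat G Γ P (insert z Q)).card = (pat G Γ P Q).card := by
  rw [← Finset.card_filter_add_card_filter_not (s := pat G Γ P Q) (fun T => z ∈ T)]
  congr 1 <;> congr 1 <;> ext T <;>
    simp only [Finset.mem_filter, mem_pat, Finset.insert_subset_iff, Finset.disjoint_insert_left] <;>
    tauto

/-- Summing over the position of one further point. -/
theorem pat_rec {k : ℕ} (hk : TransK G Ω k) (Γ P Q : Finset Ω) (hd : Disjoint P Q)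
    (hle : P.card + Q.card + 1 ≤ k) {z : Ω} (hz : z ∉ P ∪ Q) :
    (Fintype.card Ω - (P.card + Q.card)) * (pat G Γ (insert z P) Q).card =
      (Γ.card - P.card) * (pat G Γ P Q).card := by
  have key := Finset.card_mul_eq_card_mul (fun (w : Ω) (T : Finset Ω) => w ∈ T) (s := (P ∪ Q)ᶜ)
    (t := pat G Γ P Q) (m := (pat G Γ (insert z P) Q).card) (n := Γ.card - P.card) ?_ ?_
  · rw [Finset.card_compl, Finset.card_union_of_disjoint hd] at key
    rw [key, mul_comm]
  · intro w hw
    rw [Finset.mem_compl] at hw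
    have hzP : z ∉ P := fun h => hz (Finset.mem_union_left _ h)
    have hwP : w ∉ P := fun h => hw (Finset.mem_union_left _ h)
    rw [pat_card_congr hk Γ (P' := insert w P) (Q' := Q)]
    · congr 1
      ext T
      simp only [Finset.bipartiteAbove, Finset.mem_filter, mem_pat, Finset.insert_subset_iff]
      tauto
    · rw [Finset.disjoint_insert_left]; exact ⟨fun h => hz (Finset.mem_union_right _ h), hd⟩
    · rw [Finset.disjoint_insert_left]; exact ⟨fun h => hw (Finset.mem_union_right _ h), hd⟩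
    · rw [Finset.card_insert_of_notMem hzP, Finset.card_insert_of_notMem hwP]
    · rfl
    · rw [Finset.card_insert_of_notMem hzP]; omega
  · intro T hT
    obtain ⟨⟨g, hgT⟩, hPT, hQT⟩ := mem_pat.1 hT
    have e : ((P ∪ Q)ᶜ).bipartiteBelow (fun (w : Ω) (T : Finset Ω) => w ∈ T) T = T \ P := by
      ext w
      simp only [Finset.bipartiteBelow, Finset.mem_filter, Finset.mem_compl, Finset.mem_union,
        Finset.mem_sdiff]
      have hQT' : w ∈ Q → w ∉ T := fun h => Finset.disjoint_left.1 hQT h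
      tauto
    rw [e, Finset.card_sdiff_of_subset hPT, ← hgT, Finset.card_smul_finset]

/-- The hypergeometric weights. -/
def weight (n r p q : ℕ) : ℕ := r.descFactorial p * (n - r).descFactorial q

theorem weight_split {n r : ℕ} (p q : ℕ) (hr : r ≤ n) :
    weight n r (p + 1) q + weight n r p (q + 1) = (n - (p + q)) * weight n r p q := by
  simp only [weight, Nat.descFactorial_succ]
  rcases Nat.lt_or_ge r p with h | h
  · simp [Nat.descFactorial_eq_zero_iff_lt.2 h]
  rcases Nat.lt_or_ge (n - r) q with h' | h'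
  · simp [Nat.descFactorial_eq_zero_iff_lt.2 h']
  have : n - (p + q) = (r - p) + (n - r - q) := by omega
  rw [this]; ring

theorem pat_formula {k : ℕ} (hk : TransK G Ω k) (Γ : Finset Ω) :
    ∀ (Q P : Finset Ω), Disjoint P Q → P.card + Q.card ≤ k →
      (pat G Γ P Q).card * (Fintype.card Ω).descFactorial (P.card + Q.card) =
        (translates G Γ).card * weight (Fintype.card Ω) Γ.card P.card Q.card := by
  intro Q
  induction Q using Finset.induction_on with
  | empty =>
    intro P
    induction P using Finset.induction_on with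
    | empty =>
      intro _ _
      simp [weight, pat]
    | insert z P hz ih =>
      intro _ hle
      rw [Finset.card_insert_of_notMem hz, Finset.card_empty, add_zero] at hle ⊢
      have h1 := ih (Finset.disjoint_empty_right _) (by simpa using Nat.le_of_succ_le hle)
      have h2 := pat_rec hk Γ P ∅ (Finset.disjoint_empty_right _) (by simpa using hle) (z := z) (by simpa using hz)
      simp only [Finset.card_empty, add_zero] at h1 h2
      simp only [weight, Nat.descFactorial_succ, Nat.descFactorial_zero, mul_one] at h1 ⊢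
      calc (pat G Γ (insert z P) ∅).card * ((Fintype.card Ω - P.card) * (Fintype.card Ω).descFactorial P.card)
          = (Γ.card - P.card) * ((pat G Γ P ∅).card * (Fintype.card Ω).descFactorial P.card) := by
            rw [← mul_assoc (Γ.card - P.card), ← h2]; ring
        _ = _ := by rw [h1]; ring
  | insert z Q hz ih =>
    intro P hd hle
    rw [Finset.card_insert_of_notMem hz] at hle ⊢
    rw [Finset.disjoint_insert_right] at hd
    have h1 := ih (insert z P) (Finset.disjoint_insert_left.2 ⟨hz, hd.2⟩)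
      (by rw [Finset.card_insert_of_notMem hd.1]; omega)
    have h0 := ih P hd.2 (by omega)
    rw [Finset.card_insert_of_notMem hd.1, add_right_comm] at h1
    rw [← add_assoc]
    have hs := weight_split P.card Q.card (Finset.card_le_univ Γ)
    set N := (Fintype.card Ω).descFactorial (P.card + Q.card + 1) with hN
    have h0' : (pat G Γ P Q).card * N = (translates G Γ).card * weight (Fintype.card Ω) Γ.card (P.card + 1) Q.card +
        (translates G Γ).card * weight (Fintype.card Ω) Γ.card P.card (Q.card + 1) := by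
      rw [← mul_add, hs, hN, Nat.descFactorial_succ, mul_left_comm, h0, mul_left_comm]
    rw [← pat_split Γ P Q (z := z), add_mul, h1] at h0'
    exact Nat.add_left_cancel h0'

theorem descFactorial_lt' {s u : ℕ} (h : s < u) : ∀ e, 1 ≤ e → e ≤ u → s.descFactorial e < u.descFactorial e
  | 0, he, _ => absurd he (by omega)
  | 1, _, _ => by simpa using h
  | e + 2, _, he => by
    rw [Nat.descFactorial_succ s (e + 1), Nat.descFactorial_succ u (e + 1)]
    exact Nat.mul_lt_mul'' (by omega) (descFactorial_lt' h (e + 1) (by omega) (by omega))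

theorem weight_top_lt {n r d : ℕ} (hn : 2 * r < n) (hd : 2 ≤ d) (hdr : d ≤ r) :
    weight n r d 0 < weight n r 1 (d - 1) ∧ weight n r d 1 < weight n r 1 d := by
  obtain ⟨e, rfl⟩ : ∃ e, d = e + 1 := ⟨d - 1, by omega⟩
  obtain ⟨s, rfl⟩ : ∃ s, r = s + 1 := ⟨r - 1, by omega⟩
  obtain ⟨t, ht⟩ : ∃ t, n - (s + 1) = t + 1 := ⟨n - (s + 1) - 1, by omega⟩
  have hst : s < t := by omega
  have key : ∀ u, s < u → s.descFactorial e < u.descFactorial e := fun u hu =>
    descFactorial_lt' hu e (by omega) (by omega)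
  constructor
  · simp only [weight, Nat.add_sub_cancel, Nat.succ_descFactorial_succ, Nat.descFactorial_zero, mul_one,
      Nat.descFactorial_one, ht]
    exact Nat.mul_lt_mul_of_pos_left (key _ (by omega)) (Nat.succ_pos _)
  · simp only [weight, Nat.succ_descFactorial_succ, Nat.descFactorial_zero, mul_one, ht]
    calc (s + 1) * s.descFactorial e * (t + 1) = (s + 1) * (t + 1) * s.descFactorial e := by ring
      _ < (s + 1) * (t + 1) * t.descFactorial e := Nat.mul_lt_mul_of_pos_left (key _ hst) (by positivity)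
      _ = _ := by ring

/-- The points `x`, `y` cannot be inseparable by the translates avoiding the `j`-set `A`. -/
theorem inseparable_false {j : ℕ} (hj : 1 ≤ j) (hk : TransK G Ω (j + 1)) (Γ A : Finset Ω)
    (hA : A.card = j) (hjr : j + 2 ≤ Γ.card + 1) (hn : 2 * Γ.card < Fintype.card Ω) {b c : Ω}
    (hbc : b ≠ c) (hb : b ∉ A) (hc : c ∉ A) :
    ∃ T ∈ pat G Γ {b} A, c ∉ T := by
  by_contra hall
  push Not at hall
  set n := Fintype.card Ω
  set r := Γ.card
  set R := (translates G Γ).card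
  have hRpos : 0 < R := Finset.card_pos.2 ⟨Γ, mem_translates.2 ⟨1, one_smul _ _⟩⟩
  have hz : pat G Γ {b} (insert c A) = ∅ := by
    refine Finset.eq_empty_of_forall_notMem fun T hT => ?_
    obtain ⟨h1, h2, h3⟩ := mem_pat.1 hT
    rw [Finset.disjoint_insert_left] at h3
    exact h3.1 (hall T (mem_pat.2 ⟨h1, h2, h3.2⟩))
  set U := insert c A with hU
  have hUcard : U.card = j + 1 := by rw [hU, Finset.card_insert_of_notMem hc, hA]
  have hbU : b ∉ U := by rw [hU, Finset.mem_insert]; tauto
  -- along the subsets of `U` moved to the inside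
  have key : ∀ S : Finset Ω, S ⊆ U →
      ((pat G Γ (insert b S) (U \ S)).card : ℤ) * (n.descFactorial (j + 2) : ℤ) =
        R * weight n r (S.card + 1) (j + 1 - S.card) - (-1) ^ S.card * (R * weight n r 1 (j + 1) : ℤ) := by
    intro S
    induction S using Finset.induction_on with
    | empty =>
      intro _
      simp [hz]
    | insert z S hzS ih =>
      intro hsub
      rw [Finset.insert_subset_iff] at hsub
      have ih' := ih hsub.2
      have hcard : (U \ insert z S).card + (S.card + 1) = j + 1 := by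
        rw [← Finset.card_insert_of_notMem hzS, ← hUcard,
          Finset.card_sdiff_add_card_eq_card (Finset.insert_subset hsub.1 hsub.2)]
      have hUS : U \ S = insert z (U \ insert z S) := by
        ext w; simp only [Finset.mem_sdiff, Finset.mem_insert]
        constructor
        · intro h; by_cases hw : w = z <;> tauto
        · rintro (rfl | h) <;> tauto
      have hbS : b ∉ S := fun h => hbU (hsub.2 h)
      have hdisj : Disjoint (insert b S) (U \ insert z S) := by
        rw [Finset.disjoint_insert_left]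
        refine ⟨fun h => hbU (Finset.mem_sdiff.1 h).1, Finset.disjoint_left.2 fun w hw hw' => ?_⟩
        exact (Finset.mem_sdiff.1 hw').2 (Finset.mem_insert_of_mem hw)
      have hform := pat_formula hk Γ (U \ insert z S) (insert b S) hdisj
        (by rw [Finset.card_insert_of_notMem hbS]; omega)
      rw [Finset.card_insert_of_notMem hbS, show S.card + 1 + (U \ insert z S).card = j + 1 by omega] at hform
      have hsplit := pat_split (G := G) Γ (insert b S) (U \ insert z S) (z := z)
      rw [← hUS, Finset.insert_comm z b] at hsplit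
      have hw := weight_split (n := n) (r := r) (S.card + 1) (U \ insert z S).card (Finset.card_le_univ Γ)
      rw [show S.card + 1 + (U \ insert z S).card = j + 1 by omega] at hw
      rw [Finset.card_insert_of_notMem hzS]
      rw [show j + 1 - (S.card + 1) = (U \ insert z S).card by omega]
      rw [show j + 1 - S.card = (U \ insert z S).card + 1 by omega] at ih'
      have hD : (n.descFactorial (j + 2) : ℤ) = ((n - (j + 1) : ℕ) : ℤ) * n.descFactorial (j + 1) := by
        rw [Nat.descFactorial_succ]; push_cast; ring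
      have hs' : ((pat G Γ (insert b (insert z S)) (U \ insert z S)).card : ℤ) +
          (pat G Γ (insert b S) (U \ S)).card = (pat G Γ (insert b S) (U \ insert z S)).card := by
        exact_mod_cast hsplit
      have hw' : (weight n r (S.card + 1 + 1) (U \ insert z S).card : ℤ) +
          weight n r (S.card + 1) ((U \ insert z S).card + 1) =
          ((n - (j + 1) : ℕ) : ℤ) * weight n r (S.card + 1) (U \ insert z S).card := by
        exact_mod_cast hw
      have hf' : ((pat G Γ (insert b S) (U \ insert z S)).card : ℤ) * n.descFactorial (j + 1) =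
          R * weight n r (S.card + 1) (U \ insert z S).card := by exact_mod_cast hform
      rw [pow_succ]
      linear_combination (n.descFactorial (j + 2) : ℤ) * hs' - ih' +
        ((n - (j + 1) : ℕ) : ℤ) * hf' - (R : ℤ) * hw' +
        ((pat G Γ (insert b S) (U \ insert z S)).card : ℤ) * hD
  rcases Nat.even_or_odd j with he | ho
  · -- `j + 1` is odd: use a subset of size `j`
    have := key (U.erase c) (Finset.erase_subset _ _)
    rw [Finset.card_erase_of_mem (by simp [hU]), hUcard, Nat.add_sub_cancel, he.neg_one_pow,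
      Nat.add_sub_cancel_left, one_mul] at this
    have hlt := (weight_top_lt hn (d := j + 1) (by omega) (by omega)).2
    have : (0 : ℤ) ≤ (R : ℤ) * weight n r (j + 1) 1 - R * weight n r 1 (j + 1) := this ▸ by positivity
    have : (R : ℤ) * weight n r (j + 1) 1 < R * weight n r 1 (j + 1) := by
      exact_mod_cast Nat.mul_lt_mul_of_pos_left hlt hRpos
    linarith
  · have := key U Finset.Subset.rfl
    rw [hUcard, (ho.add_one).neg_one_pow, Nat.sub_self, one_mul] at this
    have hlt : weight n r (j + 2) 0 < weight n r 1 (j + 1) := by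
      by_cases h : j + 2 ≤ r
      · exact (weight_top_lt hn (d := j + 2) (by omega) h).1
      · have h0 : weight n r (j + 2) 0 = 0 := by
          simp only [weight]; rw [Nat.descFactorial_eq_zero_iff_lt.2 (by omega)]; simp
        rw [h0, weight]
        exact Nat.mul_pos (Nat.descFactorial_pos.2 (by omega)) (Nat.descFactorial_pos.2 (by omega))
    have : (0 : ℤ) ≤ (R : ℤ) * weight n r (j + 2) 0 - R * weight n r 1 (j + 1) := this ▸ by positivity
    have : (R : ℤ) * weight n r (j + 2) 0 < R * weight n r 1 (j + 1) := by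
      exact_mod_cast Nat.mul_lt_mul_of_pos_left hlt hRpos
    linarith

theorem pat_nonempty {k : ℕ} (hk : TransK G Ω k) (Γ : Finset Ω) {P Q : Finset Ω} (hd : Disjoint P Q)
    (hle : P.card + Q.card ≤ k) (hP : P.card ≤ Γ.card) (hQ : Q.card + Γ.card ≤ Fintype.card Ω) :
    (pat G Γ P Q).Nonempty := by
  rw [← Finset.card_pos]
  have h := pat_formula hk Γ Q P hd hle
  have h1 : 0 < (translates G Γ).card := Finset.card_pos.2 ⟨Γ, mem_translates.2 ⟨1, one_smul _ _⟩⟩
  have h2 : 0 < weight (Fintype.card Ω) Γ.card P.card Q.card :=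
    Nat.mul_pos (Nat.descFactorial_pos.2 hP) (Nat.descFactorial_pos.2 (by omega))
  have h3 : 0 < (translates G Γ).card * weight (Fintype.card Ω) Γ.card P.card Q.card := Nat.mul_pos h1 h2
  rw [← h] at h3
  exact Nat.pos_of_mul_pos_right h3

/-- The step from `k` to `k + 1`. -/
theorem transK_succ {Γ : Finset Ω} (hJ : IsJordanSet G (Γ : Set Ω)) (h1 : 1 < Γ.card)
    (hn : 2 * Γ.card < Fintype.card Ω) {j : ℕ} (hj : 1 ≤ j) (hjr : j + 2 ≤ Γ.card + 1)
    (hk : TransK G Ω (j + 1)) : TransK G Ω (j + 2) := by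
  have hmain : ∀ A : Finset Ω, A.card = j →
      IsMultiplyPretransitive (fixingSubgroup G (A : Set Ω)) (SubMulAction.ofFixingSubgroup G (A : Set Ω)) 2 := by
    intro A hA
    set X := SubMulAction.ofFixingSubgroup G (A : Set Ω) with hX
    have hmemX : ∀ z : Ω, z ∈ X ↔ z ∉ A := fun z => by
      rw [hX, SubMulAction.mem_ofFixingSubgroup_iff, Finset.mem_coe]
    haveI : IsPretransitive (fixingSubgroup G (A : Set Ω)) X := by
      refine ⟨fun u v => ?_⟩
      obtain ⟨g, hg⟩ := hk (insert u.1 A) (by rw [Finset.card_insert_of_notMem ((hmemX _).1 u.2), hA])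
        (Equiv.swap u.1 v.1)
      refine ⟨⟨g, (mem_fixingSubgroup_iff G).2 fun a ha => ?_⟩, Subtype.ext ?_⟩
      · rw [hg a (Finset.mem_insert_of_mem ha), Equiv.swap_apply_of_ne_of_ne]
        · exact fun e => (hmemX _).1 u.2 (e ▸ ha)
        · exact fun e => (hmemX _).1 v.2 (e ▸ ha)
      · show g • u.1 = v.1
        rw [hg _ (Finset.mem_insert_self _ _), Equiv.swap_apply_left]
    have hcardX : Nat.card X = Fintype.card Ω - j := by
      have : Nat.card X = ((A : Set Ω)ᶜ).ncard := by
        rw [← Nat.card_coe_set_eq]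
        exact Nat.card_congr (Equiv.subtypeEquivRight fun z => by rw [hmemX]; simp)
      rw [this, ← Finset.coe_compl, Set.ncard_coe_finset, Finset.card_compl, hA]
    have hprim : IsPreprimitive (fixingSubgroup G (A : Set Ω)) X := by
      refine IsPreprimitive.mk ?_
      intro B0 hB0
      by_contra hnt
      simp only [IsTrivialBlock, not_or, Set.not_subsingleton_iff] at hnt
      obtain ⟨⟨b0, hb0, x0, hx0, hbx0⟩, hne⟩ := hnt
      set B : Set Ω := Subtype.val '' B0 with hB
      have hBn : 2 * B.ncard ≤ Fintype.card Ω - j := by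
        obtain ⟨t, ht⟩ := hB0.ncard_dvd_card ⟨b0, hb0⟩
        have hlt := Set.ncard_lt_card hne
        rw [hB, Set.ncard_image_of_injective _ Subtype.val_injective, ← hcardX, ht, mul_comm 2]
        refine Nat.mul_le_mul_left _ ?_
        rw [ht] at hlt
        rcases t with _ | _ | t <;> simp at hlt ⊢
      set b := (b0 : Ω) with hb
      set x := (x0 : Ω) with hx
      have hbA : b ∉ A := (hmemX _).1 b0.2
      have hxA : x ∉ A := (hmemX _).1 x0.2
      have hbx : b ≠ x := fun h => hbx0 (Subtype.ext h)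
      have hdich : ∀ T ∈ pat G Γ {b} A, (B ⊆ T ∨ (T : Set Ω) ⊆ B) := by
        intro T hT
        obtain ⟨⟨g, hgT⟩, hbT, hAT⟩ := mem_pat.1 hT
        by_cases hsub : B ⊆ T
        · exact Or.inl hsub
        obtain ⟨y, hyB, hyT⟩ := Set.not_subset.1 hsub
        refine Or.inr fun z hz => ?_
        have hJ' := hJ.smul g
        rw [← Finset.coe_smul_finset, hgT] at hJ'
        obtain ⟨k, hkfix, hkz⟩ := hJ' b (hbT (Finset.mem_singleton_self b)) z hz
        have hkA : k ∈ fixingSubgroup G (A : Set Ω) :=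
          (mem_fixingSubgroup_iff G).2 fun a ha => hkfix a fun h => Finset.disjoint_left.1 hAT ha h
        obtain ⟨y0, hy0, rfl⟩ := hyB
        have hky : (⟨k, hkA⟩ : fixingSubgroup G (A : Set Ω)) • y0 = y0 := Subtype.ext (hkfix _ hyT)
        have hBk := hB0.smul_eq_of_nonempty (g := (⟨k, hkA⟩ : fixingSubgroup G (A : Set Ω)))
          ⟨y0, Set.mem_smul_set.2 ⟨y0, hy0, hky⟩, hy0⟩
        exact ⟨(⟨k, hkA⟩ : fixingSubgroup G (A : Set Ω)) • b0, hBk ▸ Set.smul_mem_smul_set hb0, hkz⟩
      obtain ⟨T1, hT1, hxT1⟩ := inseparable_false hj hk Γ A hA hjr hn hbx hbA hxA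
      have hT1B : (T1 : Set Ω) ⊆ B := (hdich T1 hT1).resolve_left fun h => hxT1 (h ⟨x0, hx0, rfl⟩)
      have hcardT : ∀ T ∈ pat G Γ {b} A, T.card = Γ.card := fun T hT =>
        card_of_mem_translates (Finset.mem_filter.1 hT).1
      have hrB : Γ.card ≤ B.ncard := by
        rw [← hcardT T1 hT1, ← Set.ncard_coe_finset]
        exact Set.ncard_le_ncard hT1B
      have hsmall : ∀ T ∈ pat G Γ {b} A, (T : Set Ω) ⊆ B := by
        intro T hT
        refine (hdich T hT).resolve_left fun hBT => ?_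
        have heq : (T1 : Set Ω) = T := Set.eq_of_subset_of_ncard_le (hT1B.trans hBT) (by
          rw [Set.ncard_coe_finset, Set.ncard_coe_finset, hcardT T hT, hcardT T1 hT1])
        exact hxT1 (Finset.mem_coe.1 (heq.symm ▸ hBT ⟨x0, hx0, rfl⟩))
      obtain ⟨a, ha⟩ : A.Nonempty := Finset.card_pos.1 (by omega)
      have hAe : (A.erase a).card = j - 1 := by rw [Finset.card_erase_of_mem ha, hA]
      have hba : b ≠ a := fun h => hbA (h ▸ ha)
      have hdba : Disjoint ({b, a} : Finset Ω) (A.erase a) := by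
        simp [Finset.disjoint_insert_left, hbA]
      obtain ⟨T3, hT3⟩ := pat_nonempty hk Γ hdba (by rw [Finset.card_pair hba, hAe]; omega)
        (by rw [Finset.card_pair hba]; omega) (by rw [hAe]; omega)
      have hcover : ((A : Set Ω) ∪ B)ᶜ ⊆ (T3 : Set Ω) := by
        intro z hz
        simp only [Set.mem_compl_iff, Set.mem_union, not_or, Finset.mem_coe] at hz
        have hzb : b ≠ z := fun h => hz.2 (h ▸ ⟨b0, hb0, rfl⟩)
        have hdbz : Disjoint ({b, z} : Finset Ω) (A.erase a) := by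
          simp [Finset.disjoint_insert_left, hbA, hz.1]
        have hsub : pat G Γ {b, z} (A.erase a) ⊆ pat G Γ {b, a} (A.erase a) := by
          intro T hT
          obtain ⟨h1', h2', h3'⟩ := mem_pat.1 hT
          simp only [Finset.insert_subset_iff, Finset.singleton_subset_iff] at h2'
          refine mem_pat.2 ⟨h1', ?_, h3'⟩
          simp only [Finset.insert_subset_iff, Finset.singleton_subset_iff]
          refine ⟨h2'.1, ?_⟩
          by_contra haT
          refine hz.2 (hsmall T (mem_pat.2 ⟨h1', Finset.singleton_subset_iff.2 h2'.1, ?_⟩) h2'.2)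
          rw [← Finset.insert_erase ha, Finset.disjoint_insert_left]
          exact ⟨haT, h3'⟩
        have heq := Finset.eq_of_subset_of_card_le hsub (pat_card_congr hk Γ hdba hdbz
          (by rw [Finset.card_pair hba, Finset.card_pair hzb]) rfl (by rw [Finset.card_pair hba, hAe]; omega)).le
        rw [← heq] at hT3
        exact (mem_pat.1 hT3).2.1 (by simp)
      have hle := Set.ncard_le_ncard hcover
      have hu := Set.ncard_union_le (A : Set Ω) B
      have hc := Set.ncard_add_ncard_compl ((A : Set Ω) ∪ B)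
      rw [Set.ncard_coe_finset, card_of_mem_translates (Finset.mem_filter.1 hT3).1] at hle
      rw [Nat.card_eq_fintype_card] at hc
      rw [Set.ncard_coe_finset, hA] at hu
      have h2le : B.ncard + 2 ≤ Γ.card + 1 := by
        have h2 : (insert b (insert a ((A : Set Ω) ∪ B)ᶜ) : Set Ω) ⊆ T3 := by
          have := (mem_pat.1 hT3).2.1
          simp only [Finset.insert_subset_iff, Finset.singleton_subset_iff] at this
          exact Set.insert_subset this.1 (Set.insert_subset this.2 hcover)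
        have h2c := Set.ncard_le_ncard h2
        rw [Set.ncard_insert_of_notMem, Set.ncard_insert_of_notMem, Set.ncard_coe_finset,
          card_of_mem_translates (Finset.mem_filter.1 hT3).1] at h2c
        · omega
        · simp [ha]
        · simp only [Set.mem_insert_iff, Set.mem_compl_iff, Set.mem_union, not_or]
          exact ⟨hba, fun h => h.2 ⟨b0, hb0, rfl⟩⟩
      omega
    obtain ⟨T, hT⟩ := pat_nonempty hk Γ (P := ∅) (Q := A) (Finset.disjoint_empty_left _)
      (by simp [hA]) (by simp) (by omega)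
    obtain ⟨⟨g, hgT⟩, -, hAT⟩ := mem_pat.1 hT
    have hJ' := hJ.smul g
    rw [← Finset.coe_smul_finset, hgT] at hJ'
    set Γ' : Set X := Subtype.val ⁻¹' (T : Set Ω)
    have hΓc : Γ'.ncard = Γ.card := by
      rw [Set.ncard_preimage_of_injective_subset_range Subtype.val_injective
        (fun z hz => ⟨⟨z, (hmemX z).2 fun h => Finset.disjoint_left.1 hAT h hz⟩, rfl⟩),
        Set.ncard_coe_finset, ← hgT, Finset.card_smul_finset]
    have hJX : IsJordanSet (fixingSubgroup G (A : Set Ω)) Γ' := by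
      intro u hu v hv
      obtain ⟨k, hkfix, hkuv⟩ := hJ' u.1 hu v.1 hv
      exact ⟨⟨k, (mem_fixingSubgroup_iff G).2 fun a ha => hkfix a fun h => Finset.disjoint_left.1 hAT ha h⟩,
        fun z hz => Subtype.ext (hkfix z.1 hz), Subtype.ext hkuv⟩
    exact two_pretransitive hprim hJX (by omega) (by rw [hΓc, hcardX]; omega)
  intro S hS σ
  by_cases hS' : S.card ≤ j + 1
  · exact hk S hS' σ
  obtain ⟨u, hu, v, hv, huv⟩ := Finset.one_lt_card.1 (by omega : 1 < S.card)
  set S0 := (S.erase u).erase v with hS0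
  have hS0c : S0.card = j := by
    rw [hS0, Finset.card_erase_of_mem (Finset.mem_erase.2 ⟨huv.symm, hv⟩), Finset.card_erase_of_mem hu]
    omega
  obtain ⟨g, hg⟩ := hk S0 (by omega) σ
  set A := S0.image σ
  have hA : A.card = j := by rw [Finset.card_image_of_injective _ σ.injective, hS0c]
  have h2 := hmain A hA
  have hmem : ∀ y, y ∈ SubMulAction.ofFixingSubgroup G (A : Set Ω) ↔ y ∉ A := fun y => by
    rw [SubMulAction.mem_ofFixingSubgroup_iff, Finset.mem_coe]
  have hout : ∀ w ∈ S, w ∉ S0 → g • w ∉ A ∧ σ w ∉ A := by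
    intro w _ hw
    simp only [A, Finset.mem_image, not_exists, not_and]
    refine ⟨fun y hy e => hw ?_, fun y hy e => hw (σ.injective e ▸ hy)⟩
    rw [← hg y hy] at e
    exact MulAction.injective g e ▸ hy
  obtain ⟨hgu, hσu⟩ := hout u hu (by simp [hS0])
  obtain ⟨hgv, hσv⟩ := hout v hv (by simp [hS0])
  obtain ⟨h, hhu, hhv⟩ := exists_map_pair h2
    (x := ⟨g • u, (hmem _).2 hgu⟩) (y := ⟨g • v, (hmem _).2 hgv⟩)
    (x' := ⟨σ u, (hmem _).2 hσu⟩) (y' := ⟨σ v, (hmem _).2 hσv⟩)
    (fun e => huv (MulAction.injective g (congrArg Subtype.val e)))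
    (fun e => huv (σ.injective (congrArg Subtype.val e)))
  refine ⟨(h : G) * g, fun w hw => ?_⟩
  rw [mul_smul]
  by_cases hwu : w = u
  · subst hwu; exact congrArg Subtype.val hhu
  by_cases hwv : w = v
  · subst hwv; exact congrArg Subtype.val hhv
  have hwS0 : w ∈ S0 := by simp [hS0, hw, hwu, hwv]
  rw [hg w hwS0]
  exact (mem_fixingSubgroup_iff G).1 h.2 _ (Finset.mem_coe.2 (Finset.mem_image_of_mem σ hwS0))

theorem transK_two (h2 : IsMultiplyPretransitive G Ω 2) : TransK G Ω 2 := by
  intro S hS σ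
  haveI := h2
  haveI : IsPretransitive G Ω := isPretransitive_of_is_two_pretransitive
  rcases (show S.card = 0 ∨ S.card = 1 ∨ S.card = 2 by omega) with h | h | h
  · exact ⟨1, by simp [Finset.card_eq_zero.1 h]⟩
  · obtain ⟨a, rfl⟩ := Finset.card_eq_one.1 h
    obtain ⟨g, hg⟩ := exists_smul_eq G a (σ a)
    exact ⟨g, by simpa using hg⟩
  · obtain ⟨a, b, hab, rfl⟩ := Finset.card_eq_two.1 h
    obtain ⟨g, hga, hgb⟩ := exists_map_pair h2 hab (σ.injective.ne hab)
    exact ⟨g, by simp [hga, hgb]⟩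

/-- Two translates of a small Jordan set of a primitive group meet in exactly one point. -/
theorem exists_translate_meet_one (hprim : IsPreprimitive G Ω) {Γ : Finset Ω}
    (hJ : IsJordanSet G (Γ : Set Ω)) (h1 : 1 < Γ.card) (hn : 2 * Γ.card < Fintype.card Ω) :
    ∃ x ∈ Γ, ∃ g : G, x ∈ g • Γ ∧ ∀ y ∈ Γ, y ∈ g • Γ → y = x := by
  have h2 := two_pretransitive hprim hJ (by rwa [Set.ncard_coe_finset])
    (by rw [Set.ncard_coe_finset, Nat.card_eq_fintype_card]; omega)
  have hall : ∀ j, 1 ≤ j → j + 1 ≤ Γ.card → TransK G Ω (j + 1) := by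
    intro j hj
    induction j, hj using Nat.le_induction with
    | base => exact fun _ => transK_two h2
    | succ j hj ih => exact fun h => transK_succ hJ h1 hn hj (by omega) (ih (by omega))
  have hr := hall (Γ.card - 1) (by omega) (by omega)
  rw [show Γ.card - 1 + 1 = Γ.card by omega] at hr
  obtain ⟨x, hx⟩ : Γ.Nonempty := Finset.card_pos.1 (by omega)
  obtain ⟨V, hVsub, hVc⟩ := Finset.exists_subset_card_eq (s := Γᶜ) (n := Γ.card - 1)
    (by rw [Finset.card_compl]; omega)
  have hxV : x ∉ V := fun h => Finset.mem_compl.1 (hVsub h) hx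
  have hTc : (insert x V).card = Γ.card := by rw [Finset.card_insert_of_notMem hxV, hVc]; omega
  let e : Γ ≃ (insert x V : Finset Ω) := Finset.equivOfCardEq hTc.symm
  obtain ⟨σ, hσ⟩ : ∃ σ : Equiv.Perm Ω, ∀ y : Γ, σ y = e y :=
    ⟨e.extendSubtype, fun y => by rw [Equiv.extendSubtype_apply_of_mem _ _ y.2]⟩
  obtain ⟨g, hg⟩ := hr Γ le_rfl σ
  have hgΓ : g • Γ = insert x V := by
    refine Finset.eq_of_subset_of_card_le ?_ (by rw [Finset.card_smul_finset, hTc])
    intro z hz
    obtain ⟨y, hy, rfl⟩ := Finset.mem_smul_finset.1 hz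
    rw [hg y hy, hσ ⟨y, hy⟩]
    exact (e _).2
  refine ⟨x, hx, g, hgΓ ▸ Finset.mem_insert_self _ _, fun y hy hy' => ?_⟩
  rw [hgΓ, Finset.mem_insert] at hy'
  exact hy'.resolve_right fun h => Finset.mem_compl.1 (hVsub h) hy

omit [Fintype Ω] [DecidableEq Ω] in
/-- A commutator of elements whose supports meet only inside `X` fixes a point unless it is near `X`. -/
theorem commutator_fix {k l : G} {Γ Γ' : Set Ω} (hk : ∀ z ∉ Γ, k • z = z) (hl : ∀ z ∉ Γ', l • z = z)
    {z : Ω} (hz : ¬ (z ∈ Γ ∧ z ∈ Γ')) (hkz : ¬ (k⁻¹ • z ∈ Γ ∧ k⁻¹ • z ∈ Γ'))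
    (hlz : ¬ (l⁻¹ • z ∈ Γ ∧ l⁻¹ • z ∈ Γ')) : (l * k * l⁻¹ * k⁻¹) • z = z := by
  have hk' : ∀ w ∉ Γ, k⁻¹ • w = w := fun w hw => inv_smul_eq_iff.2 (hk w hw).symm
  have hl' : ∀ w ∉ Γ', l⁻¹ • w = w := fun w hw => inv_smul_eq_iff.2 (hl w hw).symm
  have hkΓ : ∀ w, w ∈ Γ → k⁻¹ • w ∈ Γ := fun w hw => by
    by_contra h
    have := hk _ h
    rw [smul_inv_smul] at this
    exact h (this ▸ hw)
  have hlΓ : ∀ w, w ∈ Γ' → l⁻¹ • w ∈ Γ' := fun w hw => by
    by_contra h
    have := hl _ h
    rw [smul_inv_smul] at this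
    exact h (this ▸ hw)
  simp only [mul_smul]
  by_cases hzΓ : z ∈ Γ
  · rw [hl' _ fun h => hkz ⟨hkΓ z hzΓ, h⟩, smul_inv_smul, hl _ fun h => hz ⟨hzΓ, h⟩]
  · rw [hk' z hzΓ]
    by_cases hzΓ' : z ∈ Γ'
    · rw [hk _ fun h => hlz ⟨h, hlΓ z hzΓ'⟩, smul_inv_smul]
    · rw [hl' z hzΓ', hk z hzΓ, hl z hzΓ']

omit [Fintype Ω] in
/-- The commutator is a 3-cycle when the supports meet in one point. -/
theorem commutator_threeCycle {k l : G} {Γ Γ' : Set Ω} (hk : ∀ z ∉ Γ, k • z = z) (hl : ∀ z ∉ Γ', l • z = z)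
    {x y w : Ω} (hx : x ∈ Γ) (hx' : x ∈ Γ') (hone : ∀ z ∈ Γ, z ∈ Γ' → z = x)
    (hy : k • x = y) (hw : l • x = w) (hxy : y ≠ x) (hxw : w ≠ x) :
    MulAction.toPerm (l * k * l⁻¹ * k⁻¹) = Equiv.swap x y * Equiv.swap x w ∧ y ≠ w := by
  have hkΓ : ∀ u, u ∈ Γ → k • u ∈ Γ := fun u hu => by
    by_contra h
    have : k • (k • u) = k • u := hk _ h
    exact h (by rw [MulAction.injective k this]; exact hu)
  have hlΓ : ∀ u, u ∈ Γ' → l • u ∈ Γ' := fun u hu => by
    by_contra h
    have : l • (l • u) = l • u := hl _ h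
    exact h (by rw [MulAction.injective l this]; exact hu)
  have hyΓ : y ∈ Γ := hy ▸ hkΓ x hx
  have hwΓ : w ∈ Γ' := hw ▸ hlΓ x hx'
  have hyΓ' : y ∉ Γ' := fun h => hxy (hone y hyΓ h)
  have hwΓ' : w ∉ Γ := fun h => hxw (hone w h hwΓ)
  have hyw : y ≠ w := fun h => hwΓ' (h ▸ hyΓ)
  refine ⟨Equiv.ext fun z => ?_, hyw⟩
  rw [MulAction.toPerm_apply, Equiv.Perm.mul_apply]
  by_cases hzx : z = x
  · subst hzx
    have hk0 : k⁻¹ • z ∉ Γ' := by
      intro h
      have h2 : k⁻¹ • z ∈ Γ := by
        by_contra h'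
        have h3 := hk _ h'
        rw [smul_inv_smul] at h3
        exact h' (h3 ▸ hx)
      exact hxy (by rw [← hy]; nth_rw 2 [← smul_inv_smul k z]; rw [hone _ h2 h])
    rw [Equiv.swap_apply_left, Equiv.swap_apply_of_ne_of_ne hxw hyw.symm]
    simp only [mul_smul]
    rw [inv_smul_eq_iff.2 (hl _ hk0).symm, smul_inv_smul, hw]
  by_cases hzy : z = y
  · subst hzy
    have hl0 : l⁻¹ • x ∉ Γ := by
      intro h
      have h2 : l⁻¹ • x ∈ Γ' := by
        by_contra h'
        have h3 := hl _ h'
        rw [smul_inv_smul] at h3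
        exact h' (h3 ▸ hx')
      exact hxw (by rw [← hw]; nth_rw 2 [← smul_inv_smul l x]; rw [hone _ h h2])
    rw [Equiv.swap_apply_of_ne_of_ne hzx hyw, Equiv.swap_apply_right]
    simp only [mul_smul]
    rw [inv_smul_eq_iff.2 hy.symm, hk _ hl0, smul_inv_smul]
  by_cases hzw : z = w
  · subst hzw
    rw [Equiv.swap_apply_right, Equiv.swap_apply_left]
    simp only [mul_smul]
    rw [inv_smul_eq_iff.2 (hk z hwΓ').symm, inv_smul_eq_iff.2 hw.symm, hy, hl y hyΓ']
  rw [Equiv.swap_apply_of_ne_of_ne hzx hzw, Equiv.swap_apply_of_ne_of_ne hzx hzy]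
  refine commutator_fix hk hl (fun h => hzx (hone z h.1 h.2)) (fun h => hzy ?_) (fun h => hzw ?_)
  · rw [← hy, ← hone _ h.1 h.2, smul_inv_smul]
  · rw [← hw, ← hone _ h.1 h.2, smul_inv_smul]

/-- Data of a commutator 3-cycle. -/
theorem exists_commutator_data (hprim : IsPreprimitive G Ω) {Γ : Finset Ω}
    (hJ : IsJordanSet G (Γ : Set Ω)) (h1 : 1 < Γ.card) (hn : 2 * Γ.card < Fintype.card Ω) :
    ∃ (g k k₁ : G) (x y w : Ω), x ∈ Γ ∧ x ∈ g • Γ ∧ (∀ z ∈ Γ, z ∈ g • Γ → z = x) ∧
      k • x = y ∧ (g * k₁ * g⁻¹) • x = w ∧ y ≠ x ∧ w ≠ x ∧ y ∈ Γ ∧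
      (∀ z ∉ Γ, k • z = z) ∧ (∀ z ∉ Γ, k₁ • z = z) := by
  obtain ⟨x, hx, g, hxg, hone⟩ := exists_translate_meet_one hprim hJ h1 hn
  obtain ⟨y, hy, hyx⟩ := Finset.exists_mem_ne h1 x
  obtain ⟨k, hk, hkxy⟩ := hJ x hx y hy
  obtain ⟨x1, hx1, hgx1⟩ := Finset.mem_smul_finset.1 hxg
  obtain ⟨w1, hw1, hw1x⟩ := Finset.exists_mem_ne h1 x1
  obtain ⟨k₁, hk₁, hk₁xw⟩ := hJ x1 hx1 w1 hw1
  refine ⟨g, k, k₁, x, y, g • w1, hx, hxg, hone, hkxy, ?_, hyx, ?_, hy, hk, hk₁⟩
  · rw [← hgx1, mul_smul, mul_smul, inv_smul_smul, hk₁xw]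
  · rw [← hgx1]; exact fun h => hw1x (MulAction.injective g h)

theorem exists_threeCycle (hprim : IsPreprimitive G Ω) {Γ : Finset Ω}
    (hJ : IsJordanSet G (Γ : Set Ω)) (h1 : 1 < Γ.card) (hn : 2 * Γ.card < Fintype.card Ω) :
    ∃ c : G, (MulAction.toPerm c : Equiv.Perm Ω).IsThreeCycle := by
  obtain ⟨g, k, k₁, x, y, w, hx, hxg, hone, hy, hw, hyx, hwx, -, hk, hk₁⟩ :=
    exists_commutator_data hprim hJ h1 hn
  have hl : ∀ z ∉ ((g • Γ : Finset Ω) : Set Ω), (g * k₁ * g⁻¹) • z = z := by
    intro z hz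
    rw [mul_smul, mul_smul, hk₁ _ fun h => hz ?_, smul_inv_smul]
    exact Finset.mem_coe.2 (Finset.inv_smul_mem_iff.1 h)
  obtain ⟨he, hyw⟩ := commutator_threeCycle (Γ := (Γ : Set Ω)) hk hl hx hxg hone hy hw hyx hwx
  exact ⟨_, he ▸ Equiv.Perm.isThreeCycle_swap_mul_swap_same hyx.symm hwx.symm hyw⟩

/-- A primitive group with a Jordan set of fewer than half of the points induces every even permutation. -/
theorem alternating_le (hprim : IsPreprimitive G Ω) {Γ : Finset Ω}
    (hJ : IsJordanSet G (Γ : Set Ω)) (h1 : 1 < Γ.card) (hn : 2 * Γ.card < Fintype.card Ω) :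
    alternatingGroup Ω ≤ (MulAction.toPermHom G Ω).range := by
  obtain ⟨c, hc⟩ := exists_threeCycle hprim hJ h1 hn
  refine Equiv.Perm.alternatingGroup_le_of_isPreprimitive_of_isThreeCycle_mem ?_ hc ⟨c, rfl⟩
  haveI := hprim
  let f : Ω →ₑ[(MulAction.toPermHom G Ω).rangeRestrict] Ω :=
    { toFun := id
      map_smul' := fun _ _ => rfl }
  exact IsPreprimitive.of_surjective (f := f) Function.surjective_id

end CfsgLib.Recognition.Jordan
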