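import Mathlib
import Cfsg.Agent.Lib.Recognition.SimplePower

/-!
A point stabilizer acting on the coordinates of a minimal normal power of a simple group;
the socle of a 2-transitive group (Burnside).
-/

set_option autoImplicit false

namespace CfsgLib.Recognition.PowerAction

open MulAction

/-- Automorphisms of a power of a nonabelian simple group map factors into factors. -/
theorem aut_single {S : Type*} [Group S] [Finite S] [IsSimpleGroup S] (hS : ∃ a b : S, a * b ≠ b * a)
    {m : ℕ} (φ : (Fin m → S) ≃* (Fin m → S)) (i : Fin m) :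
    ∃ j, ∀ s : S, ∃ u, φ (Pi.mulSingle i s) = Pi.mulSingle j u := by
  classical
  obtain ⟨s₀, hs₀⟩ := exists_ne (1 : S)
  have hne : φ (Pi.mulSingle i s₀) ≠ 1 := by simpa using hs₀
  obtain ⟨j, hj⟩ := Function.ne_iff.1 hne
  refine ⟨j, ?_⟩
  have hn : ((MonoidHom.mulSingle (fun _ : Fin m => S) i).range.map φ.toMonoidHom).Normal :=
    Subgroup.Normal.map (SimplePower.normal_factor i) _ φ.surjective
  have hmem : ∀ t : S, ∃ u, φ (Pi.mulSingle i u) = Pi.mulSingle j t := by
    intro t
    obtain ⟨_, ⟨u, rfl⟩, hu⟩ := SimplePower.mulSingle_mem_of_normal hS hn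
      (x := φ (Pi.mulSingle i s₀)) ⟨_, ⟨s₀, rfl⟩, rfl⟩ hj t
    exact ⟨u, hu⟩
  choose g hg using hmem
  have hginj : Function.Injective g := fun a b h => by
    have := hg a; rw [h, hg b] at this
    exact (Pi.mulSingle_injective (M := fun _ : Fin m => S) j this).symm
  intro s
  obtain ⟨t, rfl⟩ := (Finite.injective_iff_surjective.1 hginj) s
  exact ⟨t, hg t⟩

theorem single_index_unique {S : Type*} [Group S] {m : ℕ} {i j : Fin m} {s u : S} (hs : s ≠ 1)
    (h : (Pi.mulSingle i s : Fin m → S) = Pi.mulSingle j u) : i = j := by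
  classical
  by_contra hne
  have := congrFun h i
  rw [Pi.mulSingle_eq_same, Pi.mulSingle_eq_of_ne hne] at this
  exact hs this

theorem power_decomp {G : Type*} [Group G] [Finite G] (N : Subgroup G) [N.Normal] (hN : N ≠ ⊥)
    (hmin : ∀ M : Subgroup G, M.Normal → M ≤ N → M = ⊥ ∨ M = N) (hnc : ¬ IsMulCommutative N) :
    ∃ (S : Type) (_ : Group S) (_ : Finite S) (_ : IsSimpleGroup S) (m : ℕ),
      (∃ a b : S, a * b ≠ b * a) ∧ 1 ≤ m ∧ Nonempty (N ≃* (Fin m → S)) := by
  classical
  have hchar : ∀ H : Subgroup N, H.Characteristic → H = ⊥ ∨ H = ⊤ := by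
    intro H hH
    haveI := hH
    rcases hmin (H.map N.subtype) inferInstance (Subgroup.map_subtype_le H) with h | h
    · exact Or.inl (Subgroup.map_injective N.subtype_injective (h.trans (Subgroup.map_bot _).symm))
    · refine Or.inr (Subgroup.map_injective N.subtype_injective (h.trans ?_))
      rw [← MonoidHom.range_eq_map, Subgroup.range_subtype]
  haveI : Nontrivial N := N.nontrivial_iff_ne_bot.mpr hN
  obtain ⟨S, _, _, m, hm, ⟨e⟩⟩ := CfsgLib.Classical22.charSimple_iff.1 hchar
  have hS : ∃ a b : S, a * b ≠ b * a := by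
    by_contra hab
    simp only [not_exists, not_not] at hab
    exact hnc ⟨⟨fun a b => e.injective (by rw [map_mul, map_mul]; funext i; exact hab _ _)⟩⟩
  haveI : Finite (Fin m → S) := Finite.of_equiv _ e.toEquiv
  have hfin : Finite S := Finite.of_injective
    (fun s : S => (Pi.mulSingle (⟨0, by omega⟩ : Fin m) s : Fin m → S))
    (Pi.mulSingle_injective (M := fun _ : Fin m => S) _)
  exact ⟨S, inferInstance, hfin, inferInstance, m, hS, hm, ⟨e⟩⟩

section

variable {G : Type*} [Group G] [Finite G] {Ω : Type*} [MulAction G Ω] [FaithfulSMul G Ω]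
  (α : Ω) (N : Subgroup G) [hNn : N.Normal]

variable {S : Type*} [Group S] {m : ℕ} (e : N ≃* (Fin m → S))

/-- The point attached to an element of the power. -/
def pt (x : Fin m → S) : Ω := ((e.symm x : N) : G) • α

/-- Conjugation seen in the power. -/
def act (g : G) : (Fin m → S) ≃* (Fin m → S) := e.symm.trans ((MulAut.conjNormal g).trans e)

omit [Finite G] [FaithfulSMul G Ω] in
theorem smul_pt {g : G} (hg : g • α = α) (x : Fin m → S) : g • pt α N e x = pt α N e (act N e g x) := by
  have hg' : g⁻¹ • α = α := by rw [inv_smul_eq_iff, hg]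
  simp [pt, act, MulAut.conjNormal_apply, mul_smul, hg']

omit [Finite G] in
theorem act_mul (g h : G) (x : Fin m → S) : act N e (g * h) x = act N e g (act N e h x) := by
  simp [act, map_mul, MulAut.mul_apply]

omit [Finite G] [FaithfulSMul G Ω] in
theorem pt_eq_iff (x y : Fin m → S) : pt α N e x = pt α N e y ↔
    x⁻¹ * y ∈ (stabilizer N α).map e.toMonoidHom := by
  rw [show (stabilizer N α).map e.toMonoidHom = (stabilizer N α).comap e.symm.toMonoidHom from
    Subgroup.map_equiv_eq_comap_symm e _]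
  rw [Subgroup.mem_comap, mem_stabilizer_iff, Subgroup.smul_def]
  simp only [pt, MulEquiv.coe_toMonoidHom, map_mul, map_inv, Subgroup.coe_mul, Subgroup.coe_inv,
    mul_smul, inv_smul_eq_iff]
  exact eq_comm

theorem transitive_factors [IsPretransitive N Ω] [Finite S] [IsSimpleGroup S] (hS : ∃ a b : S, a * b ≠ b * a)
    (hN : ∀ M : Subgroup G, M.Normal → M ≤ N → M = ⊥ ∨ M = N) (i j : Fin m) :
    ∃ h ∈ stabilizer G α, ∀ s : S, ∃ u, act N e h (Pi.mulSingle i s) = Pi.mulSingle j u := by
  classical
  obtain ⟨s₀, hs₀⟩ := exists_ne (1 : S)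
  let J : Set (Fin m) := {l | ∃ h ∈ stabilizer G α, ∀ s : S, ∃ u, act N e h (Pi.mulSingle i s) = Pi.mulSingle l u}
  let R : Subgroup (Fin m → S) :=
    { carrier := {x | ∀ l, l ∉ J → x l = 1}
      one_mem' := fun l _ => rfl
      mul_mem' := fun {x y} hx hy l hl => by simp [hx l hl, hy l hl]
      inv_mem' := fun {x} hx l hl => by simp [hx l hl] }
  have hRN : ∀ n : N, ∀ x ∈ R, e n * x * (e n)⁻¹ ∈ R := fun n x hx l hl => by simp [hx l hl]
  have hmapJ : ∀ h ∈ stabilizer G α, ∀ l ∈ J, ∀ s : S, act N e h (Pi.mulSingle l s) ∈ R := by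
    intro h hh l hl s
    obtain ⟨h₀, hh₀, hu₀⟩ := hl
    obtain ⟨l', hl'⟩ := aut_single hS (act N e h) l
    obtain ⟨u, hu⟩ := hl' s
    have hl'J : l' ∈ J := by
      refine ⟨h * h₀, (stabilizer G α).mul_mem hh hh₀, fun s => ?_⟩
      obtain ⟨u₀, e₀⟩ := hu₀ s
      obtain ⟨u₁, e₁⟩ := hl' u₀
      exact ⟨u₁, by rw [act_mul, e₀, e₁]⟩
    intro c hc
    rw [hu, Pi.mulSingle_eq_of_ne (fun hcl : c = l' => hc (hcl ▸ hl'J))]
  have hRH : ∀ h ∈ stabilizer G α, ∀ x ∈ R, act N e h x ∈ R := by
    intro h hh x hx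
    have : x ∈ R.comap (act N e h).toMonoidHom := by
      refine Subgroup.pi_mem_of_mulSingle_mem x fun l => ?_
      by_cases hl : l ∈ J
      · exact hmapJ h hh l hl _
      · rw [hx l hl, Pi.mulSingle_one]; exact Subgroup.one_mem _
    exact this
  let R' : Subgroup G := (R.comap e.toMonoidHom).map N.subtype
  have hR' : R'.Normal := by
    refine ⟨?_⟩
    rintro _ ⟨⟨z, hzN⟩, hz, rfl⟩ g
    obtain ⟨n, hn⟩ := exists_smul_eq N α (g • α)
    rw [Subgroup.smul_def] at hn
    have hh : (n : G)⁻¹ * g ∈ stabilizer G α := by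
      rw [mem_stabilizer_iff, mul_smul, ← hn, inv_smul_smul]
    have h1 : act N e ((n : G)⁻¹ * g) (e ⟨z, hzN⟩) ∈ R := hRH _ hh _ hz
    have h2 := hRN n _ h1
    refine ⟨_, show n * MulAut.conjNormal ((n : G)⁻¹ * g) ⟨z, hzN⟩ * n⁻¹ ∈ R.comap e.toMonoidHom by
      rw [Subgroup.mem_comap]; simpa [act] using h2, ?_⟩
    simp [MulAut.conjNormal_apply, mul_assoc]
  have hiJ : i ∈ J := ⟨1, Subgroup.one_mem _, fun s => ⟨s, by simp [act]⟩⟩
  rcases hN R' hR' (Subgroup.map_subtype_le _) with h | h
  · exfalso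
    have hm : ((e.symm (Pi.mulSingle i s₀) : N) : G) ∈ R' :=
      ⟨_, show e.symm (Pi.mulSingle i s₀) ∈ R.comap e.toMonoidHom by
        rw [Subgroup.mem_comap]
        intro l hl
        simp [show l ≠ i from fun e' => hl (e' ▸ hiJ)], rfl⟩
    rw [h, Subgroup.mem_bot, OneMemClass.coe_eq_one] at hm
    exact hs₀ (by simpa using congrArg (fun z => e z i) hm)
  · by_contra hj
    have hm : ((e.symm (Pi.mulSingle j s₀) : N) : G) ∈ R' := h.symm ▸ (e.symm (Pi.mulSingle j s₀)).2
    obtain ⟨z, hz, hz'⟩ := hm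
    obtain rfl : z = e.symm (Pi.mulSingle j s₀) := Subtype.ext hz'
    have := (show e (e.symm (Pi.mulSingle j s₀)) ∈ R from hz) j hj
    exact hs₀ (by simpa using this)

omit [FaithfulSMul G Ω] [Finite G] in
/-- A point stabilizer element preserves the stabilizer inside the power. -/
theorem act_mem {g : G} (hg : g • α = α) {x : Fin m → S}
    (hx : x ∈ (stabilizer N α).map e.toMonoidHom) :
    act N e g x ∈ (stabilizer N α).map e.toMonoidHom := by
  have h1 : pt α N e x = pt α N e 1 := by
    rw [pt_eq_iff, mul_one]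
    exact Subgroup.inv_mem _ hx
  have h2 := congrArg (g • ·) h1
  simp only [smul_pt α N e hg, map_one] at h2
  rw [pt_eq_iff, mul_one] at h2
  simpa using Subgroup.inv_mem _ h2

/-- Coordinates are permuted. -/
theorem act_coord [Finite S] [IsSimpleGroup S] (hS : ∃ a b : S, a * b ≠ b * a) (g : G) {i j : Fin m}
    (f : S → S) (hf : ∀ s, act N e g (Pi.mulSingle i s) = Pi.mulSingle j (f s)) (x : Fin m → S) :
    act N e g x j = f (x i) := by
  classical
  let y : Fin m → S := (Pi.mulSingle i (x i))⁻¹ * x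
  have hyi : y i = 1 := by simp [y]
  have hfs : Function.Surjective f := Finite.injective_iff_surjective.1 fun a b e' => by
    have : act N e g (Pi.mulSingle i a) = act N e g (Pi.mulSingle i b) := by rw [hf, hf, e']
    exact Pi.mulSingle_injective (M := fun _ : Fin m => S) i ((act N e g).injective this)
  have hy : y ∈ ((Pi.evalMonoidHom (fun _ : Fin m => S) j).comp (act N e g).toMonoidHom).ker := by
    refine Subgroup.pi_mem_of_mulSingle_mem y fun l => ?_
    by_cases hyl : y l = 1
    · rw [hyl, Pi.mulSingle_one]; exact Subgroup.one_mem _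
    have hli : l ≠ i := fun h => hyl (h ▸ hyi)
    rw [MonoidHom.mem_ker]
    change act N e g (Pi.mulSingle l (y l)) j = 1
    obtain ⟨j', hj'⟩ := aut_single hS (act N e g) l
    obtain ⟨u, hu⟩ := hj' (y l)
    rw [hu]
    refine Pi.mulSingle_eq_of_ne (M := fun _ : Fin m => S) (fun h => ?_) u
    subst h
    obtain ⟨v, hv⟩ := hfs u
    rw [← hv, ← hf] at hu
    exact hli (single_index_unique hyl ((act N e g).injective hu))
  have hy1 : act N e g y j = 1 := hy
  have hx : x = Pi.mulSingle i (x i) * y := by simp [y]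
  conv_lhs => rw [hx, map_mul, Pi.mul_apply, hy1, mul_one, hf, Pi.mulSingle_eq_same]

include e in
/-- The stabilizer of a point in a 2-transitive group does not normalize a proper power structure. -/
theorem two_transitive_power_false [Finite S] [IsSimpleGroup S] (hS : ∃ a b : S, a * b ≠ b * a)
    [IsPretransitive N Ω] [Nontrivial Ω] (hN : ∀ M : Subgroup G, M.Normal → M ≤ N → M = ⊥ ∨ M = N)
    (hm : 2 ≤ m) (h2 : ∀ β γ : Ω, β ≠ α → γ ≠ α → ∃ h ∈ stabilizer G α, h • β = γ) : False := by
  classical
  set L : Subgroup (Fin m → S) := (stabilizer N α).map e.toMonoidHom with hL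
  have hpt : ∀ x, x ∉ L → pt α N e x ≠ α := by
    intro x hx h
    apply hx
    have h1 : pt α N e x = pt α N e 1 := h.trans (by simp [pt])
    rw [pt_eq_iff, mul_one] at h1
    simpa using L.inv_mem h1
  have hmap : ∀ x y, x ∉ L → y ∉ L → ∃ h ∈ stabilizer G α, (act N e h x)⁻¹ * y ∈ L := by
    intro x y hx hy
    obtain ⟨h, hh, hxy⟩ := h2 _ _ (hpt x hx) (hpt y hy)
    refine ⟨h, hh, ?_⟩
    rw [smul_pt α N e (mem_stabilizer_iff.1 hh), pt_eq_iff] at hxy
    exact hxy
  have hLtop : L ≠ ⊤ := by
    intro htop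
    obtain ⟨γ, hγ⟩ := exists_ne α
    obtain ⟨n, hn⟩ := exists_smul_eq N α γ
    obtain ⟨n', hn', he⟩ := (htop ▸ Subgroup.mem_top (e n) : e n ∈ L)
    rw [e.injective he] at hn'
    exact hγ (hn.symm.trans hn')
  haveI : Nontrivial (Fin m) := Fin.nontrivial_iff_two_le.2 hm
  let P : Fin m → Subgroup S := fun i => L.map (Pi.evalMonoidHom (fun _ : Fin m => S) i)
  have hPmem : ∀ {x} (i), x ∈ L → x i ∈ P i := fun i hx => ⟨_, hx, rfl⟩
  by_cases hproj : ∃ i, P i ≠ ⊤
  · obtain ⟨i, hi⟩ := hproj
    obtain ⟨t, ht⟩ : ∃ t, t ∉ P i := by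
      by_contra h
      exact hi (eq_top_iff.2 fun x _ => by_contra fun hx => h ⟨x, hx⟩)
    obtain ⟨j, hj⟩ := exists_ne i
    have hPj : P j ≠ ⊤ := by
      intro htop
      obtain ⟨g, hg, hgij⟩ := transitive_factors α N e hS hN i j
      choose f hf using hgij
      obtain ⟨l, hl, hlj⟩ := (htop ▸ Subgroup.mem_top (f t) : f t ∈ P j)
      have hg' : g⁻¹ • α = α := by rw [inv_smul_eq_iff, mem_stabilizer_iff.1 hg]
      let l' := act N e g⁻¹ l
      have hl' : l' ∈ L := act_mem α N e hg' hl
      have hll : act N e g l' = l := by rw [← act_mul, mul_inv_cancel]; simp [act]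
      have hc := act_coord N e hS g f hf l'
      rw [hll] at hc
      have hfinj : Function.Injective f := fun a b e' => by
        have : act N e g (Pi.mulSingle i a) = act N e g (Pi.mulSingle i b) := by rw [hf, hf, e']
        exact Pi.mulSingle_injective (M := fun _ : Fin m => S) i ((act N e g).injective this)
      have hlj' : l j = f t := hlj
      rw [hlj'] at hc
      exact ht (hfinj hc ▸ hPmem i hl')
    obtain ⟨s, hs⟩ : ∃ s, s ∉ P j := by
      by_contra h
      exact hPj (eq_top_iff.2 fun x _ => by_contra fun hx => h ⟨x, hx⟩)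
    have hx : (Pi.mulSingle i t : Fin m → S) ∉ L := fun h => ht (by simpa using hPmem i h)
    have hy : (Pi.mulSingle i t * Pi.mulSingle j s : Fin m → S) ∉ L := fun h =>
      ht (by simpa [hj.symm] using hPmem i h)
    obtain ⟨h, hh, hxy⟩ := hmap _ _ hx hy
    obtain ⟨l, hl⟩ := aut_single hS (act N e h) i
    obtain ⟨u, hu⟩ := hl t
    rw [hu] at hxy
    by_cases hli : l = i
    · subst hli
      exact hs (by simpa [hj] using hPmem j hxy)
    · exact ht (by simpa [hj.symm, Ne.symm hli] using hPmem i hxy)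
  · simp only [not_exists, not_not] at hproj
    have hK : ∀ (i : Fin m) (s : S), Pi.mulSingle i s ∈ L → s = 1 := by
      intro i s hs
      by_contra hs1
      have hnorm : (L.comap (MonoidHom.mulSingle (fun _ : Fin m => S) i)).Normal := by
        refine ⟨fun y hy g => ?_⟩
        obtain ⟨l, hl, hlg⟩ := (hproj i ▸ Subgroup.mem_top g : g ∈ P i)
        have : l * Pi.mulSingle i y * l⁻¹ ∈ L :=
          L.mul_mem (L.mul_mem hl (by simpa using hy)) (L.inv_mem hl)
        rw [Subgroup.mem_comap]
        convert this using 1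
        funext k
        rcases eq_or_ne k i with rfl | hk
        · simp [← hlg]
        · simp [hk]
      have htop := hnorm.eq_bot_or_eq_top.resolve_left fun h => hs1 (Subgroup.mem_bot.1
        (h ▸ (Subgroup.mem_comap.2 (by simpa using hs) : s ∈ L.comap (MonoidHom.mulSingle (fun _ : Fin m => S) i))))
      apply hLtop
      rw [eq_top_iff]
      intro x _
      refine Subgroup.pi_mem_of_mulSingle_mem x fun l => ?_
      obtain ⟨h, hh, hil⟩ := transitive_factors α N e hS hN i l
      choose f hf using hil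
      have hfs : Function.Surjective f := Finite.injective_iff_surjective.1 fun a b e' => by
        have : act N e h (Pi.mulSingle i a) = act N e h (Pi.mulSingle i b) := by rw [hf, hf, e']
        exact Pi.mulSingle_injective (M := fun _ : Fin m => S) i ((act N e h).injective this)
      obtain ⟨a, ha⟩ := hfs (x l)
      rw [← ha, ← hf]
      refine act_mem α N e (mem_stabilizer_iff.1 hh) ?_
      have := (htop ▸ Subgroup.mem_top a : a ∈ L.comap (MonoidHom.mulSingle (fun _ : Fin m => S) i))
      exact Subgroup.mem_comap.1 this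
    obtain ⟨a, b, c, ha, hb, hc, hab, hac, hbc⟩ :=
      SimplePower.exists_three_elements (SimplePower.not_isSolvable_of_simple hS)
    obtain ⟨i, -⟩ := exists_pair_ne (Fin m)
    have key : ∀ t u : S, t ≠ 1 → u ≠ 1 → orderOf t = orderOf u := by
      intro t u ht hu
      obtain ⟨h, hh, hxy⟩ := hmap _ _ (fun h => ht (hK i t h)) (fun h => hu (hK i u h))
      obtain ⟨j, hj⟩ := aut_single hS (act N e h) i
      obtain ⟨v, hv⟩ := hj t
      have hov : orderOf v = orderOf t := by
        rw [← orderOf_injective (MonoidHom.mulSingle (fun _ : Fin m => S) j)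
          (Pi.mulSingle_injective (M := fun _ : Fin m => S) j) v,
          ← orderOf_injective (MonoidHom.mulSingle (fun _ : Fin m => S) i)
          (Pi.mulSingle_injective (M := fun _ : Fin m => S) i) t]
        change orderOf (Pi.mulSingle (M := fun _ : Fin m => S) j v) = orderOf (Pi.mulSingle (M := fun _ : Fin m => S) i t)
        rw [← hv, MulEquiv.orderOf_eq]
      rw [hv] at hxy
      rcases eq_or_ne j i with rfl | hji
      · rw [← Pi.mulSingle_inv, ← Pi.mulSingle_mul] at hxy
        rw [← hov, inv_mul_eq_one.1 (hK j _ hxy)]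
      · have hcm : Commute (Pi.mulSingle j v : Fin m → S)⁻¹ (Pi.mulSingle i u) :=
          (Pi.mulSingle_commute (f := fun _ : Fin m => S) hji v u).inv_left
        have h1 : u ^ orderOf v = 1 := by
          refine hK i _ ?_
          have := L.pow_mem hxy (orderOf v)
          rw [hcm.mul_pow, inv_pow, ← Pi.mulSingle_pow, ← Pi.mulSingle_pow, pow_orderOf_eq_one,
            Pi.mulSingle_one, inv_one, one_mul] at this
          exact this
        have h2 : v ^ orderOf u = 1 := by
          refine hK j _ ?_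
          have := L.pow_mem hxy (orderOf u)
          rw [hcm.mul_pow, inv_pow, ← Pi.mulSingle_pow, ← Pi.mulSingle_pow, pow_orderOf_eq_one,
            Pi.mulSingle_one, mul_one] at this
          simpa using L.inv_mem this
        rw [← hov]
        exact Nat.dvd_antisymm (orderOf_dvd_of_pow_eq_one h2) (orderOf_dvd_of_pow_eq_one h1)
    exact hab (key a b ha hb)

end

end CfsgLib.Recognition.PowerAction
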