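import Mathlib

/-!
Lucido's three primes lemma and its consequence for solvable normal subgroups.
-/

set_option autoImplicit false

namespace CfsgLib.Recognition

/-- A Frobenius group `A ⋊ ⟨y⟩` cannot act on a non-trivial `p`-group with both `A` and `y`
fixed-point-free. -/
theorem no_double_fpf {p r : ℕ} {V F : Type*} [CommGroup V] [Group F] [Finite F]
    (hexp : ∀ v : V, v ^ p = 1) (φ : F →* MulAut V) (A : Subgroup F) (y : F) (hyr : orderOf y = r)
    (hA1 : A ≠ ⊥) (hr : 1 < r) (hcop : p.Coprime (Nat.card A))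
    (hnorm : ∀ a ∈ A, y * a * y⁻¹ ∈ A)
    (hfA : ∀ i, 0 < i → i < r → ∀ a ∈ A, Commute (y ^ i) a → a = 1)
    (hAV : ∀ a ∈ A, a ≠ 1 → ∀ v, φ a v = v → v = 1) (hyV : ∀ v, φ y v = v → v = 1) (v : V) :
    v = 1 := by
  classical
  haveI := Fintype.ofFinite F
  haveI := Fintype.ofFinite A
  obtain ⟨⟨a0, ha0⟩, ha01⟩ : ∃ a : A, a ≠ 1 := by
    haveI := (Subgroup.nontrivial_iff_ne_bot A).2 hA1
    exact exists_ne 1
  have ha0' : a0 ≠ 1 := fun e => ha01 (Subtype.ext e)
  have sumA : ∀ w : V, ∏ a : A, φ (a : F) w = 1 := by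
    intro w
    refine hAV a0 ha0 ha0' _ ?_
    rw [map_prod, ← Equiv.prod_comp (Equiv.mulLeft (⟨a0, ha0⟩ : A)) (fun a : A => φ (a : F) w)]
    exact Finset.prod_congr rfl fun a _ => by simp [map_mul]
  have sumY : ∀ w : V, ∏ i ∈ Finset.range r, φ (y ^ i) w = 1 := by
    intro w
    refine hyV _ ?_
    rw [map_prod]
    simp only [← MulAut.mul_apply, ← map_mul, ← pow_succ']
    obtain ⟨r, rfl⟩ : ∃ s, r = s + 1 := ⟨r - 1, by omega⟩
    rw [Finset.prod_range_succ, Finset.prod_range_succ' (fun i => φ (y ^ i) w), ← hyr,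
      pow_orderOf_eq_one, pow_zero]
  have pown : ∀ i : ℕ, ∀ a ∈ A, y ^ i * a * (y ^ i)⁻¹ ∈ A := by
    intro i
    induction i with
    | zero => intro a ha; simpa using ha
    | succ i ih =>
      intro a ha
      have := hnorm _ (ih a ha)
      convert this using 1
      rw [pow_succ']; group
  have key : ∀ i, 0 < i → i < r → ∏ a : A, φ ((a : F) * y ^ i * (a : F)⁻¹) v = 1 := by
    intro i hi hir
    let f : A → A := fun a =>
      ⟨(a : F) * (y ^ i * (a : F)⁻¹ * (y ^ i)⁻¹), mul_mem a.2 (pown i _ (inv_mem a.2))⟩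
    have hf : Function.Bijective f := by
      refine Finite.injective_iff_bijective.1 fun a b h => ?_
      have h' := congrArg (fun z : F => (b : F)⁻¹ * z * (y ^ i * (a : F))) (congrArg Subtype.val h)
      simp only [f] at h'
      have hc : Commute (y ^ i) ((b : F)⁻¹ * a) := by
        have e1 : (b : F)⁻¹ * ((a : F) * (y ^ i * (a : F)⁻¹ * (y ^ i)⁻¹)) * (y ^ i * a) =
            (b : F)⁻¹ * a * y ^ i := by group
        have e2 : (b : F)⁻¹ * ((b : F) * (y ^ i * (b : F)⁻¹ * (y ^ i)⁻¹)) * (y ^ i * a) =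
            y ^ i * ((b : F)⁻¹ * a) := by group
        rw [e1, e2] at h'
        exact h'.symm
      exact (Subtype.ext (inv_mul_eq_one.1 (hfA i hi hir _ (mul_mem (inv_mem b.2) a.2) hc))).symm
    rw [← sumA (φ (y ^ i) v), ← Equiv.prod_comp (Equiv.ofBijective f hf) (fun a : A => φ (a : F) (φ (y ^ i) v))]
    refine Finset.prod_congr rfl fun a _ => ?_
    rw [← MulAut.mul_apply, ← map_mul]
    congr 2
    simp only [Equiv.ofBijective_apply, f]
    group
  have hS : ∏ a : A, ∏ i ∈ Finset.range r, φ ((a : F) * y ^ i * (a : F)⁻¹) v = 1 := by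
    refine Finset.prod_eq_one fun a _ => ?_
    simp only [map_mul, MulAut.mul_apply]
    rw [← map_prod, sumY, map_one]
  rw [Finset.prod_comm, Finset.range_eq_Ico, Finset.prod_eq_prod_Ico_succ_bot (by omega : 0 < r)] at hS
  rw [Finset.prod_eq_one (s := Finset.Ico (0 + 1) r) (fun i hi => key i
    (by have := Finset.mem_Ico.1 hi; omega) (Finset.mem_Ico.1 hi).2), mul_one] at hS
  simp only [pow_zero, mul_one, mul_inv_cancel, map_one, MulAut.one_apply, Finset.prod_const,
    Finset.card_univ, ← Nat.card_eq_fintype_card] at hS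
  refine orderOf_eq_one_iff.1 ?_
  exact Nat.eq_one_of_dvd_coprimes hcop (orderOf_dvd_of_pow_eq_one (hexp v))
    (orderOf_dvd_of_pow_eq_one hS)

/-- Elements of order dividing `p` of the centre of a subgroup. -/
def centreTorsion {G : Type*} [Group G] (P : Subgroup G) (p : ℕ) : Subgroup G where
  carrier := {v | v ∈ P ∧ v ^ p = 1 ∧ ∀ u ∈ P, u * v = v * u}
  one_mem' := ⟨one_mem _, one_pow _, fun u _ => by simp⟩
  mul_mem' {a b} ha hb := ⟨mul_mem ha.1 hb.1, by
    rw [(show Commute a b from hb.2.2 a ha.1).mul_pow, ha.2.1, hb.2.1, one_mul],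
    fun u hu => ((show Commute u a from ha.2.2 u hu).mul_right (hb.2.2 u hu)).eq⟩
  inv_mem' {a} ha := ⟨inv_mem ha.1, by rw [inv_pow, ha.2.1, inv_one],
    fun u hu => (show Commute u a from ha.2.2 u hu).inv_right.eq⟩

theorem centreTorsion_conj {G : Type*} [Group G] (P : Subgroup G) (p : ℕ) {g : G}
    (hg : g ∈ Subgroup.normalizer (P : Set G)) {v : G} (hv : v ∈ centreTorsion P p) :
    g * v * g⁻¹ ∈ centreTorsion P p := by
  refine ⟨(Subgroup.mem_normalizer_iff.1 hg v).1 hv.1, by rw [conj_pow, hv.2.1, mul_one, mul_inv_cancel],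
    fun u hu => ?_⟩
  have hu' := (Subgroup.mem_normalizer_iff''.1 hg u).1 hu
  have h := congrArg (fun z => g * z * g⁻¹) (hv.2.2 _ hu')
  convert h using 1 <;> group

theorem centreTorsion_ne_bot {G : Type*} [Group G] [Finite G] {P : Subgroup G} {p : ℕ}
    [hp : Fact p.Prime] (hP : IsPGroup p P) (hP1 : P ≠ ⊥) : centreTorsion P p ≠ ⊥ := by
  haveI := (Subgroup.nontrivial_iff_ne_bot P).2 hP1
  haveI := hP.center_nontrivial
  obtain ⟨x, hx⟩ := exists_prime_orderOf_dvd_card' p
    (show p ∣ Nat.card (Subgroup.center P) by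
      obtain ⟨n, hn, he⟩ := (hP.to_subgroup _).nontrivial_iff_card.1 (inferInstance : Nontrivial (Subgroup.center P))
      rw [he]; exact dvd_pow_self p (by omega))
  intro h
  have hm : ((x : P) : G) ∈ centreTorsion P p := by
    refine ⟨(x : P).2, ?_, fun u hu => congrArg Subtype.val (Subgroup.mem_center_iff.1 x.2 ⟨u, hu⟩)⟩
    rw [← hx, ← Subgroup.orderOf_coe, ← Subgroup.orderOf_coe, pow_orderOf_eq_one]
  rw [h, Subgroup.mem_bot] at hm
  have : x = 1 := Subtype.ext (Subtype.ext hm)
  rw [this, orderOf_one] at hx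
  exact hp.out.ne_one hx.symm

theorem orderOf_mul_primes {G : Type*} [Group G] {p q : ℕ} (hp : p.Prime) (hq : q.Prime) (hpq : p ≠ q)
    {a b : G} (hc : Commute a b) (ha : a ^ p = 1) (ha1 : a ≠ 1) (hb : b ^ q = 1) (hb1 : b ≠ 1) :
    orderOf (a * b) = p * q := by
  haveI := Fact.mk hp
  haveI := Fact.mk hq
  have e1 := orderOf_eq_prime ha ha1
  have e2 := orderOf_eq_prime hb hb1
  rw [hc.orderOf_mul_eq_mul_orderOf_of_coprime (by rw [e1, e2]; exact (Nat.coprime_primes hp hq).2 hpq),
    e1, e2]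

/-- Lucido's three primes lemma. -/
theorem three_primes {G : Type*} [Group G] [Finite G] (K M : Subgroup G) [K.Normal] [M.Normal]
    (hKM : K ≤ M) {p q r : ℕ} (hp : p.Prime) (hq : q.Prime) (hr : r.Prime)
    (hpq : p ≠ q) (hpr : p ≠ r) (hqr : q ≠ r)
    (hpK : p ∣ Nat.card K) (hqM : q ∣ K.relIndex M) (hrG : r ∣ M.index) :
    (∃ x : G, orderOf x = p * q) ∨ (∃ x : G, orderOf x = p * r) ∨ (∃ x : G, orderOf x = q * r) := by
  classical
  by_contra hcon
  push_neg at hcon
  obtain ⟨n1, n2, n3⟩ := hcon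
  haveI := Fact.mk hp
  haveI := Fact.mk hq
  haveI := Fact.mk hr
  obtain ⟨PK⟩ : Nonempty (Sylow p K) := inferInstance
  set P := (PK : Subgroup K).map K.subtype
  have hP : IsPGroup p P := PK.2.map _
  have hP1 : P ≠ ⊥ := by
    intro h
    have h1 := Subgroup.card_map_of_injective (K := (PK : Subgroup K)) K.subtype_injective
    rw [show (PK : Subgroup K).map K.subtype = ⊥ from h, Subgroup.card_bot] at h1
    have := PK.dvd_card_of_dvd_card hpK
    rw [← h1] at this
    exact hp.ne_one (Nat.dvd_one.1 this)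
  set N := Subgroup.normalizer (P : Set G)
  have hNK : N ⊔ K = ⊤ := Sylow.normalizer_sup_eq_top PK
  have hqN : q ∣ Nat.card (M ⊓ N : Subgroup G) := by
    have e : (M ⊓ N) ⊔ K = M := by
      refine le_antisymm (sup_le inf_le_left hKM) fun m hm => ?_
      obtain ⟨a, ha, k, hk, rfl⟩ := Subgroup.mem_sup_of_normal_right.1 (hNK.ge (Subgroup.mem_top m))
      exact mul_mem (Subgroup.mem_sup_left ⟨(Subgroup.mul_mem_cancel_right M (hKM hk)).1 hm, ha⟩)
        (Subgroup.mem_sup_right hk)
    have h := Subgroup.relIndex_sup_right (M ⊓ N) K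
    rw [e] at h
    rw [h] at hqM
    exact hqM.trans (Subgroup.relIndex_dvd_card _ _)
  obtain ⟨QM⟩ : Nonempty (Sylow q (M.subgroupOf N)) := inferInstance
  set Q0 := (QM : Subgroup (M.subgroupOf N)).map (M.subgroupOf N).subtype
  set Q := Q0.map N.subtype
  have hQ : IsPGroup q Q := (QM.2.map _).map _
  have hQ1 : Q ≠ ⊥ := by
    intro h
    have hc : Nat.card (M.subgroupOf N) = Nat.card (M ⊓ N : Subgroup G) := by
      rw [← Subgroup.card_map_of_injective N.subtype_injective, Subgroup.subgroupOf_map_subtype]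
    have h1 : Nat.card Q = Nat.card (QM : Subgroup (M.subgroupOf N)) := by
      rw [Subgroup.card_map_of_injective N.subtype_injective,
        Subgroup.card_map_of_injective (M.subgroupOf N).subtype_injective]
    rw [h, Subgroup.card_bot] at h1
    have := QM.dvd_card_of_dvd_card (hc ▸ hqN)
    rw [← h1] at this
    exact hq.ne_one (Nat.dvd_one.1 this)
  have hsup : Subgroup.normalizer (Q0 : Set N) ⊔ M.subgroupOf N = ⊤ := Sylow.normalizer_sup_eq_top QM
  have hrN : r ∣ Nat.card (Subgroup.normalizer (Q0 : Set N)) := by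
    have h := Subgroup.relIndex_sup_right (Subgroup.normalizer (Q0 : Set N)) (M.subgroupOf N)
    rw [hsup, Subgroup.relIndex_top_right] at h
    have h2 : (M.subgroupOf N).index = M.index := by
      have h3 := Subgroup.relIndex_sup_right N M
      rw [show N ⊔ M = ⊤ from top_le_iff.1 (hNK ▸ sup_le_sup_left hKM N), Subgroup.relIndex_top_right] at h3
      exact h3.symm
    rw [← h2, h] at hrG
    exact hrG.trans (Subgroup.relIndex_dvd_card _ _)
  obtain ⟨⟨y, hyQ⟩, hy⟩ := exists_prime_orderOf_dvd_card' r hrN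
  rw [Subgroup.orderOf_mk] at hy
  have hyr : orderOf (y : G) = r := by rw [Subgroup.orderOf_coe]; exact hy
  have hQN : Q ≤ N := Subgroup.map_subtype_le _
  have hyNQ : (y : G) ∈ Subgroup.normalizer (Q : Set G) := by
    refine Subgroup.mem_normalizer_fintype fun n hn => ?_
    obtain ⟨m, hm, rfl⟩ := hn
    exact ⟨y * m * y⁻¹, (Subgroup.mem_normalizer_iff.1 hyQ m).1 hm, by simp⟩
  -- the modules
  set V := centreTorsion P p
  set A := centreTorsion Q q
  have hV1 : V ≠ ⊥ := centreTorsion_ne_bot hP hP1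
  have hA1 : A ≠ ⊥ := centreTorsion_ne_bot hQ hQ1
  letI : CommGroup V := { (inferInstance : Group V) with
    mul_comm := fun a b => Subtype.ext (b.2.2.2 _ a.2.1) }
  have hconj : ∀ g ∈ N, ∀ v ∈ V, g * v * g⁻¹ ∈ V := fun g hg v hv => centreTorsion_conj P p hg hv
  let φ : N →* MulAut V :=
    { toFun := fun g =>
        { toFun := fun v => ⟨g * v * (g : G)⁻¹, hconj g g.2 v v.2⟩
          invFun := fun v => ⟨(g : G)⁻¹ * v * g, by simpa using hconj _ (inv_mem g.2) v v.2⟩
          left_inv := fun v => Subtype.ext (by show (g : G)⁻¹ * (g * v * (g : G)⁻¹) * g = v; group)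
          right_inv := fun v => Subtype.ext (by show (g : G) * ((g : G)⁻¹ * v * g) * (g : G)⁻¹ = v; group)
          map_mul' := fun v w => Subtype.ext (by
            show (g : G) * (v * w) * (g : G)⁻¹ = g * v * (g : G)⁻¹ * (g * w * (g : G)⁻¹); group) }
      map_one' := MulEquiv.ext fun v => Subtype.ext (by
        show ((1 : N) : G) * v * ((1 : N) : G)⁻¹ = v; simp)
      map_mul' := fun g h => MulEquiv.ext fun v => Subtype.ext (by
        show ((g * h : N) : G) * v * ((g * h : N) : G)⁻¹ = g * (h * v * (h : G)⁻¹) * (g : G)⁻¹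
        rw [Subgroup.coe_mul]; group) }
  have hfix : ∀ (g : N) (v : V), φ g v = v → Commute (v : G) g := fun g v h =>
    (mul_inv_eq_iff_eq_mul.1 (congrArg Subtype.val h)).symm
  haveI : Nontrivial V := (Subgroup.nontrivial_iff_ne_bot V).2 hV1
  obtain ⟨v, hv⟩ := exists_ne (1 : V)
  refine hv (no_double_fpf (p := p) (fun w => Subtype.ext w.2.2.1) φ (A.subgroupOf N) y hy ?_
    hr.one_lt ?_ ?_ ?_ ?_ ?_ v)
  · intro h
    rw [Subgroup.subgroupOf_eq_bot] at h
    exact hA1 (h.eq_bot_of_le fun a ha => hQN ha.1)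
  · have hAq : IsPGroup q (A.subgroupOf N) := fun a => ⟨1, by
      rw [pow_one]; exact Subtype.ext (Subtype.ext a.2.2.1)⟩
    obtain ⟨k, hk⟩ := IsPGroup.iff_card.1 hAq
    rw [hk]; exact Nat.Coprime.pow_right _ ((Nat.coprime_primes hp hq).2 hpq)
  · intro a ha
    exact centreTorsion_conj Q q hyNQ ha
  · intro i hi hir a ha hc
    by_contra ha1
    have hyi : (y ^ i : N) ≠ 1 := fun h => by
      have := Nat.le_of_dvd hi (orderOf_dvd_of_pow_eq_one h)
      omega
    refine n3 ((a : G) * ((y ^ i : N) : G)) (orderOf_mul_primes hq hr hqr ?_ ha.2.1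
      (fun e => ha1 (Subtype.ext e)) ?_ (fun e => hyi (Subtype.ext e)))
    · exact congrArg (Subtype.val : N → G) hc.symm.eq
    · rw [← Subgroup.coe_pow, ← pow_mul, mul_comm, pow_mul, ← hy, pow_orderOf_eq_one, one_pow,
        Subgroup.coe_one]
  · intro a ha ha1 w hw
    by_contra hw1
    exact n1 _ (orderOf_mul_primes hp hq hpq (hfix a w hw) w.2.2.1 (fun e => hw1 (Subtype.ext e))
      ha.2.1 (fun e => ha1 (Subtype.ext e)))
  · intro w hw
    by_contra hw1
    exact n2 _ (orderOf_mul_primes hp hr hpr (hfix y w hw) w.2.2.1 (fun e => hw1 (Subtype.ext e))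
      (by rw [← hyr, pow_orderOf_eq_one]) (fun e => by rw [e, orderOf_one] at hyr; exact hr.ne_one hyr.symm))

/-- Among pairwise non-adjacent primes at most one divides a solvable normal subgroup, if there are
at least three of them. -/
theorem eq_of_dvd_solvable_normal {G : Type*} [Group G] [Finite G] (K : Subgroup G) [K.Normal]
    (hK : Group.IsSolvable K) {r s t : ℕ} (hr : r.Prime) (hs : s.Prime) (ht : t.Prime)
    (hrs : r ≠ s) (hrt : r ≠ t) (hst : s ≠ t)
    (hrK : r ∣ Nat.card K) (hsK : s ∣ Nat.card K) (htG : t ∣ Nat.card G) :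
    (∃ x : G, orderOf x = r * s) ∨ (∃ x : G, orderOf x = r * t) ∨ (∃ x : G, orderOf x = s * t) := by
  classical
  obtain ⟨n, hn⟩ := hK.solvable
  let E : ℕ → Subgroup G := fun
    | 0 => ⊤
    | i + 1 => (derivedSeries K i).map K.subtype
  haveI hE : ∀ i, (E i).Normal := fun
    | 0 => inferInstanceAs (⊤ : Subgroup G).Normal
    | i + 1 => inferInstanceAs ((derivedSeries K i).map K.subtype).Normal
  have hmono : ∀ i j, i ≤ j → E j ≤ E i := by
    intro i j hij
    induction j, hij using Nat.le_induction with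
    | base => exact le_rfl
    | succ j hij ih =>
      refine le_trans ?_ ih
      cases j with
      | zero => exact le_top
      | succ j => exact Subgroup.map_mono (derivedSeries_antitone K (Nat.le_succ j))
  let f : ℕ → ℕ := fun u => Nat.findGreatest (fun i => u ∣ Nat.card (E i)) (n + 1)
  have hcardE : ∀ i, Nat.card (E (i + 1)) = Nat.card (derivedSeries K i) := fun i =>
    Subgroup.card_map_of_injective K.subtype_injective
  have hspec : ∀ u, u.Prime → u ∣ Nat.card G →
      f u ≤ n ∧ u ∣ Nat.card (E (f u)) ∧ ∀ j, f u < j → j ≤ n + 1 → ¬ u ∣ Nat.card (E j) := by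
    intro u hu hud
    have h1 : u ∣ Nat.card (E (f u)) :=
      Nat.findGreatest_spec (P := fun i => u ∣ Nat.card (E i)) (Nat.zero_le _)
        (by show u ∣ Nat.card (⊤ : Subgroup G); rwa [Subgroup.card_top])
    refine ⟨?_, h1, fun j hj hjn => Nat.findGreatest_is_greatest (P := fun i => u ∣ Nat.card (E i)) hj hjn⟩
    by_contra h
    have : f u = n + 1 := le_antisymm (Nat.findGreatest_le _) (by omega)
    rw [this, hcardE, hn, Subgroup.card_bot] at h1
    exact hu.ne_one (Nat.dvd_one.1 h1)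
  have hpos : ∀ u, u ∣ Nat.card K → 1 ≤ f u := fun u hu =>
    Nat.le_findGreatest (by omega) (by rw [hcardE, derivedSeries_zero, Subgroup.card_top]; exact hu)
  have hord : ∀ a b c : ℕ, a.Prime → b.Prime → c.Prime → a ≠ b → a ≠ c → b ≠ c →
      a ∣ Nat.card G → b ∣ Nat.card G → c ∣ Nat.card G → f c < f b → f b < f a →
      (∃ x : G, orderOf x = a * b) ∨ (∃ x : G, orderOf x = a * c) ∨ (∃ x : G, orderOf x = b * c) := by
    intro a b c ha hb hc hab hac hbc ea eb ec h1 h2
    obtain ⟨han, ha1, -⟩ := hspec a ha ea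
    obtain ⟨hbn, hb1, hb2⟩ := hspec b hb eb
    obtain ⟨hcn, hc1, hc2⟩ := hspec c hc ec
    refine three_primes (E (f a)) (E (f b)) (hmono _ _ h2.le) ha hb hc hab hac hbc ha1 ?_ ?_
    · have hm : Nat.card (E (f a)) * (E (f a)).relIndex (E (f b)) = Nat.card (E (f b)) := by
        rw [← Subgroup.relIndex_bot_left, ← Subgroup.relIndex_bot_left,
          Subgroup.relIndex_mul_relIndex _ _ _ bot_le (hmono _ _ h2.le)]
      rw [← hm] at hb1
      exact (hb.dvd_mul.1 hb1).resolve_left (hb2 _ h2 (by omega))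
    · rw [← (E (f b)).card_mul_index] at ec
      exact (hc.dvd_mul.1 ec).resolve_left (hc2 _ h1 (by omega))
  have hsame : ∀ a b : ℕ, a.Prime → b.Prime → a ≠ b → a ∣ Nat.card G → b ∣ Nat.card G →
      1 ≤ f a → f a = f b → ∃ x : G, orderOf x = a * b := by
    intro a b ha hb hab ea eb hpos' he
    obtain ⟨han, ha1, ha2⟩ := hspec a ha ea
    obtain ⟨-, hb1, hb2⟩ := hspec b hb eb
    rw [← he] at hb1 hb2
    obtain ⟨i, hi⟩ : ∃ i, f a = i + 1 := ⟨f a - 1, by omega⟩
    have ha2' := ha2 (i + 2) (by omega) (by omega)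
    have hb2' := hb2 (i + 2) (by omega) (by omega)
    rw [hi, hcardE] at ha1 hb1
    rw [show i + 2 = (i + 1) + 1 from rfl, hcardE] at ha2' hb2'
    set D := derivedSeries K i
    set D' := (derivedSeries K (i + 1)).subgroupOf D
    haveI : (derivedSeries K (i + 1)).Normal := derivedSeries_normal K (i + 1)
    haveI : D'.Normal := inferInstanceAs ((derivedSeries K (i + 1)).subgroupOf D).Normal
    have hD' : Nat.card D' = Nat.card (derivedSeries K (i + 1)) :=
      Nat.card_congr (Subgroup.subgroupOfEquivOfLe (derivedSeries_antitone K (Nat.le_succ i))).toEquiv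
    have hm := Subgroup.card_eq_card_quotient_mul_card_subgroup D'
    haveI := Fact.mk ha
    haveI := Fact.mk hb
    rw [hm, hD'] at ha1 hb1
    obtain ⟨xa, hxa⟩ := exists_prime_orderOf_dvd_card' a ((ha.dvd_mul.1 ha1).resolve_right ha2')
    obtain ⟨xb, hxb⟩ := exists_prime_orderOf_dvd_card' b ((hb.dvd_mul.1 hb1).resolve_right hb2')
    have hc : Commute xa xb := by
      induction xa using QuotientGroup.induction_on with | H u => ?_
      induction xb using QuotientGroup.induction_on with | H w => ?_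
      show ((u * w : D) : D ⧸ D') = ((w * u : D) : D ⧸ D')
      rw [QuotientGroup.eq]
      show ((u * w : D)⁻¹ * (w * u) : D).1 ∈ derivedSeries K (i + 1)
      rw [derivedSeries_succ]
      have := Subgroup.commutator_mem_commutator (inv_mem u.2) (inv_mem w.2)
      rw [commutatorElement_def] at this
      convert inv_mem this using 1
      simp only [Subgroup.coe_mul, InvMemClass.coe_inv]
      group
    have hab' : orderOf (xa * xb) = a * b := orderOf_mul_primes ha hb hab hc
      (hxa ▸ pow_orderOf_eq_one xa) (fun e => by rw [e, orderOf_one] at hxa; exact ha.ne_one hxa.symm)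
      (hxb ▸ pow_orderOf_eq_one xb) (fun e => by rw [e, orderOf_one] at hxb; exact hb.ne_one hxb.symm)
    obtain ⟨w, hw⟩ := QuotientGroup.mk_surjective (xa * xb)
    have hdvd : a * b ∣ orderOf w := by
      rw [← hab', ← hw]; exact orderOf_map_dvd (QuotientGroup.mk' D') w
    refine ⟨((w : K) : G) ^ (orderOf w / (a * b)), ?_⟩
    rw [show orderOf w = orderOf ((w : K) : G) by rw [Subgroup.orderOf_coe, Subgroup.orderOf_coe]] at hdvd ⊢
    exact orderOf_pow_orderOf_div (orderOf_pos _).ne' hdvd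
  have hKG : Nat.card K ∣ Nat.card G := K.card_subgroup_dvd_card
  have hrG := hrK.trans hKG
  have hsG := hsK.trans hKG
  have h1r := hpos r hrK
  have h1s := hpos s hsK
  rcases eq_or_ne (f r) (f s) with e1 | e1
  · exact Or.inl (hsame r s hr hs hrs hrG hsG h1r e1)
  rcases eq_or_ne (f r) (f t) with e2 | e2
  · exact Or.inr (Or.inl (hsame r t hr ht hrt hrG htG h1r e2))
  rcases eq_or_ne (f s) (f t) with e3 | e3
  · exact Or.inr (Or.inr (hsame s t hs ht hst hsG htG h1s e3))
  rcases Nat.lt_or_gt_of_ne e1 with a1 | a1 <;> rcases Nat.lt_or_gt_of_ne e2 with a2 | a2 <;>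
    rcases Nat.lt_or_gt_of_ne e3 with a3 | a3
  · rcases hord t s r ht hs hr hst.symm hrt.symm hrs.symm htG hsG hrG (by omega) (by omega) with h | h | h
    · exact Or.inr (Or.inr (by rwa [mul_comm] at h))
    · exact Or.inr (Or.inl (by rwa [mul_comm] at h))
    · exact Or.inl (by rwa [mul_comm] at h)
  · rcases hord s t r hs ht hr hst hrs.symm hrt.symm hsG htG hrG (by omega) (by omega) with h | h | h
    · exact Or.inr (Or.inr h)
    · exact Or.inl (by rwa [mul_comm] at h)
    · exact Or.inr (Or.inl (by rwa [mul_comm] at h))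
  · omega
  · rcases hord s r t hs hr ht hrs.symm hst hrt hsG hrG htG (by omega) (by omega) with h | h | h
    · exact Or.inl (by rwa [mul_comm] at h)
    · exact Or.inr (Or.inr h)
    · exact Or.inr (Or.inl h)
  · rcases hord t r s ht hr hs hrt.symm hst.symm hrs htG hrG hsG (by omega) (by omega) with h | h | h
    · exact Or.inr (Or.inl (by rwa [mul_comm] at h))
    · exact Or.inr (Or.inr (by rwa [mul_comm] at h))
    · exact Or.inl h
  · omega
  · rcases hord r t s hr ht hs hrt hrs hst.symm hrG htG hsG (by omega) (by omega) with h | h | h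
    · exact Or.inr (Or.inl h)
    · exact Or.inl h
    · exact Or.inr (Or.inr (by rwa [mul_comm] at h))
  · rcases hord r s t hr hs ht hrs hrt hst hrG hsG htG (by omega) (by omega) with h | h | h
    · exact Or.inl h
    · exact Or.inr (Or.inl h)
    · exact Or.inr (Or.inr h)

end CfsgLib.Recognition
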